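import Mathlib

/-!
# Roots of characteristic polynomials in the algebraic closure of a finite field

Tools for prime graph statements: Frobenius orbits of the roots of a characteristic polynomial, and
the existence of a multiple root in presence of a commuting nilpotent.
-/

set_option autoImplicit false
set_option linter.unusedSectionVars false

namespace Cfsg.Agent.Lib.Classical.Herm.PGRoots

open Polynomial Matrix Module

variable {F : Type*} [Field F] [Fintype F]
variable {ι : Type*} [Fintype ι] [DecidableEq ι]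

local notation "Ω" => AlgebraicClosure F
local notation "q" => Fintype.card F

/-- The characteristic polynomial, over the algebraic closure. -/
noncomputable abbrev chi (A : Matrix ι ι F) : (AlgebraicClosure F)[X] :=
  A.charpoly.map (algebraMap F (AlgebraicClosure F))

theorem chi_eq (A : Matrix ι ι F) : chi A = (A.map (algebraMap F Ω)).charpoly :=
  (Matrix.charpoly_map A (algebraMap F Ω)).symm

theorem chi_monic (A : Matrix ι ι F) : (chi A).Monic := A.charpoly_monic.map _

theorem chi_natDegree (A : Matrix ι ι F) : (chi A).natDegree = Fintype.card ι := by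
  rw [chi_eq, Matrix.charpoly_natDegree_eq_dim]

theorem chi_ne_zero (A : Matrix ι ι F) : chi A ≠ 0 := (chi_monic A).ne_zero

theorem exists_eigen {A : Matrix ι ι F} {μ : Ω} (h : (chi A).IsRoot μ) :
    ∃ v : ι → Ω, v ≠ 0 ∧ (A.map (algebraMap F Ω)) *ᵥ v = μ • v := by
  have h1 : (Matrix.toLin' (A.map (algebraMap F Ω))).charpoly.IsRoot μ := by
    rw [Matrix.charpoly_toLin', ← chi_eq]
    exact h
  have h2 := (Module.End.hasEigenvalue_iff_isRoot_charpoly _ _).2 h1
  obtain ⟨v, hv⟩ := h2.exists_hasEigenvector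
  refine ⟨v, hv.2, ?_⟩
  have := hv.apply_eq_smul
  simpa using this

theorem map_pow_mulVec (T : Matrix ι ι Ω) {v : ι → Ω} {μ : Ω} (h : T *ᵥ v = μ • v) (t : ℕ) :
    (T ^ t) *ᵥ v = μ ^ t • v := by
  induction t with
  | zero => simp
  | succ t ih =>
    rw [pow_succ, ← Matrix.mulVec_mulVec, h, Matrix.mulVec_smul, ih, smul_smul, pow_succ, mul_comm]

/-- A relation `A ^ t = c` is inherited by the roots. -/
theorem root_pow {A : Matrix ι ι F} {μ : Ω} (h : (chi A).IsRoot μ) {t : ℕ} {c : F}
    (hA : A ^ t = c • (1 : Matrix ι ι F)) : μ ^ t = algebraMap F Ω c := by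
  obtain ⟨v, hv0, hv⟩ := exists_eigen h
  have h1 := map_pow_mulVec _ hv t
  have h2 : (A.map (algebraMap F Ω)) ^ t = (algebraMap F Ω c) • (1 : Matrix ι ι Ω) := by
    have : (A.map (algebraMap F Ω)) = (algebraMap F Ω).mapMatrix A := rfl
    rw [this, ← map_pow, hA]
    ext i j
    by_cases hij : i = j <;> simp [hij]
  rw [h2, Matrix.smul_mulVec, Matrix.one_mulVec] at h1
  obtain ⟨i, hi⟩ := Function.ne_iff.1 hv0
  have h3 := congrFun h1 i
  simp only [Pi.smul_apply, smul_eq_mul] at h3
  have hi' : v i ≠ 0 := hi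
  exact (mul_right_cancel₀ hi' h3).symm

/-- Frobenius as a ring homomorphism. -/
theorem frob_apply (μ : Ω) : FiniteField.frobeniusAlgHom F Ω μ = μ ^ q := rfl

theorem frob_injective : Function.Injective (FiniteField.frobeniusAlgHom F Ω) :=
  (FiniteField.frobeniusAlgHom F Ω).toRingHom.injective

theorem pow_card_pow_injective (j : ℕ) : Function.Injective (fun x : Ω => x ^ (q ^ j)) := by
  induction j with
  | zero =>
    intro x y h
    simpa using h
  | succ j ih =>
    intro x y h
    simp only [pow_succ, pow_mul] at h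
    exact ih (frob_injective h)

theorem frob_root {A : Matrix ι ι F} {μ : Ω} (h : (chi A).IsRoot μ) : (chi A).IsRoot (μ ^ q) := by
  have h1 : aeval μ A.charpoly = 0 := by
    rw [aeval_def, ← eval_map]
    exact h
  have h2 : aeval (FiniteField.frobeniusAlgHom F Ω μ) A.charpoly = 0 := by
    rw [Polynomial.aeval_algHom_apply, h1, map_zero]
  change eval _ _ = 0
  rw [eval_map, ← aeval_def]
  exact h2

theorem frob_pow_root {A : Matrix ι ι F} {μ : Ω} (h : (chi A).IsRoot μ) (j : ℕ) :
    (chi A).IsRoot (μ ^ (q ^ j)) := by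
  induction j with
  | zero => simpa using h
  | succ j ih =>
    rw [pow_succ, pow_mul]
    exact frob_root ih

theorem frob_mult (A : Matrix ι ι F) (μ : Ω) :
    (chi A).rootMultiplicity (μ ^ q) = (chi A).rootMultiplicity μ := by
  have h := eq_rootMultiplicity_map (p := chi A) (f := (FiniteField.frobeniusAlgHom F Ω).toRingHom)
    (RingHom.injective _) μ
  have h2 : (chi A).map (FiniteField.frobeniusAlgHom F Ω).toRingHom = chi A := by
    rw [chi, Polynomial.map_map]
    congr 1
    exact (FiniteField.frobeniusAlgHom F Ω).comp_algebraMap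
  rw [h2] at h
  exact h.symm

theorem frob_pow_mult (A : Matrix ι ι F) (μ : Ω) (j : ℕ) :
    (chi A).rootMultiplicity (μ ^ (q ^ j)) = (chi A).rootMultiplicity μ := by
  induction j with
  | zero => simp
  | succ j ih =>
    rw [pow_succ, pow_mul, frob_mult, ih]

/-- A semisimple matrix is determined by the orders of its eigenvalues. -/
theorem pow_eq_one_of_roots {A : Matrix ι ι F} {N t : ℕ} (hN : A ^ N = 1) (hN0 : (N : F) ≠ 0)
    (h : ∀ μ : Ω, (chi A).IsRoot μ → μ ^ t = 1) : A ^ t = 1 := by
  classical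
  rcases Nat.eq_zero_or_pos t with rfl | ht
  · simp
  have hint : IsIntegral F A := Algebra.IsIntegral.isIntegral A
  set m := minpoly F A with hm
  have hmc : m ∣ A.charpoly := Matrix.minpoly_dvd_charpoly A
  have hmN : m ∣ X ^ N - C 1 := by
    apply minpoly.dvd
    simp [hN]
  have hsep : (X ^ N - C (1 : F)).Separable := separable_X_pow_sub_C 1 hN0 one_ne_zero
  have hsm : m.Separable := hsep.of_dvd hmN
  have hsm' : (m.map (algebraMap F Ω)).Separable := hsm.map
  have hnd := nodup_roots hsm'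
  have hmonic : (m.map (algebraMap F Ω)).Monic := (minpoly.monic hint).map _
  have hsplit : (m.map (algebraMap F Ω)).Splits := IsAlgClosed.splits _
  have h1 := hsplit.eq_prod_roots_of_monic hmonic
  have hpoly : (X ^ t - C (1 : Ω)) ≠ 0 := by
    intro h0
    have := congrArg natDegree h0
    rw [natDegree_X_pow_sub_C] at this
    simp at this
    omega
  have hle : (m.map (algebraMap F Ω)).roots ≤ (X ^ t - C (1 : Ω)).roots := by
    rw [Multiset.le_iff_subset hnd]
    intro μ hμ
    rw [mem_roots hpoly]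
    have hμ' : (m.map (algebraMap F Ω)).IsRoot μ := isRoot_of_mem_roots hμ
    have hc : (chi A).IsRoot μ := by
      have : m.map (algebraMap F Ω) ∣ chi A := Polynomial.map_dvd _ hmc
      exact IsRoot.dvd hμ' this
    simp [IsRoot, h μ hc]
  have hd : m.map (algebraMap F Ω) ∣ (X ^ t - C (1 : Ω)) := by
    rw [h1]
    exact (Multiset.prod_X_sub_C_dvd_iff_le_roots hpoly _).2 hle
  have hd2 : m ∣ X ^ t - C 1 := by
    rw [← Polynomial.map_dvd_map (algebraMap F Ω) (algebraMap F Ω).injective (minpoly.monic hint)]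
    simpa using hd
  have h2 := (minpoly.dvd_iff (A := F) (x := A)).1 hd2
  simpa [sub_eq_zero] using h2

/-- If all eigenvalues `μ` satisfy `μ ^ t = c` then a power of the matrix is a scalar. -/
theorem pow_eq_scalar_of_roots (p : ℕ) [Fact p.Prime] [CharP F p] {A : Matrix ι ι F} {t m : ℕ} {c : Ω}
    (hm : Fintype.card ι ≤ p ^ m) (h : ∀ μ : Ω, (chi A).IsRoot μ → μ ^ t = c) :
    (A.map (algebraMap F Ω)) ^ (t * p ^ m) = (c ^ p ^ m) • (1 : Matrix ι ι Ω) := by
  classical
  haveI : CharP Ω p := charP_of_injective_algebraMap (algebraMap F Ω).injective p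
  have hsplit : (chi A).Splits := IsAlgClosed.splits _
  have h1 := hsplit.eq_prod_roots_of_monic (chi_monic A)
  set P : (AlgebraicClosure F)[X] := X ^ t - C c with hP
  have hcard : (chi A).roots.card = Fintype.card ι := by
    rw [← chi_natDegree A, hsplit.natDegree_eq_card_roots]
  have hd : ∀ s : Multiset Ω, (∀ x ∈ s, x ^ t = c) → (s.map (fun a => X - C a)).prod ∣ P ^ s.card := by
    intro s
    induction s using Multiset.induction_on with
    | empty => simp
    | cons a s ih =>
      intro hs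
      rw [Multiset.map_cons, Multiset.prod_cons, Multiset.card_cons, pow_succ, mul_comm]
      apply mul_dvd_mul (ih fun x hx => hs x (Multiset.mem_cons_of_mem hx))
      rw [dvd_iff_isRoot]
      simp [IsRoot, hP, hs a (Multiset.mem_cons_self a s)]
  have h2 : chi A ∣ P ^ Fintype.card ι := by
    conv_lhs => rw [h1]
    rw [← hcard]
    exact hd _ fun x hx => h x (isRoot_of_mem_roots hx)
  have h3 : chi A ∣ P ^ p ^ m := h2.trans (pow_dvd_pow _ hm)
  have h4 : P ^ p ^ m = X ^ (t * p ^ m) - C (c ^ p ^ m) := by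
    haveI : ExpChar (AlgebraicClosure F)[X] p := ExpChar.prime Fact.out
    rw [hP, sub_pow_expChar_pow, ← pow_mul, ← C_pow]
  rw [h4] at h3
  obtain ⟨g, hg⟩ := h3
  have h5 := congrArg (aeval (A.map (algebraMap F Ω))) hg
  rw [map_mul, chi_eq, Matrix.aeval_self_charpoly, zero_mul] at h5
  simp only [map_sub, map_pow, aeval_X, aeval_C, sub_eq_zero] at h5
  rw [h5, ← map_pow, Algebra.algebraMap_eq_smul_one]

/-- A nonzero commuting nilpotent forces a multiple root. -/
theorem exists_multiple_root {A N : Matrix ι ι F} (hc : A * N = N * A) (hN : IsNilpotent N) (hN0 : N ≠ 0) :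
    ∃ μ : Ω, 2 ≤ (chi A).rootMultiplicity μ := by
  classical
  by_contra hcon
  push Not at hcon
  set T : Module.End Ω (ι → Ω) := Matrix.toLin' (A.map (algebraMap F Ω)) with hT
  set S : Module.End Ω (ι → Ω) := Matrix.toLin' (N.map (algebraMap F Ω)) with hS
  have hTS : Commute T S := by
    change T.comp S = S.comp T
    rw [hS, hT]
    rw [← Matrix.toLin'_mul, ← Matrix.toLin'_mul]
    congr 1
    have h1 : (N.map (algebraMap F Ω)) = (algebraMap F Ω).mapMatrix N := rfl
    have h2 : (A.map (algebraMap F Ω)) = (algebraMap F Ω).mapMatrix A := rfl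
    rw [h1, h2, ← map_mul, ← map_mul, hc]
  obtain ⟨m, hm⟩ := hN
  have hSm : S ^ m = 0 := by
    have h1 : (N.map (algebraMap F Ω)) = (algebraMap F Ω).mapMatrix N := rfl
    have h2 : S ^ m = Matrix.toLin' ((algebraMap F Ω).mapMatrix (N ^ m)) := by
      rw [map_pow, hS, h1]
      exact (map_pow (Matrix.toLinAlgEquiv' (R := Ω) (n := ι)) _ m).symm
    rw [h2, hm, map_zero, map_zero]
  have hkill : ∀ (μ : Ω), ∀ v ∈ T.maxGenEigenspace μ, S v = 0 := by
    intro μ v hv
    by_cases hv0 : v = 0
    · simp [hv0]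
    have hdim : finrank Ω (T.maxGenEigenspace μ) ≤ 1 := by
      have h1 := LinearMap.finrank_maxGenEigenspace_eq T μ
      have h2 : T.charpoly = chi A := by
        rw [hT, Matrix.charpoly_toLin', chi_eq]
      rw [h2] at h1
      have := hcon μ
      omega
    have hmaps := Module.End.mapsTo_maxGenEigenspace_of_comm hTS μ
    have hSv := hmaps hv
    have hv' : (⟨v, hv⟩ : T.maxGenEigenspace μ) ≠ 0 := by
      intro h
      apply hv0
      exact congrArg Subtype.val h
    have hdim1 : finrank Ω (T.maxGenEigenspace μ) = 1 :=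
      le_antisymm hdim (Module.finrank_pos_iff_exists_ne_zero.2 ⟨_, hv'⟩)
    obtain ⟨c, hc'⟩ := (finrank_eq_one_iff_of_nonzero' (⟨v, hv⟩ : T.maxGenEigenspace μ) hv').1 hdim1
      ⟨S v, hSv⟩
    have hc'' : c • v = S v := congrArg Subtype.val hc'
    have hpow : ∀ j : ℕ, (S ^ j) v = c ^ j • v := by
      intro j
      induction j with
      | zero => simp
      | succ j ih =>
        rw [pow_succ, Module.End.mul_apply, ← hc'', map_smul, ih, smul_smul, pow_succ, mul_comm]
    have h0 := hpow m
    rw [hSm] at h0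
    have h1 : c ^ m = 0 := by
      by_contra hne
      have := smul_ne_zero hne hv0
      apply this
      rw [← h0]
      rfl
    have h2 : c = 0 := by
      by_contra hne
      exact pow_ne_zero _ hne h1
    rw [← hc'', h2, zero_smul]
  have hall : S = 0 := by
    apply LinearMap.ext
    intro v
    have hv : v ∈ (⊤ : Submodule Ω (ι → Ω)) := Submodule.mem_top
    rw [← Module.End.iSup_maxGenEigenspace_eq_top T] at hv
    induction hv using Submodule.iSup_induction' with
    | mem μ x hx => simpa using hkill μ x hx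
    | zero => simp
    | add x y _ _ hx hy => simp [map_add, hx, hy]
  apply hN0
  have h1 : (algebraMap F Ω).mapMatrix N = 0 := by
    apply (Matrix.toLin' (R := Ω) (n := ι) (m := ι)).injective
    rw [map_zero]
    exact hall
  ext i j
  have h2 := congrFun (congrFun h1 i) j
  simpa using h2

/-- Sums of multiplicities are bounded by the degree. -/
theorem sum_mult_le (A : Matrix ι ι F) (S : Finset Ω) :
    ∑ x ∈ S, (chi A).rootMultiplicity x ≤ Fintype.card ι := by
  classical
  have h1 : ∑ x ∈ S, (chi A).rootMultiplicity x ≤ ∑ x ∈ S ∪ (chi A).roots.toFinset, (chi A).roots.count x := by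
    have : ∀ x, (chi A).rootMultiplicity x = (chi A).roots.count x := fun x => (count_roots _).symm
    simp_rw [this]
    exact Finset.sum_le_sum_of_subset Finset.subset_union_left
  have h2 : ∑ x ∈ S ∪ (chi A).roots.toFinset, (chi A).roots.count x = (chi A).roots.card := by
    rw [← Finset.sum_subset (Finset.subset_union_right (s₁ := S))]
    · exact Multiset.toFinset_sum_count_eq _
    · intro x _ hx
      exact Multiset.count_eq_zero.2 (by simpa using hx)
  have h3 := card_roots' (chi A)
  rw [chi_natDegree] at h3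
  omega

theorem one_le_mult {A : Matrix ι ι F} {μ : Ω} (h : (chi A).IsRoot μ) : 1 ≤ (chi A).rootMultiplicity μ :=
  (rootMultiplicity_pos (chi_ne_zero A)).2 h

/-- The Frobenius orbit. -/
noncomputable def orb (μ : Ω) (d : ℕ) : Finset Ω :=
  open scoped _root_.Classical in (Finset.range d).image (fun j => μ ^ (q ^ j))

theorem mem_orb {μ x : Ω} {d : ℕ} : x ∈ orb μ d ↔ ∃ j, j < d ∧ μ ^ (q ^ j) = x := by
  simp [orb]

theorem card_orb {μ : Ω} {d : ℕ} (h : ∀ i j, i < d → j < d → μ ^ (q ^ i) = μ ^ (q ^ j) → i = j) :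
    (orb μ d).card = d := by
  classical
  unfold orb
  rw [Finset.card_image_of_injOn, Finset.card_range]
  intro i hi j hj hij
  exact h i j (by simpa using hi) (by simpa using hj) hij

theorem orb_root {A : Matrix ι ι F} {μ : Ω} (h : (chi A).IsRoot μ) (d : ℕ) {x : Ω} (hx : x ∈ orb μ d) :
    (chi A).IsRoot x := by
  obtain ⟨j, -, rfl⟩ := mem_orb.1 hx
  exact frob_pow_root h j

theorem orb_mult (A : Matrix ι ι F) (μ : Ω) (d : ℕ) {x : Ω} (hx : x ∈ orb μ d) :
    (chi A).rootMultiplicity x = (chi A).rootMultiplicity μ := by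
  obtain ⟨j, -, rfl⟩ := mem_orb.1 hx
  exact frob_pow_mult A μ j

/-- Orders are preserved along the orbit. -/
theorem orderOf_pow_card (μ : Ω) (j : ℕ) : orderOf (μ ^ (q ^ j)) = orderOf μ :=
  orderOf_injective (powMonoidHom (q ^ j)) (pow_card_pow_injective j) μ

theorem orb_orderOf {μ x : Ω} {d : ℕ} (hx : x ∈ orb μ d) : orderOf x = orderOf μ := by
  obtain ⟨j, -, rfl⟩ := mem_orb.1 hx
  exact orderOf_pow_card μ j

section Arith

variable {r : ℕ} [hr : Fact r.Prime]

theorem cast_ne_zero (hq : ¬ r ∣ q) : ((q : ℕ) : ZMod r) ≠ 0 := by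
  rwa [Ne, ZMod.natCast_eq_zero_iff]

theorem dvd_of_pow_eq {μ : Ω} (hμ : μ ≠ 0) (hro : r ∣ orderOf μ) (hq : ¬ r ∣ q) {i j : ℕ} (hij : i ≤ j)
    (h : μ ^ (q ^ i) = μ ^ (q ^ j)) : orderOf ((q : ℕ) : ZMod r) ∣ j - i := by
  have hq1 : 1 ≤ q := Fintype.card_pos
  have hle : q ^ i ≤ q ^ j := Nat.pow_le_pow_right hq1 hij
  have h1 : μ ^ (q ^ j - q ^ i) = 1 := by
    have h2 : μ ^ (q ^ j) = μ ^ (q ^ i) * μ ^ (q ^ j - q ^ i) := by
      rw [← pow_add, Nat.add_sub_cancel' hle]
    rw [← h] at h2
    exact (mul_left_cancel₀ (pow_ne_zero _ hμ) (by rw [mul_one]; exact h2)).symm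
  have h2 := (orderOf_dvd_of_pow_eq_one h1)
  have h3 : r ∣ q ^ j - q ^ i := hro.trans h2
  have h4 := (ZMod.natCast_eq_zero_iff _ r).2 h3
  rw [Nat.cast_sub hle, Nat.cast_pow, Nat.cast_pow, sub_eq_zero] at h4
  apply orderOf_dvd_of_pow_eq_one
  have h5 : ((q : ℕ) : ZMod r) ^ j = ((q : ℕ) : ZMod r) ^ i * ((q : ℕ) : ZMod r) ^ (j - i) := by
    rw [← pow_add, Nat.add_sub_cancel' hij]
  rw [h5] at h4
  exact (mul_left_cancel₀ (pow_ne_zero _ (cast_ne_zero hq)) (by rw [mul_one]; exact h4))

/-- Injectivity of the orbit for elements of order divisible by `r`. -/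
theorem orb_inj {μ : Ω} (hμ : μ ≠ 0) (hro : r ∣ orderOf μ) (hq : ¬ r ∣ q) {k : ℕ}
    (hk : k = orderOf ((q : ℕ) : ZMod r)) {i j : ℕ} (hi : i < k) (hj : j < k)
    (h : μ ^ (q ^ i) = μ ^ (q ^ j)) : i = j := by
  subst hk
  rcases le_total i j with hij | hij
  · by_contra hne
    have h0 : 0 < j - i := by omega
    have := Nat.le_of_dvd h0 (dvd_of_pow_eq hμ hro hq hij h)
    omega
  · by_contra hne
    have h0 : 0 < i - j := by omega
    have := Nat.le_of_dvd h0 (dvd_of_pow_eq hμ hro hq hij h.symm)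
    omega

/-- A relation between `μ⁻¹` and `μ` along the orbit. -/
theorem neg_of_inv_eq {μ : Ω} (hμ : μ ≠ 0) (hro : r ∣ orderOf μ) {i j : ℕ}
    (h : (μ⁻¹) ^ (q ^ i) = μ ^ (q ^ j)) : ((q : ℕ) : ZMod r) ^ i + ((q : ℕ) : ZMod r) ^ j = 0 := by
  have h1 : μ ^ (q ^ i + q ^ j) = 1 := by
    rw [pow_add, ← h, inv_pow, mul_inv_cancel₀ (pow_ne_zero _ hμ)]
  have h3 : r ∣ q ^ i + q ^ j := hro.trans (orderOf_dvd_of_pow_eq_one h1)
  have h4 := (ZMod.natCast_eq_zero_iff _ r).2 h3
  simpa using h4

/-- If the order of `q` modulo `r` is odd then no power of `q` is minus another. -/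
theorem no_neg_of_odd (hr2 : r ≠ 2) (hq : ¬ r ∣ q) {k : ℕ} (hk : k = orderOf ((q : ℕ) : ZMod r)) (hodd : Odd k)
    {i j : ℕ} (h : ((q : ℕ) : ZMod r) ^ i + ((q : ℕ) : ZMod r) ^ j = 0) : False := by
  subst hk
  set a : ZMod r := ((q : ℕ) : ZMod r) with ha
  have ha0 : a ≠ 0 := cast_ne_zero hq
  haveI : NeZero r := ⟨hr.out.ne_zero⟩
  have h2ne : (2 : ZMod r) ≠ 0 := by
    intro h2
    have : ((2 : ℕ) : ZMod r) = 0 := by exact_mod_cast h2
    rw [ZMod.natCast_eq_zero_iff] at this
    exact hr2 ((Nat.prime_dvd_prime_iff_eq hr.out Nat.prime_two).1 this)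
  have key : ∀ i j, a ^ i + a ^ j = 0 → i ≤ j → False := by
    intro i j h hij
    have h1 : a ^ j = a ^ i * a ^ (j - i) := by rw [← pow_add, Nat.add_sub_cancel' hij]
    rw [h1] at h
    have h3 : a ^ (j - i) = -1 := by
      have : a ^ i * (1 + a ^ (j - i)) = 0 := by linear_combination h
      have := (mul_eq_zero.1 this).resolve_left (pow_ne_zero _ ha0)
      linear_combination this
    have h4 : a ^ (2 * (j - i)) = 1 := by
      rw [mul_comm, pow_mul, h3]
      simp
    have h5 : orderOf a ∣ 2 * (j - i) := orderOf_dvd_of_pow_eq_one h4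
    have h6 : orderOf a ∣ j - i := (Nat.Coprime.dvd_of_dvd_mul_left
      (Nat.coprime_comm.1 (Nat.coprime_two_left.2 hodd)) h5)
    have h7 : a ^ (j - i) = 1 := orderOf_dvd_iff_pow_eq_one.1 h6
    rw [h7] at h3
    apply h2ne
    linear_combination h3
  rcases le_total i j with hij | hij
  · exact key i j h hij
  · exact key j i (by rw [add_comm]; exact h) hij

end Arith

end Cfsg.Agent.Lib.Classical.Herm.PGRoots
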