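import Mathlib
import Cfsg.Agent.Lib.Classical.Herm.PGRoots
import Cfsg.Agent.Lib.Classical.Lin.OrderDegree

/-!
# Prime graph of `PSL_n(q)`: eigenvalue analysis
-/

set_option autoImplicit false
set_option linter.unusedSectionVars false

namespace Cfsg.Agent.Lib.Classical.Herm.PGLinear

open Polynomial Matrix Module Cfsg.Agent.Lib.Classical.Herm.PGRoots
open scoped MatrixGroups

variable {F : Type*} [Field F] [Fintype F]
variable {ι : Type*} [Fintype ι] [DecidableEq ι]

local notation "Ω" => AlgebraicClosure F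
local notation "q" => Fintype.card F

/-- A set of roots has at most `card ι` elements. -/
theorem card_le_of_roots (A : Matrix ι ι F) (S : Finset Ω) (h : ∀ x ∈ S, (chi A).IsRoot x) :
    S.card ≤ Fintype.card ι := by
  calc S.card = ∑ x ∈ S, 1 := by simp
    _ ≤ ∑ x ∈ S, (chi A).rootMultiplicity x := Finset.sum_le_sum fun x hx => one_le_mult (h x hx)
    _ ≤ _ := sum_mult_le A S

theorem root_ne_zero_of_pow {A : Matrix ι ι F} {N : ℕ} (hN : A ^ N = 1) {μ : Ω} (h : (chi A).IsRoot μ) (hN0 : N ≠ 0) :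
    μ ≠ 0 := by
  have h1 := root_pow (t := N) (c := 1) h (by simpa using hN)
  rintro rfl
  rw [zero_pow hN0, map_one] at h1
  exact zero_ne_one h1

theorem root_pow_one {A : Matrix ι ι F} {N : ℕ} (hN : A ^ N = 1) {μ : Ω} (h : (chi A).IsRoot μ) : μ ^ N = 1 := by
  have h1 := root_pow (t := N) (c := 1) h (by simpa using hN)
  simpa using h1

/-- The lower bound on the degree for a matrix of order dividing `r * s`. -/
theorem lcm_or_add_le {A : Matrix ι ι F} {r s k l : ℕ} [hr : Fact r.Prime] [hs : Fact s.Prime] (hrs : r ≠ s)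
    (hrq : ¬ r ∣ q) (hsq : ¬ s ∣ q) (hr0 : (r : F) ≠ 0) (hs0 : (s : F) ≠ 0)
    (hk : k = orderOf ((q : ℕ) : ZMod r)) (hl : l = orderOf ((q : ℕ) : ZMod s))
    (hA : A ^ (r * s) = 1) (h1 : A ^ r ≠ 1) (h2 : A ^ s ≠ 1) :
    Nat.lcm k l ≤ Fintype.card ι ∨ k + l ≤ Fintype.card ι := by
  classical
  have hN0 : ((r * s : ℕ) : F) ≠ 0 := by
    rw [Nat.cast_mul]
    exact mul_ne_zero hr0 hs0
  have hNpos : r * s ≠ 0 := Nat.mul_ne_zero hr.out.ne_zero hs.out.ne_zero
  obtain ⟨a, ha, ha'⟩ : ∃ a : Ω, (chi A).IsRoot a ∧ a ^ r ≠ 1 := by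
    by_contra hcon
    push Not at hcon
    exact h1 (pow_eq_one_of_roots hA hN0 hcon)
  obtain ⟨b, hb, hb'⟩ : ∃ b : Ω, (chi A).IsRoot b ∧ b ^ s ≠ 1 := by
    by_contra hcon
    push Not at hcon
    exact h2 (pow_eq_one_of_roots hA hN0 hcon)
  have ha0 := root_ne_zero_of_pow hA ha hNpos
  have hb0 := root_ne_zero_of_pow hA hb hNpos
  have hao : orderOf a ∣ r * s := orderOf_dvd_of_pow_eq_one (root_pow_one hA ha)
  have hbo : orderOf b ∣ r * s := orderOf_dvd_of_pow_eq_one (root_pow_one hA hb)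
  have hsa : s ∣ orderOf a := by
    by_contra hcon
    have hc : (orderOf a).Coprime s := ((Nat.Prime.coprime_iff_not_dvd hs.out).2 hcon).symm
    exact ha' (orderOf_dvd_iff_pow_eq_one.1 (hc.dvd_of_dvd_mul_right hao))
  have hrb : r ∣ orderOf b := by
    by_contra hcon
    have hc : (orderOf b).Coprime r := ((Nat.Prime.coprime_iff_not_dvd hr.out).2 hcon).symm
    exact hb' (orderOf_dvd_iff_pow_eq_one.1 (hc.dvd_of_dvd_mul_left hbo))
  -- elements whose order is divisible by both primes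
  have both : ∀ c : Ω, (chi A).IsRoot c → c ≠ 0 → r ∣ orderOf c → s ∣ orderOf c → Nat.lcm k l ≤ Fintype.card ι := by
    intro c hc hc0 hrc hsc
    have hcard : (orb c (Nat.lcm k l)).card = Nat.lcm k l := by
      apply card_orb
      intro i j hi hj hij
      have key : ∀ i j, i ≤ j → j < Nat.lcm k l → c ^ (q ^ i) = c ^ (q ^ j) → i = j := by
        intro i j hle hj h
        have h3 := dvd_of_pow_eq hc0 hrc hrq hle h
        have h4 := dvd_of_pow_eq hc0 hsc hsq hle h
        rw [← hk] at h3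
        rw [← hl] at h4
        have h5 := Nat.lcm_dvd h3 h4
        by_contra hne
        have h6 := Nat.le_of_dvd (by omega) h5
        omega
      rcases le_total i j with hle | hle
      · exact key i j hle hj hij
      · exact (key j i hle hi hij.symm).symm
    rw [← hcard]
    exact card_le_of_roots A _ fun x hx => orb_root hc _ hx
  by_cases hra : r ∣ orderOf a
  · exact Or.inl (both a ha ha0 hra hsa)
  by_cases hsb : s ∣ orderOf b
  · exact Or.inl (both b hb hb0 hrb hsb)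
  right
  have c1 : (orb a l).card = l := by
    apply card_orb
    intro i j hi hj hij
    exact orb_inj ha0 hsa hsq hl hi hj hij
  have c2 : (orb b k).card = k := by
    apply card_orb
    intro i j hi hj hij
    exact orb_inj hb0 hrb hrq hk hi hj hij
  have hdisj : Disjoint (orb a l) (orb b k) := by
    rw [Finset.disjoint_left]
    intro x hx hx'
    have h3 := orb_orderOf hx
    have h4 := orb_orderOf hx'
    apply hra
    rw [← h3, h4]
    exact hrb
  have h3 := card_le_of_roots A (orb a l ∪ orb b k) (by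
    intro x hx
    rcases Finset.mem_union.1 hx with hx | hx
    · exact orb_root ha _ hx
    · exact orb_root hb _ hx)
  rw [Finset.card_union_of_disjoint hdisj, c1, c2] at h3
  omega

/-- A non-identity matrix of prime order `s` needs dimension at least the order of `q` modulo `s`. -/
theorem ord_le_of_ne_one {A : Matrix ι ι F} {s l : ℕ} [hs : Fact s.Prime] (hsq : ¬ s ∣ q) (hs0 : (s : F) ≠ 0)
    (hl : l = orderOf ((q : ℕ) : ZMod s)) (hA : A ^ s = 1) (h1 : A ≠ 1) : l ≤ Fintype.card ι := by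
  classical
  obtain ⟨a, ha, ha'⟩ : ∃ a : Ω, (chi A).IsRoot a ∧ a ^ 1 ≠ 1 := by
    by_contra hcon
    push Not at hcon
    exact h1 (by simpa using pow_eq_one_of_roots hA hs0 hcon)
  have ha0 := root_ne_zero_of_pow hA ha hs.out.ne_zero
  have h2 : orderOf a = s := by
    apply orderOf_eq_prime (root_pow_one hA ha)
    simpa using ha'
  have c1 : (orb a l).card = l := by
    apply card_orb
    intro i j hi hj hij
    exact orb_inj ha0 (h2 ▸ dvd_rfl) hsq hl hi hj hij
  rw [← c1]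
  exact card_le_of_roots A _ fun x hx => orb_root ha _ hx

section Arith

theorem not_dvd_card (p : ℕ) [hp : Fact p.Prime] [CharP F p] {r : ℕ} (hr : r.Prime) (hrp : r ≠ p) : ¬ r ∣ q := by
  obtain ⟨f, hp', hf⟩ := FiniteField.card F p
  rw [hf]
  intro h
  exact hrp ((Nat.prime_dvd_prime_iff_eq hr hp').1 (hr.dvd_of_dvd_pow h))

theorem cast_prime_ne_zero (p : ℕ) [hp : Fact p.Prime] [CharP F p] {r : ℕ} (hr : r.Prime) (hrp : r ≠ p) :
    (r : F) ≠ 0 := by
  rw [Ne, CharP.cast_eq_zero_iff F p r]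
  intro h
  exact hrp ((Nat.prime_dvd_prime_iff_eq hp.out hr).1 h).symm

theorem one_lt_card : 1 < q := Fintype.one_lt_card

/-- `r ∣ q - 1` forces the order of `q` modulo `r` to be one. -/
theorem order_eq_one_of_dvd {r : ℕ} (h : r ∣ q - 1) : orderOf (((q : ℕ) : ZMod r)) = 1 := by
  rw [orderOf_eq_one_iff]
  have h1 : ((q - 1 : ℕ) : ZMod r) = 0 := (ZMod.natCast_eq_zero_iff _ _).2 h
  rw [Nat.cast_sub (one_lt_card (F := F)).le, Nat.cast_one, sub_eq_zero] at h1
  exact h1

theorem dvd_sub_one_of_order_eq_one {r : ℕ} (h : orderOf (((q : ℕ) : ZMod r)) = 1) : r ∣ q - 1 := by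
  rw [orderOf_eq_one_iff] at h
  rw [← ZMod.natCast_eq_zero_iff, Nat.cast_sub (one_lt_card (F := F)).le, Nat.cast_one, h, sub_self]

theorem dvd_pow_sub_one {r k d : ℕ} (hk : k = orderOf (((q : ℕ) : ZMod r))) (hd : k ∣ d) : r ∣ q ^ d - 1 := by
  have hq : 1 ≤ q ^ d := Nat.one_le_pow _ _ Fintype.card_pos
  rw [← ZMod.natCast_eq_zero_iff, Nat.cast_sub hq, Nat.cast_one, Nat.cast_pow, sub_eq_zero]
  rw [hk] at hd
  exact orderOf_dvd_iff_pow_eq_one.1 hd

theorem order_pos {r k : ℕ} [hr : Fact r.Prime] (hq : ¬ r ∣ q) (hk : k = orderOf (((q : ℕ) : ZMod r))) : 0 < k := by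
  rw [hk]
  have h1 : ((q : ℕ) : ZMod r) ^ (r - 1) = 1 := ZMod.pow_card_sub_one_eq_one (cast_ne_zero hq)
  exact Nat.pos_of_ne_zero fun h0 => by
    have h2 := orderOf_dvd_of_pow_eq_one h1
    rw [h0, zero_dvd_iff] at h2
    have := hr.out.two_le
    omega

/-- `k ∤ l` and `k ≤ l` force `lcm k l ≥ k + l`. -/
theorem add_le_lcm {k l : ℕ} (hl : 0 < l) (hk0 : 0 < k) (hkl : k ≤ l) (hnd : ¬ k ∣ l) : k + l ≤ Nat.lcm k l := by
  obtain ⟨c, hc⟩ := Nat.dvd_lcm_right k l
  have hlcm : 0 < Nat.lcm k l := Nat.lcm_pos hk0 hl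
  have hc1 : c ≠ 1 := by
    rintro rfl
    apply hnd
    rw [mul_one] at hc
    rw [← hc]
    exact Nat.dvd_lcm_left k l
  have hc0 : c ≠ 0 := by
    rintro rfl
    omega
  have : 2 ≤ c := by omega
  rw [hc]
  nlinarith

end Arith

section PSL

variable {n : ℕ}

theorem psl_pow_eq_one_iff (x : SpecialLinearGroup (Fin n) F) (t : ℕ) :
    (QuotientGroup.mk x : ProjectiveSpecialLinearGroup (Fin n) F) ^ t = 1 ↔
      ∃ c : F, (x : Matrix (Fin n) (Fin n) F) ^ t = c • (1 : Matrix (Fin n) (Fin n) F) := by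
  rw [← QuotientGroup.mk_pow, QuotientGroup.eq_one_iff, Matrix.SpecialLinearGroup.mem_center_iff]
  simp only [Fintype.card_fin]
  constructor
  · rintro ⟨c, -, hc⟩
    refine ⟨c, ?_⟩
    have hc' : scalar (Fin n) c = (x : Matrix (Fin n) (Fin n) F) ^ t := hc
    rw [← hc']
    ext i j
    by_cases hij : i = j <;> simp [hij]
  · rintro ⟨c, hc⟩
    refine ⟨c, ?_, ?_⟩
    · have h1 := congrArg Matrix.det hc
      rw [Matrix.det_pow, x.2, one_pow, Matrix.det_smul, Matrix.det_one, mul_one, Fintype.card_fin] at h1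
      exact h1.symm
    · change scalar (Fin n) c = (x : Matrix (Fin n) (Fin n) F) ^ t
      rw [hc]
      ext i j
      by_cases hij : i = j <;> simp [hij]

theorem order_eq_of_iff' {G : Type*} [Monoid G] (x : G) (o : ℕ) (h : ∀ t : ℕ, x ^ t = 1 ↔ o ∣ t) :
    orderOf x = o := by
  apply Nat.dvd_antisymm
  · rw [orderOf_dvd_iff_pow_eq_one, h]
  · rw [← h]
    exact pow_orderOf_eq_one x

theorem scalar_pow_card_sub_one (c : F) (hc : c ≠ 0) : c ^ (q - 1) = 1 := FiniteField.pow_card_sub_one_eq_one c hc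

/-- Lifting elements of order prime to `q - 1`. -/
theorem exists_lift (g : ProjectiveSpecialLinearGroup (Fin n) F) (hn : 1 ≤ n) {M : ℕ} (hM : orderOf g = M)
    (hcop : M.Coprime (q - 1)) :
    ∃ x : SpecialLinearGroup (Fin n) F, (QuotientGroup.mk x : ProjectiveSpecialLinearGroup (Fin n) F) = g ∧
      orderOf x = M := by
  classical
  obtain ⟨x₀, rfl⟩ := QuotientGroup.mk_surjective g
  obtain ⟨c, hc⟩ := (psl_pow_eq_one_iff x₀ M).1 (by rw [← hM]; exact pow_orderOf_eq_one _)
  haveI : Nonempty (Fin n) := ⟨⟨0, hn⟩⟩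
  have hc0 : c ≠ 0 := by
    rintro rfl
    have h1 := congrArg Matrix.det hc
    rw [Matrix.det_pow, x₀.2, one_pow, Matrix.det_smul, Matrix.det_one, mul_one, Fintype.card_fin,
      zero_pow (by omega)] at h1
    exact one_ne_zero h1
  have hM0 : 0 < M := by
    rw [← hM]
    exact orderOf_pos _
  obtain ⟨e, -, he⟩ := Nat.exists_mul_mod_eq_of_coprime 1 hcop.symm hM0.ne'
  set g : ProjectiveSpecialLinearGroup (Fin n) F := QuotientGroup.mk x₀ with hg
  let x : SpecialLinearGroup (Fin n) F := x₀ ^ ((q - 1) * e)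
  have hx1 : (QuotientGroup.mk x : ProjectiveSpecialLinearGroup (Fin n) F) = g := by
    change (QuotientGroup.mk (x₀ ^ ((q - 1) * e)) : ProjectiveSpecialLinearGroup (Fin n) F) = _
    rw [QuotientGroup.mk_pow, ← hg, ← pow_mod_orderOf, hM, he, ← hM, pow_mod_orderOf, pow_one]
  have hxM : x ^ M = 1 := by
    apply Subtype.ext
    change ((x₀ : Matrix (Fin n) (Fin n) F) ^ ((q - 1) * e)) ^ M = 1
    rw [← pow_mul, mul_comm, pow_mul, hc, pow_mul]
    rw [_root_.smul_pow, one_pow, scalar_pow_card_sub_one c hc0, one_smul, one_pow]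
  refine ⟨x, hx1, Nat.dvd_antisymm (orderOf_dvd_of_pow_eq_one hxM) ?_⟩
  rw [← hM, ← hx1]
  exact orderOf_map_dvd (QuotientGroup.mk' _) x

/-- Elements of `GL_n` of order prime to `q - 1` give elements of `PSL_n` of the same order. -/
theorem exists_psl_of_gl (hn : 1 ≤ n) (x : GL (Fin n) F) {M : ℕ} (hM : orderOf x = M) (hcop : M.Coprime (q - 1)) :
    ∃ g : ProjectiveSpecialLinearGroup (Fin n) F, orderOf g = M := by
  classical
  haveI : Nonempty (Fin n) := ⟨⟨0, hn⟩⟩
  have hone : ∀ c : F, c ^ M = 1 → c = 1 := by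
    intro c hc
    have hc0 : c ≠ 0 := by
      rintro rfl
      have : M ≠ 0 := by
        rw [← hM]
        exact (orderOf_pos x).ne'
      rw [zero_pow this] at hc
      exact zero_ne_one hc
    have h1 := scalar_pow_card_sub_one c hc0
    have h2 : c ^ Nat.gcd M (q - 1) = 1 := pow_gcd_eq_one.2 ⟨hc, h1⟩
    rwa [Nat.Coprime.gcd_eq_one hcop, pow_one] at h2
  have hxM : (x : Matrix (Fin n) (Fin n) F) ^ M = 1 := by
    rw [← hM, ← Units.val_pow_eq_pow_val, pow_orderOf_eq_one, Units.val_one]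
  have hdet : (x : Matrix (Fin n) (Fin n) F).det = 1 := by
    apply hone
    rw [← Matrix.det_pow, hxM, Matrix.det_one]
  let y : SpecialLinearGroup (Fin n) F := ⟨x, hdet⟩
  refine ⟨QuotientGroup.mk y, order_eq_of_iff' _ _ fun t => ?_⟩
  rw [psl_pow_eq_one_iff]
  have hval : ∀ t, (x : Matrix (Fin n) (Fin n) F) ^ t = 1 ↔ M ∣ t := by
    intro t
    rw [← hM, orderOf_dvd_iff_pow_eq_one, ← Units.val_pow_eq_pow_val]
    constructor
    · intro h
      exact Units.ext h
    · intro h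
      rw [h, Units.val_one]
  change (∃ c : F, (x : Matrix (Fin n) (Fin n) F) ^ t = c • 1) ↔ _
  constructor
  · rintro ⟨c, hc⟩
    have h1 : ((x : Matrix (Fin n) (Fin n) F) ^ t) ^ M = (c ^ M) • (1 : Matrix (Fin n) (Fin n) F) := by
      rw [hc, _root_.smul_pow, one_pow]
    rw [← pow_mul, mul_comm, pow_mul, hxM, one_pow] at h1
    have i0 : Fin n := ⟨0, hn⟩
    have h2 := congrFun (congrFun h1 i0) i0
    simp only [Matrix.one_apply_eq, Matrix.smul_apply, smul_eq_mul, mul_one] at h2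
    have h3 : c = 1 := hone c h2.symm
    rw [h3, one_smul] at hc
    exact (hval t).1 hc
  · intro h
    exact ⟨1, by rw [(hval t).2 h, one_smul]⟩

end PSL

section Models

/-- `o` is the order of an element of `GL_d`. -/
def IsOrdGL (F : Type*) [Field F] (d o : ℕ) : Prop := ∃ x : GL (Fin d) F, orderOf x = o

theorem IsOrdGL.add {a b o₁ o₂ : ℕ} (h₁ : IsOrdGL F a o₁) (h₂ : IsOrdGL F b o₂) :
    IsOrdGL F (a + b) (Nat.lcm o₁ o₂) := by
  obtain ⟨x, rfl⟩ := h₁
  obtain ⟨y, rfl⟩ := h₂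
  exact ⟨Cfsg.Agent.Lib.Classical.Lin.OrderDegree.blockHom finSumFinEquiv (x, y),
    Cfsg.Agent.Lib.Classical.Lin.OrderDegree.orderOf_blockHom _ x y⟩

theorem isOrdGL_one (d : ℕ) : IsOrdGL F d 1 := ⟨1, orderOf_one⟩

theorem IsOrdGL.mono {a n o : ℕ} (h : IsOrdGL F a o) (han : a ≤ n) : IsOrdGL F n o := by
  obtain ⟨b, rfl⟩ := Nat.exists_eq_add_of_le han
  have := h.add (isOrdGL_one (F := F) b)
  simpa using this

theorem isOrdGL_of_dvd {d M : ℕ} (hd : 1 ≤ d) (hM : M ∣ q ^ d - 1) : IsOrdGL F d M :=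
  Cfsg.Agent.Lib.Classical.Lin.OrderDegree.exists_orderOf_eq_of_dvd hd hM

/-- An element of order `p` in `GL_2`. -/
theorem isOrdGL_two (p : ℕ) [hp : Fact p.Prime] [CharP F p] : IsOrdGL F 2 p := by
  let M : Matrix (Fin 2) (Fin 2) F := !![1, 1; 0, 1]
  have hdet : IsUnit M.det := by
    simp [M, Matrix.det_fin_two]
  let x : GL (Fin 2) F := Matrix.GeneralLinearGroup.mk'' M hdet
  have hval : (x : Matrix (Fin 2) (Fin 2) F) = M := rfl
  have hpow : ∀ t : ℕ, M ^ t = !![1, (t : F); 0, 1] := by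
    intro t
    induction t with
    | zero =>
      ext i j
      fin_cases i <;> fin_cases j <;> simp
    | succ t ih =>
      rw [pow_succ, ih]
      ext i j
      fin_cases i <;> fin_cases j <;> simp [M, Matrix.mul_apply, Fin.sum_univ_two, add_comm]
  refine ⟨x, order_eq_of_iff' _ _ fun t => ?_⟩
  rw [Units.ext_iff, Units.val_pow_eq_pow_val, hval, hpow, Units.val_one]
  constructor
  · intro h
    have h1 := congrFun (congrFun h 0) 1
    simp at h1
    exact (CharP.cast_eq_zero_iff F p t).1 h1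
  · intro h
    have h1 := (CharP.cast_eq_zero_iff F p t).2 h
    rw [h1]
    ext i j
    fin_cases i <;> fin_cases j <;> simp

end Models

end Cfsg.Agent.Lib.Classical.Herm.PGLinear
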