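import Mathlib
import Cfsg.Agent.Lib.Classical.Herm.PGLinear

/-!
# Prime graph of `PSL_n(q)`: adjacency with the characteristic
-/

set_option autoImplicit false
set_option linter.unusedSectionVars false

namespace Cfsg.Agent.Lib.Classical.Herm.PGChar

open Polynomial Matrix Module Cfsg.Agent.Lib.Classical.Herm.PGRoots Cfsg.Agent.Lib.Classical.Herm.PGLinear
open scoped MatrixGroups

variable {F : Type*} [Field F] [Fintype F]
variable {ι : Type*} [Fintype ι] [DecidableEq ι]

local notation "Ω" => AlgebraicClosure F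
local notation "q" => Fintype.card F

/-- `p`-th roots of unity are trivial in characteristic `p`. -/
theorem eq_one_of_pow_char (p : ℕ) [hp : Fact p.Prime] [CharP F p] {y : Ω} (h : y ^ p = 1) : y = 1 := by
  haveI : CharP Ω p := charP_of_injective_algebraMap (algebraMap F Ω).injective p
  haveI : ExpChar Ω p := ExpChar.prime hp.out
  have h1 : (y - 1) ^ p = y ^ p - 1 ^ p := sub_pow_expChar y 1
  rw [h, one_pow, sub_self] at h1
  have h2 : y - 1 = 0 := by
    by_contra hne
    exact pow_ne_zero _ hne h1
  exact sub_eq_zero.1 h2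

/-- Powers of a matrix of `p`-power order minus one are nilpotent. -/
theorem isNilpotent_sub_one (p : ℕ) [hp : Fact p.Prime] [CharP F p] {u : Matrix ι ι F} (h : u ^ p = 1) :
    IsNilpotent (u - 1) := by
  haveI : ExpChar F[X] p := ExpChar.prime hp.out
  refine ⟨p, ?_⟩
  have h1 : ((X : F[X]) - 1) ^ p = X ^ p - 1 ^ p := sub_pow_expChar X 1
  have h2 := congrArg (aeval u) h1
  simpa [h] using h2

/-- From the equality of `r`-th powers of roots. -/
theorem root_ratio (p : ℕ) [hp : Fact p.Prime] [CharP F p] {r : ℕ} {A : Matrix ι ι F} {c : F}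
    (hA : A ^ (r * p) = c • (1 : Matrix ι ι F)) {a b : Ω} (ha : (chi A).IsRoot a) (hb : (chi A).IsRoot b)
    (ha0 : a ≠ 0) (hb0 : b ≠ 0) : a ^ r = b ^ r := by
  have h1 := root_pow ha hA
  have h2 := root_pow hb hA
  have h3 : ((a / b) ^ r) ^ p = 1 := by
    rw [← pow_mul, div_pow, h1, h2, div_self]
    rw [← h2]
    exact pow_ne_zero _ hb0
  have h4 := eq_one_of_pow_char p h3
  rw [div_pow, div_eq_one_iff_eq (pow_ne_zero _ hb0)] at h4
  exact h4

/-- Scalars in the closure descend. -/
theorem scalar_of_map {A : Matrix ι ι F} {d : Ω} [Nonempty ι] (h : A.map (algebraMap F Ω) = d • (1 : Matrix ι ι Ω)) :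
    ∃ c : F, A = c • (1 : Matrix ι ι F) := by
  classical
  obtain ⟨i₀⟩ := ‹Nonempty ι›
  refine ⟨A i₀ i₀, ?_⟩
  ext i j
  have h1 := congrFun (congrFun h i) j
  have h0 := congrFun (congrFun h i₀) i₀
  simp only [Matrix.map_apply, Matrix.smul_apply, smul_eq_mul, Matrix.one_apply_eq, mul_one] at h0
  apply (algebraMap F Ω).injective
  by_cases hij : i = j
  · subst hij
    simp only [Matrix.map_apply, Matrix.smul_apply, smul_eq_mul, Matrix.one_apply_eq, mul_one] at h1
    simp [h1, h0]
  · simp only [Matrix.map_apply, Matrix.smul_apply, smul_eq_mul, Matrix.one_apply_ne hij, mul_zero] at h1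
    simp [h1, Matrix.one_apply_ne hij]

/-- Bound on the dimension, and the exceptional case, for elements of order `r * p` in `PSL_n`. -/
theorem rp_bound (p : ℕ) [hp : Fact p.Prime] [CharP F p] {r k n : ℕ} [hr : Fact r.Prime] (hrp : r ≠ p)
    (hk : k = orderOf ((q : ℕ) : ZMod r))
    (x : SpecialLinearGroup (Fin n) F)
    (hx : orderOf (QuotientGroup.mk x : ProjectiveSpecialLinearGroup (Fin n) F) = r * p) :
    k + 2 ≤ n ∧ (n = 3 → r = 3 → 3 ∣ q - 1 → 9 ∣ q - 1) := by
  classical
  set g : ProjectiveSpecialLinearGroup (Fin n) F := QuotientGroup.mk x with hg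
  set A : Matrix (Fin n) (Fin n) F := x.1 with hAdef
  have hrq := not_dvd_card (F := F) p hr.out hrp
  have hk0 : 0 < k := order_pos hrq hk
  have hn1 : 1 ≤ n := by
    by_contra hn
    have hn0 : n = 0 := by omega
    subst hn0
    have h1 : x = 1 := Subsingleton.elim _ _
    have h2 : orderOf g = 1 := by
      rw [hg, h1]
      exact orderOf_one
    rw [h2] at hx
    have h3 := hr.out.two_le
    have h4 := hp.out.two_le
    nlinarith
  haveI : Nonempty (Fin n) := ⟨⟨0, hn1⟩⟩
  have hpow : ∀ t, (∃ c : F, A ^ t = c • (1 : Matrix (Fin n) (Fin n) F)) ↔ r * p ∣ t := by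
    intro t
    rw [← hx, orderOf_dvd_iff_pow_eq_one, psl_pow_eq_one_iff]
  have hdetA : A.det = 1 := x.2
  obtain ⟨c, hc⟩ := (hpow (r * p)).2 dvd_rfl
  have hc0 : c ≠ 0 := by
    rintro rfl
    have h1 := congrArg Matrix.det hc
    rw [Matrix.det_pow, hdetA, one_pow, zero_smul, Matrix.det_zero] at h1
    exact one_ne_zero h1
  have hroot0 : ∀ a : Ω, (chi A).IsRoot a → a ≠ 0 := by
    rintro a ha rfl
    have h1 := root_pow ha hc
    rw [zero_pow (Nat.mul_ne_zero hr.out.ne_zero hp.out.ne_zero)] at h1
    exact hc0 ((algebraMap F Ω).injective (by rw [← h1, map_zero]))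
  have hratio : ∀ a b : Ω, (chi A).IsRoot a → (chi A).IsRoot b → a ^ r = b ^ r :=
    fun a b ha hb => root_ratio p hc ha hb (hroot0 a ha) (hroot0 b hb)
  have hq1 : 1 < q := Fintype.one_lt_card
  -- the unipotent part
  have hpq : ¬ p ∣ q - 1 := by
    obtain ⟨f, hp', hf⟩ := FiniteField.card F p
    intro h
    have h1 : p ∣ q := by
      rw [hf]
      exact dvd_pow_self _ f.ne_zero
    have h2 : p ∣ 1 := by
      have : q - (q - 1) = 1 := by omega
      rw [← this]
      exact Nat.dvd_sub h1 h
    exact hp.out.one_lt.ne' (Nat.dvd_one.1 h2)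
  set u : Matrix (Fin n) (Fin n) F := A ^ (r * (q - 1)) with hu
  have hup : u ^ p = 1 := by
    rw [hu, ← pow_mul]
    have : r * (q - 1) * p = (r * p) * (q - 1) := by ring
    rw [this, pow_mul, hc, _root_.smul_pow, one_pow, scalar_pow_card_sub_one c hc0, one_smul]
  have hN := isNilpotent_sub_one p hup
  have hN0 : u - 1 ≠ 0 := by
    intro h
    have h1 : u = 1 := sub_eq_zero.1 h
    have h2 := (hpow (r * (q - 1))).1 ⟨1, by rw [← hu, h1, one_smul]⟩
    have h3 := Nat.dvd_of_mul_dvd_mul_left hr.out.pos h2
    exact hpq h3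
  have hcomm : A * (u - 1) = (u - 1) * A := by
    rw [hu, mul_sub, sub_mul, mul_one, one_mul, ← pow_succ', ← pow_succ]
  obtain ⟨lam, hlam⟩ := exists_multiple_root hcomm hN hN0
  have hlamroot : (chi A).IsRoot lam := by
    by_contra hcon
    rw [rootMultiplicity_eq_zero hcon] at hlam
    omega
  -- a second root
  obtain ⟨nu, hnu, hne⟩ : ∃ nu : Ω, (chi A).IsRoot nu ∧ nu ≠ lam := by
    by_contra hcon
    push Not at hcon
    obtain ⟨m, hm⟩ : ∃ m, Fintype.card (Fin n) ≤ p ^ m := by
      refine ⟨n, ?_⟩
      rw [Fintype.card_fin]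
      exact (Nat.lt_pow_self hp.out.one_lt).le
    have h1 := pow_eq_scalar_of_roots p (A := A) (t := 1) (c := lam) hm (fun μ hμ => by
      rw [pow_one]; exact hcon μ hμ)
    rw [one_mul] at h1
    have h2 : (A ^ p ^ m).map (algebraMap F Ω) = (lam ^ p ^ m) • (1 : Matrix (Fin n) (Fin n) Ω) := by
      rw [← h1]
      exact map_pow (algebraMap F Ω).mapMatrix A (p ^ m)
    obtain ⟨c', hc'⟩ := scalar_of_map h2
    have h3 := (hpow (p ^ m)).1 ⟨c', hc'⟩
    have h4 : r ∣ p ^ m := (dvd_mul_right r p).trans h3
    exact hrp ((Nat.prime_dvd_prime_iff_eq hr.out hp.out).1 (hr.out.dvd_of_dvd_pow h4))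
  have hnu1 : 1 ≤ (chi A).rootMultiplicity nu := one_le_mult hnu
  have htwo : 3 ≤ n := by
    have h1 := sum_mult_le A {lam, nu}
    rw [Finset.sum_pair hne.symm, Fintype.card_fin] at h1
    omega
  refine ⟨?_, ?_⟩
  · by_cases hk1 : k = 1
    · omega
    -- here `r` does not divide `q - 1`
    have hrc : ¬ r ∣ q - 1 := by
      intro h
      exact hk1 (hk.trans (order_eq_one_of_dvd h))
    have hcr : r.Coprime (q - 1) := (Nat.Prime.coprime_iff_not_dvd hr.out).2 hrc
    -- non-fixed roots have order divisible by `r`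
    have hgood : ∀ a : Ω, (chi A).IsRoot a → a ^ q ≠ a → r ∣ orderOf a := by
      intro a ha hfix
      have ha0 := hroot0 a ha
      have h1 : a ^ (q - 1) ≠ 1 := by
        intro h
        apply hfix
        have : a ^ q = a ^ (q - 1) * a := by
          rw [← pow_succ]
          congr 1
          omega
        rw [this, h, one_mul]
      have h2 : (a ^ (q - 1)) ^ r = 1 := by
        have h3 := hratio _ _ (frob_root ha) ha
        have h4 : a ^ q = a ^ (q - 1) * a := by
          rw [← pow_succ]
          congr 1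
          omega
        rw [h4, mul_pow] at h3
        exact mul_right_cancel₀ (pow_ne_zero r ha0) (by rw [one_mul]; exact h3)
      have h3 : orderOf (a ^ (q - 1)) = r := orderOf_eq_prime h2 h1
      rw [← h3]
      exact orderOf_pow_dvd _
    -- at most one fixed root
    have huniq : ∀ a b : Ω, (chi A).IsRoot a → (chi A).IsRoot b → a ^ q = a → b ^ q = b → a = b := by
      intro a b ha hb hfa hfb
      have ha0 := hroot0 a ha
      have hb0 := hroot0 b hb
      have h1 : (a / b) ^ r = 1 := by
        rw [div_pow, hratio a b ha hb, div_self (pow_ne_zero _ hb0)]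
      have h2 : (a / b) ^ (q - 1) = 1 := by
        have h3 : (a / b) ^ q = a / b := by rw [div_pow, hfa, hfb]
        have h4 : (a / b) ^ q = (a / b) ^ (q - 1) * (a / b) := by
          rw [← pow_succ]
          congr 1
          omega
        rw [h4] at h3
        exact mul_right_cancel₀ (div_ne_zero ha0 hb0) (by rw [one_mul]; exact h3)
      have h3 : (a / b) ^ Nat.gcd r (q - 1) = 1 := pow_gcd_eq_one.2 ⟨h1, h2⟩
      rw [Nat.Coprime.gcd_eq_one hcr, pow_one, div_eq_one_iff_eq hb0] at h3
      exact h3
    have hcard : ∀ a : Ω, (chi A).IsRoot a → a ^ q ≠ a → (orb a k).card = k := by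
      intro a ha hfix
      apply card_orb
      intro i j hi hj hij
      exact orb_inj (hroot0 a ha) (hgood a ha hfix) hrq hk hi hj hij
    by_cases hfix : lam ^ q = lam
    · -- the multiple root is fixed, so `nu` is not
      have hfnu : nu ^ q ≠ nu := fun h => hne (huniq nu lam hnu hlamroot h hfix)
      have hnot : lam ∉ orb nu k := by
        intro hmem
        obtain ⟨j, -, hj⟩ := mem_orb.1 hmem
        apply hfnu
        apply pow_card_pow_injective j
        change (nu ^ q) ^ (q ^ j) = nu ^ (q ^ j)
        rw [← pow_mul, mul_comm, pow_mul, hj, hfix]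
      have h1 := sum_mult_le A (insert lam (orb nu k))
      rw [Finset.sum_insert hnot, Fintype.card_fin] at h1
      have h2 : (orb nu k).card ≤ ∑ x ∈ orb nu k, (chi A).rootMultiplicity x := by
        calc (orb nu k).card = ∑ x ∈ orb nu k, 1 := by simp
          _ ≤ _ := Finset.sum_le_sum fun x hx => one_le_mult (orb_root hnu _ hx)
      rw [hcard nu hnu hfnu] at h2
      omega
    · -- the multiple root is not fixed
      have h1 := sum_mult_le A (orb lam k)
      rw [Finset.sum_congr rfl (fun x hx => orb_mult A lam k hx), Finset.sum_const, smul_eq_mul,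
        hcard lam hlamroot hfix, Fintype.card_fin] at h1
      have h2 : k * 2 ≤ k * (chi A).rootMultiplicity lam := Nat.mul_le_mul_left _ hlam
      omega
  · rintro rfl rfl h3q
    -- `n = 3`, `r = 3`
    have hl2 : (chi A).rootMultiplicity lam = 2 ∧ (chi A).rootMultiplicity nu = 1 := by
      have h1 := sum_mult_le A {lam, nu}
      rw [Finset.sum_pair hne.symm, Fintype.card_fin] at h1
      omega
    have hfix : lam ^ q = lam := by
      by_contra hcon
      have h1 := sum_mult_le A {lam, lam ^ q}
      rw [Finset.sum_pair (Ne.symm hcon), Fintype.card_fin, frob_mult] at h1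
      omega
    have hlam0 := hroot0 lam hlamroot
    have hlamq : lam ^ (q - 1) = 1 := by
      have h4 : lam ^ q = lam ^ (q - 1) * lam := by
        rw [← pow_succ]
        congr 1
        omega
      rw [h4] at hfix
      exact mul_right_cancel₀ hlam0 (by rw [one_mul]; exact hfix)
    -- the determinant
    have hroots : (chi A).roots = {lam, lam, nu} := by
      have hle : ({lam, lam, nu} : Multiset Ω) ≤ (chi A).roots := by
        rw [Multiset.le_iff_count]
        intro a
        rw [count_roots]
        by_cases h1 : a = lam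
        · subst h1
          have h2 : Multiset.count a ({a, a, nu} : Multiset Ω) = 2 := by
            rw [Multiset.insert_eq_cons, Multiset.insert_eq_cons, Multiset.count_cons_self,
              Multiset.count_cons_self, Multiset.count_singleton, if_neg (Ne.symm hne)]
          rw [h2]
          exact hlam
        · by_cases h2 : a = nu
          · subst h2
            have h4 : Multiset.count a ({lam, lam, a} : Multiset Ω) = 1 := by
              rw [Multiset.insert_eq_cons, Multiset.insert_eq_cons, Multiset.count_cons_of_ne h1,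
                Multiset.count_cons_of_ne h1, Multiset.count_singleton_self]
            rw [h4]
            exact hnu1
          · have h4 : Multiset.count a ({lam, lam, nu} : Multiset Ω) = 0 := by
              rw [Multiset.insert_eq_cons, Multiset.insert_eq_cons, Multiset.count_cons_of_ne h1,
                Multiset.count_cons_of_ne h1, Multiset.count_singleton, if_neg h2]
            rw [h4]
            exact Nat.zero_le _
      refine Multiset.eq_of_le_of_card_le hle ?_ |>.symm
      have h1 := card_roots' (chi A)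
      rw [chi_natDegree, Fintype.card_fin] at h1
      simpa using h1
    have hdet : lam * (lam * nu) = 1 := by
      have hsplit : (A.map (algebraMap F Ω)).charpoly.Splits := IsAlgClosed.splits _
      have h1 := Matrix.det_eq_prod_roots_charpoly_of_splits hsplit
      rw [← chi_eq, hroots] at h1
      have h2 : (A.map (algebraMap F Ω)).det = 1 := by
        have : A.map (algebraMap F Ω) = (algebraMap F Ω).mapMatrix A := rfl
        rw [this, ← RingHom.map_det, hdetA, map_one]
      rw [h2] at h1
      simpa using h1.symm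
    have hcube : lam ^ 3 = nu ^ 3 := hratio lam nu hlamroot hnu
    have hnue : nu = (lam ^ 2)⁻¹ := by
      field_simp
      linear_combination hdet
    have h9 : lam ^ 3 ^ (1 + 1) = 1 := by
      have h1 : nu ^ 3 * lam ^ 6 = 1 := by
        rw [hnue]
        field_simp
      rw [← hcube] at h1
      linear_combination h1
    have h3ne : ¬ lam ^ 3 ^ 1 = 1 := by
      intro h
      apply hne
      rw [hnue]
      field_simp
      rw [pow_one] at h
      linear_combination -h
    have hord : orderOf lam = 3 ^ (1 + 1) := orderOf_eq_prime_pow h3ne h9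
    have h4 := orderOf_dvd_of_pow_eq_one hlamq
    rw [hord] at h4
    exact h4

section Model

variable {m : ℕ}

/-- The diagonal part of the model. -/
noncomputable def dd (a : F) (i : Fin (m + 3)) : F :=
  if i.val = 0 ∨ i.val = 1 then a else if i.val = 2 then (a ^ 2)⁻¹ else 1

/-- The model: `diag(a, a, a⁻², 1, ...)` times a transvection. -/
noncomputable def modelMat (a : F) : Matrix (Fin (m + 3)) (Fin (m + 3)) F :=
  Matrix.diagonal (dd a) * Matrix.transvection 0 1 1

theorem model_det {a : F} (ha : a ≠ 0) : (modelMat (m := m) a).det = 1 := by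
  rw [modelMat, Matrix.det_mul, Matrix.det_transvection_of_ne _ _ (by simp), mul_one, Matrix.det_diagonal]
  rw [Fin.prod_univ_succ, Fin.prod_univ_succ, Fin.prod_univ_succ]
  have h1 : ∀ i : Fin m, dd a (i.succ.succ.succ) = 1 := by
    intro i
    simp [dd]
  rw [Finset.prod_congr rfl (fun i _ => h1 i)]
  have h2 : dd (m := m) a 0 = a := by simp [dd]
  have h3 : dd (m := m) a (Fin.succ 0) = a := by simp [dd]
  have h4 : dd (m := m) a (Fin.succ (Fin.succ 0)) = (a ^ 2)⁻¹ := by
    show (if (2 : ℕ) = 0 ∨ (2 : ℕ) = 1 then a else if (2 : ℕ) = 2 then (a ^ 2)⁻¹ else 1) = _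
    simp
  rw [h2, h3, h4]
  simp only [Finset.prod_const_one, mul_one]
  field_simp

theorem transvection_pow (t : ℕ) :
    (Matrix.transvection (0 : Fin (m + 3)) 1 (1 : F)) ^ t = Matrix.transvection 0 1 (t : F) := by
  induction t with
  | zero => simp
  | succ t ih =>
    rw [pow_succ, ih, Matrix.transvection_mul_transvection_same _ _ (by simp)]
    simp

theorem model_comm (a : F) :
    Commute (Matrix.diagonal (dd (m := m) a)) (Matrix.transvection 0 1 1) := by
  change _ * _ = _ * _
  ext i j
  rw [Matrix.diagonal_mul, Matrix.mul_diagonal]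
  by_cases hij : i = 0 ∧ j = 1
  · obtain ⟨rfl, rfl⟩ := hij
    simp [dd, Matrix.transvection, mul_comm]
  · by_cases hij2 : i = j
    · subst hij2
      rw [mul_comm]
    · have h1 : Matrix.transvection (0 : Fin (m + 3)) 1 (1 : F) i j = 0 := by
        simp only [Matrix.transvection, Matrix.add_apply, Matrix.one_apply_ne hij2, zero_add,
          Matrix.single_apply]
        rw [if_neg]
        tauto
      rw [h1, mul_zero, zero_mul]

theorem model_pow (a : F) (t : ℕ) :
    (modelMat (m := m) a) ^ t = Matrix.diagonal (fun i => dd (m := m) a i ^ t) * Matrix.transvection 0 1 (t : F) := by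
  rw [modelMat, (model_comm a).mul_pow, Matrix.diagonal_pow, transvection_pow]
  rfl

theorem trans_diag (t : F) (i : Fin (m + 3)) : Matrix.transvection (0 : Fin (m + 3)) 1 t i i = 1 := by
  simp only [Matrix.transvection, Matrix.add_apply, Matrix.one_apply_eq, Matrix.single_apply]
  rw [if_neg, add_zero]
  rintro ⟨rfl, h⟩
  simp at h

theorem trans_01 (t : F) : Matrix.transvection (0 : Fin (m + 3)) 1 t 0 1 = t := by
  simp [Matrix.transvection]

theorem model_iff (p : ℕ) [hp : Fact p.Prime] [CharP F p] {a : F} (ha : a ≠ 0) (t : ℕ) (c : F) :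
    (modelMat (m := m) a) ^ t = c • (1 : Matrix (Fin (m + 3)) (Fin (m + 3)) F) ↔
      p ∣ t ∧ a ^ t = c ∧ ((a ^ 2)⁻¹) ^ t = c ∧ (1 ≤ m → c = 1) := by
  rw [model_pow]
  have hentry : ∀ i j, ((Matrix.diagonal (fun i => dd (m := m) a i ^ t) * Matrix.transvection 0 1 (t : F) :
      Matrix (Fin (m + 3)) (Fin (m + 3)) F)) i j =
      dd a i ^ t * Matrix.transvection 0 1 (t : F) i j := fun i j => Matrix.diagonal_mul _ _ _ _
  constructor
  · intro h
    have key : ∀ i j, dd a i ^ t * Matrix.transvection 0 1 (t : F) i j = (c • (1 : Matrix (Fin (m + 3)) (Fin (m + 3)) F)) i j := by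
      intro i j
      rw [← hentry, h]
    have key2 : ∀ i : Fin (m + 3), dd a i ^ t = c := by
      intro i
      have := key i i
      rw [trans_diag] at this
      simpa using this
    have h01 := key 0 1
    rw [trans_01] at h01
    have h0 : dd (m := m) a 0 = a := by simp [dd]
    rw [h0] at h01
    simp only [Matrix.smul_apply, smul_eq_mul, Matrix.one_apply_ne (show (0 : Fin (m + 3)) ≠ 1 by simp), mul_zero] at h01
    refine ⟨?_, ?_, ?_, ?_⟩
    · rcases mul_eq_zero.1 h01 with h2 | h2
      · exact absurd h2 (pow_ne_zero _ ha)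
      · exact (CharP.cast_eq_zero_iff F p t).1 h2
    · rw [← h0]
      exact key2 0
    · have h2 : dd (m := m) a ⟨2, by omega⟩ = (a ^ 2)⁻¹ := by simp [dd]
      rw [← h2]
      exact key2 _
    · intro hm
      have h3 : dd (m := m) a ⟨3, by omega⟩ = 1 := by simp [dd]
      have h4 := key2 ⟨3, by omega⟩
      rw [h3, one_pow] at h4
      exact h4.symm
  · rintro ⟨h1, h2, h3, h4⟩
    have h5 : ((t : ℕ) : F) = 0 := (CharP.cast_eq_zero_iff F p t).2 h1
    rw [h5, Matrix.transvection_zero, mul_one]
    ext i j
    by_cases hij : i = j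
    · subst hij
      simp only [Matrix.diagonal_apply_eq, Matrix.smul_apply, Matrix.one_apply_eq, smul_eq_mul, mul_one]
      unfold dd
      split_ifs with h6 h7
      · exact h2
      · exact h3
      · rw [one_pow]
        have h8 : 3 ≤ i.val := by omega
        have : 1 ≤ m := by
          have := i.isLt
          omega
        exact (h4 this).symm
    · simp [Matrix.diagonal_apply_ne _ hij, Matrix.one_apply_ne hij]

/-- Roots of unity in a finite field. -/
theorem exists_root {d : ℕ} (hd : d ∣ q - 1) : ∃ a : F, a ≠ 0 ∧ ∀ t : ℕ, a ^ t = 1 ↔ d ∣ t := by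
  classical
  obtain ⟨g, hg⟩ := IsCyclic.exists_ofOrder_eq_natCard (α := Fˣ)
  have hcard : Nat.card Fˣ = q - 1 := by
    rw [Nat.card_eq_fintype_card, Fintype.card_units]
  have hpos : 0 < q - 1 := by
    have := Fintype.one_lt_card (α := F)
    omega
  obtain ⟨t, ht⟩ := hd
  have ht0 : t ≠ 0 := by
    rintro rfl
    omega
  have hord : orderOf (g ^ t) = d := by
    rw [orderOf_pow_of_dvd ht0 (by rw [hg, hcard, ht]; exact dvd_mul_left _ _), hg, hcard, ht]
    exact Nat.mul_div_cancel _ (Nat.pos_of_ne_zero ht0)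
  refine ⟨((g ^ t : Fˣ) : F), Units.ne_zero _, fun j => ?_⟩
  rw [← hord, orderOf_dvd_iff_pow_eq_one, ← Units.val_pow_eq_pow_val, Units.val_eq_one]

/-- The model as an element of `PSL`. -/
theorem exists_order_of_model (p : ℕ) [hp : Fact p.Prime] [CharP F p] {a : F} (ha : a ≠ 0) {N : ℕ}
    (h : ∀ t, (∃ c, p ∣ t ∧ a ^ t = c ∧ ((a ^ 2)⁻¹) ^ t = c ∧ (1 ≤ m → c = 1)) ↔ N ∣ t) :
    ∃ g : ProjectiveSpecialLinearGroup (Fin (m + 3)) F, orderOf g = N := by
  let x : SpecialLinearGroup (Fin (m + 3)) F := ⟨modelMat a, model_det ha⟩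
  refine ⟨QuotientGroup.mk x, order_eq_of_iff' _ _ fun t => ?_⟩
  rw [psl_pow_eq_one_iff, ← h]
  change (∃ c, (modelMat (m := m) a) ^ t = c • (1 : Matrix (Fin (m + 3)) (Fin (m + 3)) F)) ↔ _
  simp_rw [model_iff p ha]

end Model

end Cfsg.Agent.Lib.Classical.Herm.PGChar
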