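import Mathlib
import Cfsg.Agent.Lib.Classical.Herm.PGChar
import Cfsg.Agent.Lib.Classical.Herm.SpReal
import Cfsg.Agent.Lib.Classical.Symp.OrdClass

/-!
# Prime graph of `PSp_{2n}(q)`: eigenvalue analysis and models
-/

set_option autoImplicit false
set_option linter.unusedSectionVars false

namespace Cfsg.Agent.Lib.Classical.Herm.PGSymp

open Polynomial Matrix Module Cfsg Cfsg.Agent.Lib.Classical.Herm.PGRoots
open Cfsg.Agent.Lib.Classical.Herm.PGLinear Cfsg.Agent.Lib.Classical.Herm.PGChar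
open Cfsg.Agent.Lib.Classical.Symp.OrdModels

variable {F : Type*} [Field F] [Fintype F] {n : ℕ}

local notation "Ω" => AlgebraicClosure F
local notation "q" => Fintype.card F

theorem inv_root (A : symplecticGroup (Fin n) F) {μ : Ω} (h : (chi A.1).IsRoot μ) (hμ : μ ≠ 0) :
    (chi A.1).IsRoot μ⁻¹ := by
  have hp := Cfsg.Agent.Lib.Classical.Herm.SpReal.isPal_charpoly A
  have h3 := hp.2.2
  letI : Invertible μ := invertibleOfNonzero hμ
  have h4 := eval₂_reverse_mul_pow (algebraMap F Ω) μ (A.1.charpoly)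
  rw [h3] at h4
  have h5 : eval₂ (algebraMap F Ω) μ A.1.charpoly = 0 := by
    rw [← eval_map]
    exact h
  rw [h5] at h4
  have h6 := (mul_eq_zero.1 h4).resolve_right (pow_ne_zero _ hμ)
  change eval _ (map _ _) = 0
  rw [eval_map]
  rwa [invOf_eq_inv] at h6

theorem card_fin_sum : Fintype.card (Fin n ⊕ Fin n) = 2 * n := by
  simp [two_mul]

theorem orb_card_inv {c : Ω} {d : ℕ} (h : ∀ i j, i < d → j < d → c ^ (q ^ i) = c ^ (q ^ j) → i = j) :
    (orb c⁻¹ d).card = d := by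
  classical
  apply card_orb
  intro i j hi hj hij
  exact h i j hi hj (by simpa using hij)

/-- A self-dual Frobenius stable set of roots, of size `2 * η(k)`. -/
theorem exists_S (A : symplecticGroup (Fin n) F) {c : Ω} (hc : (chi A.1).IsRoot c) (hc0 : c ≠ 0) {r k η : ℕ}
    [hr : Fact r.Prime] (hr2 : r ≠ 2) (hq : ¬ r ∣ q) (hro : r ∣ orderOf c)
    (hk : k = orderOf ((q : ℕ) : ZMod r)) (hη : (Odd k ∧ η = k) ∨ (Even k ∧ 2 * η = k)) :
    ∃ S : Finset Ω, S.card = 2 * η ∧ (∀ x ∈ S, (chi A.1).IsRoot x) ∧ ∀ x ∈ S, orderOf x = orderOf c := by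
  classical
  have hinj : ∀ i j, i < k → j < k → c ^ (q ^ i) = c ^ (q ^ j) → i = j := by
    intro i j hi hj hij
    exact orb_inj hc0 hro hq hk hi hj hij
  have hcard : (orb c k).card = k := card_orb hinj
  rcases hη with ⟨hodd, hηk⟩ | ⟨-, hη⟩
  · have hcard2 := orb_card_inv hinj
    have hdisj : Disjoint (orb c k) (orb c⁻¹ k) := by
      rw [Finset.disjoint_left]
      intro x hx hx'
      obtain ⟨i, -, rfl⟩ := mem_orb.1 hx
      obtain ⟨j, -, hj⟩ := mem_orb.1 hx'
      exact no_neg_of_odd hr2 hq hk hodd (neg_of_inv_eq hc0 hro hj)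
    refine ⟨orb c k ∪ orb c⁻¹ k, ?_, ?_, ?_⟩
    · rw [Finset.card_union_of_disjoint hdisj, hcard, hcard2, hηk]
      ring
    · intro x hx
      rcases Finset.mem_union.1 hx with hx | hx
      · exact orb_root hc _ hx
      · exact orb_root (inv_root A hc hc0) _ hx
    · intro x hx
      rcases Finset.mem_union.1 hx with hx | hx
      · exact orb_orderOf hx
      · rw [orb_orderOf hx]
        exact orderOf_injective (invMonoidWithZeroHom (G₀ := Ω)).toMonoidHom inv_injective c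
  · exact ⟨orb c k, by rw [hcard, hη], fun x hx => orb_root hc _ hx, fun x hx => orb_orderOf hx⟩

/-- The dimension bound for elements of order `r * s` in `Sp_{2n}`. -/
theorem sp_bound (A : symplecticGroup (Fin n) F) {r s k l ηk ηl : ℕ} [hr : Fact r.Prime] [hs : Fact s.Prime]
    (hr2 : r ≠ 2) (hs2 : s ≠ 2) (hrq : ¬ r ∣ q) (hsq : ¬ s ∣ q) (hr0 : (r : F) ≠ 0) (hs0 : (s : F) ≠ 0)
    (hk : k = orderOf ((q : ℕ) : ZMod r)) (hl : l = orderOf ((q : ℕ) : ZMod s))
    (hηk : (Odd k ∧ ηk = k) ∨ (Even k ∧ 2 * ηk = k)) (hηl : (Odd l ∧ ηl = l) ∨ (Even l ∧ 2 * ηl = l))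
    (hA : A.1 ^ (r * s) = 1) (h1 : A.1 ^ r ≠ 1) (h2 : A.1 ^ s ≠ 1) :
    ηk + ηl ≤ n ∨ Nat.lcm k l ≤ n ∨
      (Nat.lcm k l ≤ 2 * n ∧ ∃ j : ℕ, ((q : ℕ) : ZMod r) ^ j = -1 ∧ ((q : ℕ) : ZMod s) ^ j = -1) := by
  classical
  have hN0 : ((r * s : ℕ) : F) ≠ 0 := by
    rw [Nat.cast_mul]
    exact mul_ne_zero hr0 hs0
  have hNpos : r * s ≠ 0 := Nat.mul_ne_zero hr.out.ne_zero hs.out.ne_zero
  obtain ⟨a, ha, ha'⟩ : ∃ a : Ω, (chi A.1).IsRoot a ∧ a ^ r ≠ 1 := by
    by_contra hcon
    push Not at hcon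
    exact h1 (pow_eq_one_of_roots hA hN0 hcon)
  obtain ⟨b, hb, hb'⟩ : ∃ b : Ω, (chi A.1).IsRoot b ∧ b ^ s ≠ 1 := by
    by_contra hcon
    push Not at hcon
    exact h2 (pow_eq_one_of_roots hA hN0 hcon)
  have ha0 := root_ne_zero_of_pow hA ha hNpos
  have hb0 := root_ne_zero_of_pow hA hb hNpos
  have hao : orderOf a ∣ r * s := orderOf_dvd_of_pow_eq_one (root_pow_one hA ha)
  have hbo : orderOf b ∣ r * s := orderOf_dvd_of_pow_eq_one (root_pow_one hA hb)
  have hsa : s ∣ orderOf a := by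
    by_contra hcon
    have hc : (orderOf a).Coprime s := ((Nat.Prime.coprime_iff_not_dvd hs.out).2 hcon).symm
    exact ha' (orderOf_dvd_iff_pow_eq_one.1 (hc.dvd_of_dvd_mul_right hao))
  have hrb : r ∣ orderOf b := by
    by_contra hcon
    have hc : (orderOf b).Coprime r := ((Nat.Prime.coprime_iff_not_dvd hr.out).2 hcon).symm
    exact hb' (orderOf_dvd_iff_pow_eq_one.1 (hc.dvd_of_dvd_mul_left hbo))
  have both : ∀ c : Ω, (chi A.1).IsRoot c → c ≠ 0 → r ∣ orderOf c → s ∣ orderOf c →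
      Nat.lcm k l ≤ n ∨ (Nat.lcm k l ≤ 2 * n ∧ ∃ j : ℕ, ((q : ℕ) : ZMod r) ^ j = -1 ∧ ((q : ℕ) : ZMod s) ^ j = -1) := by
    intro c hc hc0 hrc hsc
    have hinj : ∀ i j, i < Nat.lcm k l → j < Nat.lcm k l → c ^ (q ^ i) = c ^ (q ^ j) → i = j := by
      intro i j hi hj hij
      have key : ∀ i j, i ≤ j → j < Nat.lcm k l → c ^ (q ^ i) = c ^ (q ^ j) → i = j := by
        intro i j hle hj h
        have h3 := dvd_of_pow_eq hc0 hrc hrq hle h
        have h4 := dvd_of_pow_eq hc0 hsc hsq hle h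
        rw [← hk] at h3
        rw [← hl] at h4
        have h5 := Nat.lcm_dvd h3 h4
        by_contra hne
        have h6 := Nat.le_of_dvd (by omega) h5
        omega
      rcases le_total i j with hle | hle
      · exact key i j hle hj hij
      · exact (key j i hle hi hij.symm).symm
    have hcard : (orb c (Nat.lcm k l)).card = Nat.lcm k l := card_orb hinj
    have hD := card_le_of_roots A.1 (orb c (Nat.lcm k l)) fun x hx => orb_root hc _ hx
    rw [hcard, card_fin_sum] at hD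
    by_cases hinv : ∃ j : ℕ, c⁻¹ = c ^ (q ^ j)
    · right
      refine ⟨hD, ?_⟩
      obtain ⟨j, hj⟩ := hinv
      refine ⟨j, ?_, ?_⟩
      · have h3 := neg_of_inv_eq (i := 0) (j := j) hc0 hrc (by simpa using hj)
        simp only [pow_zero] at h3
        linear_combination h3
      · have h3 := neg_of_inv_eq (i := 0) (j := j) hc0 hsc (by simpa using hj)
        simp only [pow_zero] at h3
        linear_combination h3
    · left
      have hcard2 := orb_card_inv hinj
      have hdisj : Disjoint (orb c (Nat.lcm k l)) (orb c⁻¹ (Nat.lcm k l)) := by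
        rw [Finset.disjoint_left]
        intro x hx hx'
        obtain ⟨i, -, rfl⟩ := mem_orb.1 hx
        obtain ⟨j, -, hj⟩ := mem_orb.1 hx'
        apply hinv
        -- `(c⁻¹) ^ (q ^ j) = c ^ (q ^ i)`
        rcases le_total j i with hji | hij
        · refine ⟨i - j, pow_card_pow_injective j ?_⟩
          change (c⁻¹) ^ (q ^ j) = (c ^ (q ^ (i - j))) ^ (q ^ j)
          rw [hj, ← pow_mul, ← pow_add, Nat.sub_add_cancel hji]
        · refine ⟨j - i, ?_⟩
          have h3 : (c⁻¹ ^ (q ^ (j - i))) ^ (q ^ i) = c ^ (q ^ i) := by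
            rw [← pow_mul, ← pow_add, Nat.sub_add_cancel hij, hj]
          have h4 := pow_card_pow_injective i h3
          have h5 : c ^ (q ^ (j - i)) = c⁻¹ := by
            have := congrArg (·⁻¹) h4
            simpa using this
          exact h5.symm
      have h3 := card_le_of_roots A.1 (orb c (Nat.lcm k l) ∪ orb c⁻¹ (Nat.lcm k l)) (by
        intro x hx
        rcases Finset.mem_union.1 hx with hx | hx
        · exact orb_root hc _ hx
        · exact orb_root (inv_root A hc hc0) _ hx)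
      rw [Finset.card_union_of_disjoint hdisj, hcard, hcard2, card_fin_sum] at h3
      omega
  by_cases hra : r ∣ orderOf a
  · exact Or.inr (both a ha ha0 hra hsa)
  by_cases hsb : s ∣ orderOf b
  · exact Or.inr (both b hb hb0 hrb hsb)
  left
  obtain ⟨S, hS, hSr, hSo⟩ := exists_S A ha ha0 hs2 hsq hsa hl hηl
  obtain ⟨T, hT, hTr, hTo⟩ := exists_S A hb hb0 hr2 hrq hrb hk hηk
  have hdisj : Disjoint S T := by
    rw [Finset.disjoint_left]
    intro x hx hx'
    apply hra
    rw [← hSo x hx, hTo x hx']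
    exact hrb
  have h3 := card_le_of_roots A.1 (S ∪ T) (by
    intro x hx
    rcases Finset.mem_union.1 hx with hx | hx
    · exact hSr x hx
    · exact hTr x hx)
  rw [Finset.card_union_of_disjoint hdisj, hS, hT, card_fin_sum] at h3
  omega

/-- A nontrivial element of prime order `s` needs `η(l) ≤ n`. -/
theorem eta_le (A : symplecticGroup (Fin n) F) {s l ηl : ℕ} [hs : Fact s.Prime]
    (hs2 : s ≠ 2) (hsq : ¬ s ∣ q) (hs0 : (s : F) ≠ 0)
    (hl : l = orderOf ((q : ℕ) : ZMod s)) (hηl : (Odd l ∧ ηl = l) ∨ (Even l ∧ 2 * ηl = l))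
    (hA : A.1 ^ s = 1) (h1 : A.1 ≠ 1) : ηl ≤ n := by
  classical
  obtain ⟨a, ha, ha'⟩ : ∃ a : Ω, (chi A.1).IsRoot a ∧ a ^ 1 ≠ 1 := by
    by_contra hcon
    push Not at hcon
    exact h1 (by simpa using pow_eq_one_of_roots hA hs0 hcon)
  have ha0 := root_ne_zero_of_pow hA ha hs.out.ne_zero
  have h2 : orderOf a = s := by
    apply orderOf_eq_prime (root_pow_one hA ha)
    simpa using ha'
  obtain ⟨S, hS, hSr, -⟩ := exists_S A ha ha0 hs2 hsq (h2 ▸ dvd_rfl) hl hηl
  have h3 := card_le_of_roots A.1 S hSr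
  rw [hS, card_fin_sum] at h3
  omega

/-- If `k = 2 * η` is the order of `q` modulo `r`, then `r ∣ q ^ η + 1`. -/
theorem dvd_pow_add_one {r k η : ℕ} [hr : Fact r.Prime] (hrq : ¬ r ∣ q) (hk : k = orderOf ((q : ℕ) : ZMod r))
    (hη : 2 * η = k) :
    r ∣ q ^ η + 1 := by
  have h1 : r ∣ q ^ k - 1 := dvd_pow_sub_one hk dvd_rfl
  have hq : 1 ≤ q ^ η := Nat.one_le_pow _ _ Fintype.card_pos
  have h2 : q ^ k - 1 = (q ^ η + 1) * (q ^ η - 1) := by
    rw [← hη, mul_comm 2 η, pow_mul]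
    obtain ⟨u, hu⟩ : ∃ u, q ^ η = u + 1 := ⟨q ^ η - 1, by omega⟩
    rw [hu]
    simp only [Nat.add_sub_cancel]
    have : (u + 1) ^ 2 = (u + 1 + 1) * u + 1 := by ring
    omega
  rw [h2] at h1
  rcases (Nat.Prime.dvd_mul hr.out).1 h1 with h | h
  · exact h
  · exfalso
    have h3 : ((q : ℕ) : ZMod r) ^ η = 1 := by
      have := (ZMod.natCast_eq_zero_iff _ r).2 h
      rw [Nat.cast_sub hq, Nat.cast_one, Nat.cast_pow, sub_eq_zero] at this
      exact this
    have h4 : k ∣ η := by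
      rw [hk]
      exact orderOf_dvd_of_pow_eq_one h3
    have hk0 : 0 < k := order_pos hrq hk
    have h5 := Nat.le_of_dvd (by omega) h4
    omega

/-- A multiple root adds one to the bound. -/
theorem card_add_one_le {ι : Type*} [Fintype ι] [DecidableEq ι] (A : Matrix ι ι F) (S : Finset Ω)
    (hS : ∀ x ∈ S, (chi A).IsRoot x) {lam : Ω} (hlam : 2 ≤ (chi A).rootMultiplicity lam) :
    S.card + 1 ≤ Fintype.card ι := by
  classical
  have hsum : ∀ (T : Finset Ω), (∀ x ∈ T, (chi A).IsRoot x) → T.card ≤ ∑ x ∈ T, (chi A).rootMultiplicity x := by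
    intro T hT
    calc T.card = ∑ x ∈ T, 1 := by simp
      _ ≤ _ := Finset.sum_le_sum fun x hx => one_le_mult (hT x hx)
  by_cases hl : lam ∈ S
  · have h1 := sum_mult_le A S
    rw [← Finset.add_sum_erase S _ hl] at h1
    have h2 := hsum (S.erase lam) fun x hx => hS x (Finset.mem_of_mem_erase hx)
    rw [Finset.card_erase_of_mem hl] at h2
    have : 0 < S.card := Finset.card_pos.2 ⟨lam, hl⟩
    omega
  · have h1 := sum_mult_le A (insert lam S)
    rw [Finset.sum_insert hl] at h1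
    have h2 := hsum S hS
    omega

/-- The bound for elements of order `r * p` in `PSp_{2n}`. -/
theorem rp_bound_sp (p : ℕ) [hp : Fact p.Prime] [CharP F p] {r k η : ℕ} [hr : Fact r.Prime] (hn : 1 ≤ n)
    (hr2 : r ≠ 2) (hrp : r ≠ p) (hk : k = orderOf ((q : ℕ) : ZMod r))
    (hη : (Odd k ∧ η = k) ∨ (Even k ∧ 2 * η = k)) (A : symplecticGroup (Fin n) F)
    (hA : orderOf (QuotientGroup.mk A : PSp n F) = r * p) : η + 1 ≤ n := by
  classical
  have hrq := not_dvd_card (F := F) p hr.out hrp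
  have hpow : ∀ t, (A.1 ^ t = 1 ∨ A.1 ^ t = -1) ↔ r * p ∣ t := by
    intro t
    rw [← hA, orderOf_dvd_iff_pow_eq_one, psp_pow_eq_one_iff hn]
  have h2rp : A.1 ^ (2 * (r * p)) = 1 := by
    rw [mul_comm, pow_mul]
    rcases (hpow (r * p)).2 dvd_rfl with h | h <;> rw [h] <;> simp
  have hpos : 0 < 2 * (r * p) := by
    have := hr.out.pos
    have := hp.out.pos
    positivity
  -- the unipotent part
  obtain ⟨e, hu1, hu2⟩ : ∃ e : ℕ, (A.1 ^ (e * r)) ^ p = 1 ∧ A.1 ^ (e * r) ≠ 1 := by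
    by_cases hp2 : p = 2
    · subst hp2
      have h2 : (2 : F) = 0 := by
        exact_mod_cast CharP.cast_eq_zero F 2
      have hneg : (-1 : Matrix (Fin n ⊕ Fin n) (Fin n ⊕ Fin n) F) = 1 := by
        have h3 : (2 : F) • (1 : Matrix (Fin n ⊕ Fin n) (Fin n ⊕ Fin n) F) = 0 := by
          rw [h2, zero_smul]
        rw [two_smul] at h3
        exact neg_eq_of_add_eq_zero_left h3
      refine ⟨1, ?_, ?_⟩
      · rw [one_mul]
        rcases (hpow (r * 2)).2 dvd_rfl with h | h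
        · rw [← pow_mul]; exact h
        · rw [← pow_mul, h, hneg]
      · rw [one_mul]
        intro h
        have h3 := (hpow r).1 (Or.inl h)
        have h4 := Nat.le_of_dvd hr.out.pos h3
        have := hr.out.pos
        nlinarith
    · refine ⟨2, ?_, ?_⟩
      · rw [← pow_mul, mul_assoc]
        exact h2rp
      · intro h
        have h3 := (hpow (2 * r)).1 (Or.inl h)
        have h4 : p ∣ 2 := by
          rw [mul_comm 2 r] at h3
          exact Nat.dvd_of_mul_dvd_mul_left hr.out.pos h3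
        exact hp2 ((Nat.prime_dvd_prime_iff_eq hp.out Nat.prime_two).1 h4)
  have hN := isNilpotent_sub_one p hu1
  have hN0 : A.1 ^ (e * r) - 1 ≠ 0 := fun h => hu2 (sub_eq_zero.1 h)
  have hcomm : A.1 * (A.1 ^ (e * r) - 1) = (A.1 ^ (e * r) - 1) * A.1 := by
    rw [mul_sub, sub_mul, mul_one, one_mul, ← pow_succ', ← pow_succ]
  obtain ⟨lam, hlam⟩ := exists_multiple_root hcomm hN hN0
  -- an eigenvalue of order divisible by `r`
  obtain ⟨c, hc, hc2⟩ : ∃ c : Ω, (chi A.1).IsRoot c ∧ c ^ 2 ≠ 1 := by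
    by_contra hcon
    push Not at hcon
    obtain ⟨m, hm⟩ : ∃ m, Fintype.card (Fin n ⊕ Fin n) ≤ p ^ m :=
      ⟨Fintype.card (Fin n ⊕ Fin n), (Nat.lt_pow_self hp.out.one_lt).le⟩
    have h1 := pow_eq_scalar_of_roots p (A := A.1) (t := 2) (c := 1) hm hcon
    rw [one_pow, one_smul] at h1
    have h2 : (A.1 ^ (2 * p ^ m)).map (algebraMap F Ω) = (1 : Matrix (Fin n ⊕ Fin n) (Fin n ⊕ Fin n) Ω) := by
      rw [← h1]
      exact map_pow (algebraMap F Ω).mapMatrix A.1 (2 * p ^ m)
    have h3 : A.1 ^ (2 * p ^ m) = 1 := by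
      ext i j
      have h4 := congrFun (congrFun h2 i) j
      apply (algebraMap F Ω).injective
      rw [Matrix.map_apply] at h4
      rw [h4]
      by_cases hij : i = j
      · subst hij
        simp
      · simp [Matrix.one_apply_ne hij]
    have h4 := (hpow (2 * p ^ m)).1 (Or.inl h3)
    have h5 : r ∣ 2 * p ^ m := (dvd_mul_right r p).trans h4
    rcases (Nat.Prime.dvd_mul hr.out).1 h5 with h6 | h6
    · exact hr2 ((Nat.prime_dvd_prime_iff_eq hr.out Nat.prime_two).1 h6)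
    · exact hrp ((Nat.prime_dvd_prime_iff_eq hr.out hp.out).1 (hr.out.dvd_of_dvd_pow h6))
  have hc0 := root_ne_zero_of_pow h2rp hc hpos.ne'
  have hc3 : (c ^ 2) ^ r = 1 := by
    have h1 := root_pow_one h2rp hc
    have h3 : ((c ^ 2) ^ r) ^ p = 1 := by
      rw [← pow_mul, ← pow_mul]
      exact h1
    exact eq_one_of_pow_char p h3
  have hro : r ∣ orderOf c := by
    have h1 : orderOf (c ^ 2) = r := orderOf_eq_prime hc3 hc2
    rw [← h1]
    exact orderOf_pow_dvd _
  obtain ⟨S, hS, hSr, -⟩ := exists_S A hc hc0 hr2 hrq hro hk hη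
  have h3 := card_add_one_le A.1 S hSr hlam
  rw [hS, card_fin_sum] at h3
  omega

section Models

theorem frob_pow_apply' {K : Type*} [Field K] [Algebra F K] [FiniteDimensional F K] (d : ℕ) (b : K) :
    haveI : Finite K := Module.finite_of_finite F
    ((FiniteField.frobeniusAlgEquivOfAlgebraic F K) ^ d) b = b ^ (Fintype.card F ^ d) :=
  Cfsg.Agent.Lib.Classical.Symp.OrdModels.frob_pow_apply d b

/-- The non-split torus, in all characteristics: `θ` with `θ ^ (q ^ d + 1) = 1` acts on `K`, `[K : F] = 2 d`. -/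
theorem exists_sp_minus' {K : Type*} [Field K] [Algebra F K] [FiniteDimensional F K] {d : ℕ}
    (hd : Module.finrank F K = 2 * d) (hd0 : 1 ≤ d)
    (θ : K) (hθ : θ ^ (Fintype.card F ^ d + 1) = 1) :
    ∃ A : symplecticGroup (Fin d) F, ∀ (t : ℕ) (c : F),
      A.1 ^ t = c • (1 : Matrix _ _ F) ↔ θ ^ t = algebraMap F K c := by
  classical
  haveI : Finite K := Module.finite_of_finite F
  haveI := Fintype.ofFinite K
  set Q := q ^ d with hQ
  have hq1 : 1 < q := Fintype.one_lt_card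
  have hQ1 : 1 < Q := Nat.one_lt_pow (by omega) hq1
  have hcardK : Fintype.card K = Q * Q := by
    rw [Module.card_eq_pow_finrank (K := F) (V := K), hd, hQ, two_mul, pow_add]
  have hfix : ∀ a : K, (a ^ Q) ^ Q = a := by
    intro a
    rw [← pow_mul, ← hcardK, FiniteField.pow_card]
  have hnfix : ∃ y : K, y ^ Q ≠ y := by
    by_contra hcon
    push Not at hcon
    have hP0 : (Polynomial.X ^ Q - Polynomial.X : Polynomial K) ≠ 0 :=
      FiniteField.X_pow_card_sub_X_ne_zero K hQ1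
    have hdeg : (Polynomial.X ^ Q - Polynomial.X : Polynomial K).natDegree = Q :=
      FiniteField.X_pow_card_sub_X_natDegree_eq K hQ1
    have hsub : (Finset.univ : Finset K) ⊆ (Polynomial.X ^ Q - Polynomial.X : Polynomial K).roots.toFinset := by
      intro x _
      rw [Multiset.mem_toFinset, Polynomial.mem_roots hP0]
      simp [Polynomial.IsRoot, hcon x]
    have h1 := Finset.card_le_card hsub
    have h3 := Multiset.toFinset_card_le (Polynomial.X ^ Q - Polynomial.X : Polynomial K).roots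
    have h4 := Polynomial.card_roots' (Polynomial.X ^ Q - Polynomial.X : Polynomial K)
    rw [Finset.card_univ, hcardK] at h1
    rw [hdeg] at h4
    nlinarith
  obtain ⟨y, hy⟩ := hnfix
  let φ : K ≃ₐ[F] K := (FiniteField.frobeniusAlgEquivOfAlgebraic F K) ^ d
  have hφ : ∀ b, φ b = b ^ Q := fun b => frob_pow_apply d b
  let τ : K := y - y ^ Q
  have hτ0 : τ ≠ 0 := fun h => hy (sub_eq_zero.1 h).symm
  have hφφ : ∀ a, φ (φ a) = a := by
    intro a
    rw [hφ, hφ, hfix]
  let tr : K →ₗ[F] F := Algebra.trace F K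
  have htrφ : ∀ a, tr (φ a) = tr a := fun a => Algebra.trace_eq_of_algEquiv φ a
  have htr : ∀ a : K, a ≠ 0 → ∃ b : K, tr (a * b) ≠ 0 := by
    intro a ha
    obtain ⟨z, hz⟩ := Algebra.trace_surjective F K 1
    refine ⟨a⁻¹ * z, ?_⟩
    rw [← mul_assoc, mul_inv_cancel₀ ha, one_mul]
    change Algebra.trace F K z ≠ 0
    rw [hz]
    exact one_ne_zero
  let B : LinearMap.BilinForm F K :=
    LinearMap.mk₂ F (fun a b => tr (τ * a * φ b))
      (fun a b c => by simp only [mul_add, add_mul, map_add])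
      (fun r a b => by
        simp only [mul_smul_comm, smul_mul_assoc, map_smul, smul_eq_mul])
      (fun a b c => by simp only [mul_add, map_add])
      (fun r a b => by
        simp only [map_smul, mul_smul_comm, smul_eq_mul])
  have hBapp : ∀ a b, B a b = tr (τ * a * φ b) := fun a b => rfl
  have hA : B.IsAlt := by
    intro a
    rw [hBapp]
    -- `τ = y - φ y`
    have h1 : τ * a * φ a = y * (a * φ a) - φ (y * (a * φ a)) := by
      simp only [τ, map_mul, hφφ]
      rw [hφ y]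
      ring
    rw [h1, map_sub, htrφ, sub_self]
  have hB : B.Nondegenerate := by
    refine nondeg_of_alt hA ?_
    intro a h
    by_contra ha
    obtain ⟨b, hb⟩ := htr (τ * a) (mul_ne_zero hτ0 ha)
    apply hb
    have := h (φ.symm b)
    rw [hBapp, AlgEquiv.apply_symm_apply] at this
    exact this
  let T : K →ₗ[F] K := LinearMap.mulLeft F θ
  have hTapp : ∀ a, T a = θ * a := fun a => rfl
  have hTiso : ∀ u v, B (T u) (T v) = B u v := by
    intro u v
    rw [hBapp, hBapp, hTapp, hTapp, map_mul φ, hφ θ]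
    have : τ * (θ * u) * (θ ^ Q * φ v) = θ ^ (Q + 1) * (τ * u * φ v) := by ring
    rw [this, hθ, one_mul]
  obtain ⟨A, hA'⟩ := exists_sp_of_isometry B hA hB hd T hTiso
  refine ⟨A, fun t c => ?_⟩
  rw [hA']
  have hpow : ∀ (t : ℕ) (u : K), (T ^ t) u = θ ^ t * u := by
    intro t
    induction t with
    | zero => intro u; simp
    | succ t ih =>
      intro u
      rw [pow_succ, Module.End.mul_apply, ih, hTapp, pow_succ, mul_assoc]
  constructor
  · intro h
    have h1 := congrArg (fun S : Module.End F K => S (1 : K)) h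
    simp only [hpow, mul_one] at h1
    have h3 : θ ^ t = c • (1 : K) := h1
    rw [h3, Algebra.smul_def, mul_one]
  · intro h
    refine LinearMap.ext fun u => ?_
    rw [hpow, h]
    change algebraMap F K c * u = c • u
    rw [Algebra.smul_def]

theorem isOrd_plus (p : ℕ) [Fact p.Prime] [CharP F p] {d M : ℕ} (hd : 1 ≤ d) (hM : M ∣ q ^ d - 1) : IsOrd F d M := by
  classical
  haveI : NeZero d := ⟨by omega⟩
  let K := FiniteField.Extension F p d
  haveI : Fintype K := Fintype.ofFinite K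
  have hcard : Fintype.card K = q ^ d := by
    have := FiniteField.natCard_extension F p d
    rwa [Nat.card_eq_fintype_card, Nat.card_eq_fintype_card] at this
  obtain ⟨θ, hθ0, hθ⟩ := Cfsg.Agent.Lib.Classical.Symp.OrdClass.exists_root (E := K) (k := M) (by rw [hcard]; exact hM)
  obtain ⟨A, hA⟩ := exists_sp_plus (F := F) (K := K) (FiniteField.finrank_extension F p d) θ hθ0
  refine ⟨A, order_eq_of_iff _ _ fun t => ?_⟩
  rw [sp_pow_eq_one_iff]
  have h1 := hA t 1
  rw [one_smul, map_one] at h1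
  rw [h1, inv_pow, ← hθ]
  constructor
  · exact fun h => h.2
  · exact fun h => ⟨by rw [h, inv_one], h⟩

theorem isOrd_minus (p : ℕ) [Fact p.Prime] [CharP F p] {d M : ℕ} (hd : 1 ≤ d) (hM : M ∣ q ^ d + 1) : IsOrd F d M := by
  classical
  haveI : NeZero (2 * d) := ⟨by omega⟩
  let K := FiniteField.Extension F p (2 * d)
  haveI : Fintype K := Fintype.ofFinite K
  have hcard : Fintype.card K = q ^ (2 * d) := by
    have := FiniteField.natCard_extension F p (2 * d)
    rwa [Nat.card_eq_fintype_card, Nat.card_eq_fintype_card] at this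
  have hq : 1 ≤ q ^ d := Nat.one_le_pow _ _ Fintype.card_pos
  have hdvd : M ∣ Fintype.card K - 1 := by
    rw [hcard, mul_comm 2 d, pow_mul]
    obtain ⟨u, hu⟩ : ∃ u, q ^ d = u + 1 := ⟨q ^ d - 1, by omega⟩
    have : (q ^ d) ^ 2 - 1 = (q ^ d + 1) * (q ^ d - 1) := by
      rw [hu]
      simp only [Nat.add_sub_cancel]
      have : (u + 1) ^ 2 = (u + 1 + 1) * u + 1 := by ring
      omega
    rw [this]
    exact Dvd.dvd.mul_right hM _
  obtain ⟨θ, -, hθ⟩ := Cfsg.Agent.Lib.Classical.Symp.OrdClass.exists_root (E := K) hdvd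
  have hθd : θ ^ (q ^ d + 1) = 1 := (hθ _).2 hM
  obtain ⟨A, hA⟩ := exists_sp_minus' (F := F) (K := K) (FiniteField.finrank_extension F p (2 * d)) hd θ hθd
  refine ⟨A, order_eq_of_iff _ _ fun t => ?_⟩
  rw [sp_pow_eq_one_iff]
  have h1 := hA t 1
  rw [one_smul, map_one] at h1
  rw [h1, hθ]

/-- A transvection in `Sp_2` has order `p`. -/
theorem isOrd_one_char (p : ℕ) [hp : Fact p.Prime] [CharP F p] : IsOrd F 1 p := by
  classical
  let M : Matrix (Fin 1 ⊕ Fin 1) (Fin 1 ⊕ Fin 1) F := Matrix.fromBlocks 1 0 1 1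
  have hmem : M ∈ symplecticGroup (Fin 1) F := by
    rw [SymplecticGroup.mem_iff]
    simp only [M, Matrix.J, Matrix.fromBlocks_transpose, Matrix.fromBlocks_multiply]
    simp
  have hpow : ∀ t : ℕ, M ^ t = Matrix.fromBlocks 1 0 ((t : F) • 1) 1 := by
    intro t
    induction t with
    | zero =>
      simp
    | succ t ih =>
      rw [pow_succ, ih]
      simp only [M, Matrix.fromBlocks_multiply]
      simp [add_smul, add_comm]
  refine ⟨⟨M, hmem⟩, order_eq_of_iff _ _ fun t => ?_⟩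
  rw [sp_pow_eq_one_iff]
  change M ^ t = 1 ↔ _
  rw [hpow]
  constructor
  · intro h
    have h1 := congrFun (congrFun h (Sum.inr 0)) (Sum.inl 0)
    simp at h1
    exact (CharP.cast_eq_zero_iff F p t).1 h1
  · intro h
    have h1 := (CharP.cast_eq_zero_iff F p t).2 h
    rw [h1]
    simp

theorem IsOrd.mono {a n o : ℕ} (h : IsOrd F a o) (han : a ≤ n) : IsOrd F n o := by
  obtain ⟨b, rfl⟩ := Nat.exists_eq_add_of_le han
  have := h.sum (isOrd_one (F := F) b)
  simpa using this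

/-- Elements of `Sp` of odd order, or in characteristic two, have the same order in `PSp`. -/
theorem order_mk {o : ℕ} (hn : 1 ≤ n) (A : symplecticGroup (Fin n) F) (hA : orderOf A = o)
    (ho : Odd o ∨ (2 : F) = 0) : orderOf (QuotientGroup.mk A : PSp n F) = o := by
  have hval : ∀ t, A.1 ^ t = 1 ↔ o ∣ t := by
    intro t
    rw [← sp_pow_eq_one_iff, ← hA, orderOf_dvd_iff_pow_eq_one]
  by_cases h2 : (2 : F) = 0
  · have hneg : (-1 : Matrix (Fin n ⊕ Fin n) (Fin n ⊕ Fin n) F) = 1 := by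
      have h3 : (2 : F) • (1 : Matrix (Fin n ⊕ Fin n) (Fin n ⊕ Fin n) F) = 0 := by
        rw [h2, zero_smul]
      rw [two_smul] at h3
      exact neg_eq_of_add_eq_zero_left h3
    refine order_eq_of_iff _ _ fun t => ?_
    rw [psp_pow_eq_one_iff hn, hneg, or_self, hval]
  · have ho' := ho.resolve_right h2
    refine order_eq_of_iff _ _ fun t => ?_
    rw [psp_pow_eq_one_iff hn, ← hval]
    constructor
    · rintro (h | h)
      · exact h
      · exact absurd h (pow_ne_neg_one hn h2 A (hA ▸ ho') t)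
    · exact Or.inl

/-- `IsOrd F η r` from the arithmetic of `q` modulo `r`. -/
theorem isOrd_eta (p : ℕ) [Fact p.Prime] [CharP F p] {r k η : ℕ} [hr : Fact r.Prime] (hrq : ¬ r ∣ q)
    (hk : k = orderOf ((q : ℕ) : ZMod r)) (hη : (Odd k ∧ η = k) ∨ (Even k ∧ 2 * η = k)) :
    IsOrd F η r := by
  have hk0 : 0 < k := order_pos hrq hk
  rcases hη with ⟨-, rfl⟩ | ⟨-, hη⟩
  · exact isOrd_plus p hk0 (dvd_pow_sub_one hk dvd_rfl)
  · have hη0 : 1 ≤ η := by omega
    exact isOrd_minus p hη0 (dvd_pow_add_one hrq hk hη)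

end Models

section Arithmetic

theorem arith1 {k l ηk ηl n : ℕ} (hk0 : 0 < k) (hl0 : 0 < l) (hηk : (Odd k ∧ ηk = k) ∨ (Even k ∧ 2 * ηk = k))
    (hηl : (Odd l ∧ ηl = l) ∨ (Even l ∧ 2 * ηl = l)) (hkl : ηk ≤ ηl) (h : Nat.lcm k l ≤ n) :
    ηk + ηl ≤ n ∨ ∃ t : ℕ, Odd t ∧ l = k * t := by
  have hlcm : 0 < Nat.lcm k l := Nat.lcm_pos hk0 hl0
  have hl1 : l ≤ Nat.lcm k l := Nat.le_of_dvd hlcm (Nat.dvd_lcm_right k l)
  rcases hηk with ⟨hko, h1⟩ | ⟨hke, h1⟩ <;> rcases hηl with ⟨hlo, h2⟩ | ⟨hle, h2⟩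
  · by_cases hd : k ∣ l
    · obtain ⟨t, rfl⟩ := hd
      exact Or.inr ⟨t, (Nat.odd_mul.1 hlo).2, rfl⟩
    · left
      have := add_le_lcm hl0 hk0 (by omega) hd
      omega
  · left
    omega
  · left
    obtain ⟨c, hc⟩ := Nat.dvd_lcm_right k l
    have hc1 : c ≠ 1 := by
      rintro rfl
      rw [mul_one] at hc
      have h3 : k ∣ l := by
        rw [← hc]
        exact Nat.dvd_lcm_left k l
      have h4 := Nat.not_even_iff_odd.2 hlo
      exact h4 (hke.trans_dvd h3)
    have hc0 : c ≠ 0 := by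
      rintro rfl
      omega
    have h3 : 2 ≤ c := by omega
    have h4 : l * 2 ≤ l * c := Nat.mul_le_mul_left _ h3
    omega
  · left
    omega

theorem arith2 {k l ηk ηl n j : ℕ} (hk0 : 0 < k) (hl0 : 0 < l) (hηk : (Odd k ∧ ηk = k) ∨ (Even k ∧ 2 * ηk = k))
    (hηl : (Odd l ∧ ηl = l) ∨ (Even l ∧ 2 * ηl = l)) (hkl : ηk ≤ ηl) (h1 : k ∣ 2 * j) (h2 : ¬ k ∣ j)
    (h3 : l ∣ 2 * j) (h4 : ¬ l ∣ j) (h : Nat.lcm k l ≤ 2 * n) :
    ηk + ηl ≤ n ∨ ∃ t : ℕ, Odd t ∧ l = k * t := by
  have hk2 : 2 * ηk = k := by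
    rcases hηk with ⟨hko, -⟩ | ⟨-, h⟩
    · exact absurd ((Nat.coprime_comm.1 (Nat.coprime_two_left.2 hko)).dvd_of_dvd_mul_left h1) h2
    · exact h
  have hl2 : 2 * ηl = l := by
    rcases hηl with ⟨hlo, -⟩ | ⟨-, h⟩
    · exact absurd ((Nat.coprime_comm.1 (Nat.coprime_two_left.2 hlo)).dvd_of_dvd_mul_left h3) h4
    · exact h
  by_cases hd : k ∣ l
  · obtain ⟨t, rfl⟩ := hd
    right
    refine ⟨t, ?_, rfl⟩
    by_contra ht
    obtain ⟨t', rfl⟩ := Nat.not_odd_iff_even.1 ht
    apply h2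
    have h5 : 2 * (k * t') ∣ 2 * j := by
      have : k * (t' + t') = 2 * (k * t') := by ring
      rwa [this] at h3
    have h6 : k * t' ∣ j := Nat.dvd_of_mul_dvd_mul_left (by norm_num) h5
    exact (dvd_mul_right k t').trans h6
  · left
    have := add_le_lcm hl0 hk0 (by omega) hd
    omega

theorem order_of_pow_neg {r j : ℕ} [hr : Fact r.Prime] (hr2 : r ≠ 2) {a : ZMod r} (h : a ^ j = -1) :
    orderOf a ∣ 2 * j ∧ ¬ orderOf a ∣ j := by
  constructor
  · apply orderOf_dvd_of_pow_eq_one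
    rw [mul_comm, pow_mul, h]
    simp
  · rw [orderOf_dvd_iff_pow_eq_one, h]
    intro h1
    have h2 : (2 : ZMod r) = 0 := by
      linear_combination -h1
    have h3 : ((2 : ℕ) : ZMod r) = 0 := by exact_mod_cast h2
    rw [ZMod.natCast_eq_zero_iff] at h3
    exact hr2 ((Nat.prime_dvd_prime_iff_eq hr.out Nat.prime_two).1 h3)

end Arithmetic

end Cfsg.Agent.Lib.Classical.Herm.PGSymp
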