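import Mathlib
import Cfsg.Agent.Lib.Classical.Herm.GLDescent
import Cfsg.Agent.Lib.Classical.Herm.HermOnb

/-!
# Involutory graph-field automorphisms of `PSL_n`
-/

set_option autoImplicit false
set_option linter.unusedSectionVars false
set_option linter.unusedSimpArgs false
set_option linter.unusedVariables false
set_option linter.style.haveILetI false

open scoped Matrix MatrixGroups
open Cfsg
open Cfsg.Agent.Lib.Classical.Herm.Basic Cfsg.Agent.Lib.Classical.Herm.GU Cfsg.Agent.Lib.Classical.Herm.SU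
open Cfsg.Agent.Lib.Classical.Herm.Psi Cfsg.Agent.Lib.Classical.Herm.Descent
open Cfsg.Agent.Lib.Classical.Herm.SplitAbs Cfsg.Agent.Lib.Classical.Herm.GLDescent
open Cfsg.Agent.Lib.Classical.Herm.HermOnb
open Cfsg.Agent.Lib.Linalg.AutPSLBasic Cfsg.Agent.Lib.Linalg.AutPSLStd Cfsg.Agent.Lib.Linalg.AutPSLCount
open Cfsg.Agent.Lib.Linalg.AutPSLMain
open Module

namespace Cfsg.Agent.Lib.Classical.Herm.PSLGraphField

variable {F : Type*} [Field F] [Fintype F] {n : ℕ}

local notation "Pn" => Matrix.ProjectiveSpecialLinearGroup (Fin n) F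

attribute [local instance] finite_ringAut

/-! ### The involution of `Aut F` -/

/-- The map `x ↦ x^q` as a ring automorphism. -/
noncomputable def sigE {q : ℕ} (hF : Fintype.card F = q ^ 2) : F ≃+* F :=
  RingEquiv.ofRingHom (sigma hF) (sigma hF)
    (by ext x; exact sigma_sigma hF x) (by ext x; exact sigma_sigma hF x)

theorem sigE_apply {q : ℕ} (hF : Fintype.card F = q ^ 2) (x : F) : sigE hF x = x ^ q := rfl

theorem sigE_sq {q : ℕ} (hF : Fintype.card F = q ^ 2) : sigE hF ^ 2 = 1 := by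
  ext x
  rw [pow_two]
  exact sigma_sigma hF x

theorem sigE_ne_one {q : ℕ} (hF : Fintype.card F = q ^ 2) : sigE hF ≠ 1 := by
  intro h
  apply sigma_ne_id hF
  ext x
  have := congrArg (fun τ : F ≃+* F => τ x) h
  exact this

/-- An involution of `Aut F` is `x ↦ x^{√|F|}`. -/
theorem involution_eq {p f : ℕ} [hp : Fact p.Prime] (hF : Fintype.card F = p ^ f) (hf : 1 ≤ f)
    (σ : F ≃+* F) (h1 : σ ≠ 1) (h2 : σ ^ 2 = 1) :
    Even f ∧ ∃ hF₀ : Fintype.card F = (p ^ (f / 2)) ^ 2, σ = sigE hF₀ := by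
  classical
  have hord : orderOf σ = 2 := orderOf_eq_prime h2 h1
  obtain ⟨hr, hN, hq⟩ := fix_card hF hf σ
  rw [hord] at hr hN hq
  have heven : Even f := (even_iff_two_dvd).mpr hr
  have hF₀ : Fintype.card F = (p ^ (f / 2)) ^ 2 := by rw [hF]; exact hq
  refine ⟨heven, hF₀, ?_⟩
  have hF' : Nat.card F = p ^ f := by rwa [Nat.card_eq_fintype_card]
  haveI := charP_of_card (F := F) hf hF'
  haveI := Cfsg.Agent.Lib.Classical.Herm.AutStruct.isCyclic_ringAut (F := F) p
  letI : Fintype (F ≃+* F) := Fintype.ofFinite _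
  have hcard : Fintype.card (F ≃+* F) = f := by
    rw [← Nat.card_eq_fintype_card]
    exact Cfsg.Agent.Lib.Classical.Herm.AutStruct.card_ringAut p f hF
  have h3 := IsCyclic.card_orderOf_eq_totient (α := F ≃+* F) (d := 2) (by rw [hcard]; exact hr)
  rw [Nat.totient_two] at h3
  have hord2 : orderOf (sigE hF₀) = 2 := orderOf_eq_prime (sigE_sq hF₀) (sigE_ne_one hF₀)
  exact Finset.card_le_one.mp h3.le σ (by simp [hord]) _ (by simp [hord2])

/-! ### The graph-field automorphism -/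

/-- The standard graph-field automorphism. -/
noncomputable abbrev gfP (σ : F ≃+* F) : MulAut Pn := fieldP σ * itP

theorem gfP_mul_conjP (σ : F ≃+* F) (g : GL (Fin n) F) :
    (gfP σ * conjP g : MulAut Pn) = conjP (mapG σ (trI g)) * gfP σ := by
  rw [gfP, mul_assoc, itP_mul_conjP, ← mul_assoc, fieldP_mul_conjP, mul_assoc]

theorem gfP_sq (hn : 3 ≤ n) (σ : F ≃+* F) : (gfP σ : MulAut Pn) * gfP σ = fieldP (σ ^ 2) := by
  haveI : NeZero n := ⟨by omega⟩
  rw [gfP, mul_assoc, ← mul_assoc itP, itP_mul_fieldP hn, mul_assoc, itP_mul_itP hn, mul_one, pow_two, fieldP_mul]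

/-- Any automorphism commuting with the field and graph automorphisms has its `Aut`-class in its `Inndiag`-class. -/
theorem class_conj_of_comm {p f : ℕ} [Fact p.Prime] (hF : Fintype.card F = p ^ f) (hf : 1 ≤ f)
    (hn : 2 ≤ n) {x α y : MulAut Pn} (hy1 : ∀ τ : F ≃+* F, fieldP τ * y = y * fieldP τ)
    (hy2 : 3 ≤ n → itP * y = y * itP) (h : α * x * α⁻¹ = y) :
    ∃ c : GL (Fin n) F, (conjP c : MulAut Pn) * x * (conjP c)⁻¹ = y := by
  obtain ⟨G, τ, rfl | ⟨hn3, rfl⟩⟩ := exists_std' hF hf hn α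
  · refine ⟨mapG τ⁻¹ G, ?_⟩
    have h1 : (conjP (mapG τ⁻¹ G) : MulAut Pn) = (fieldP τ)⁻¹ * conjP G * fieldP τ := by
      rw [← conj_conjP_field τ⁻¹ G, fieldP_inv, inv_inv]
    have h3 : (fieldP τ)⁻¹ * y * fieldP τ = y := by
      rw [mul_assoc, inv_mul_eq_iff_eq_mul, hy1]
    rw [h1]
    rw [← h3, ← h]
    group
  · haveI : NeZero n := ⟨by omega⟩
    refine ⟨trI (mapG τ⁻¹ G), ?_⟩
    have hit : (itP : MulAut Pn)⁻¹ = itP := inv_eq_of_mul_eq_one_left (itP_mul_itP hn3)
    have h1 : (conjP (mapG τ⁻¹ G) : MulAut Pn) = (fieldP τ)⁻¹ * conjP G * fieldP τ := by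
      rw [← conj_conjP_field τ⁻¹ G, fieldP_inv, inv_inv]
    have h2 : (conjP (trI (mapG τ⁻¹ G)) : MulAut Pn) = itP⁻¹ * conjP (mapG τ⁻¹ G) * itP := by
      rw [hit]
      have h4 := itP_mul_conjP (n := n) (F := F) (mapG τ⁻¹ G)
      rw [h4, mul_assoc, itP_mul_itP hn3, mul_one]
    have h3 : (fieldP τ)⁻¹ * y * fieldP τ = y := by
      rw [mul_assoc, inv_mul_eq_iff_eq_mul, hy1]
    have h5 : (itP : MulAut Pn)⁻¹ * y * itP = y := by
      rw [mul_assoc, inv_mul_eq_iff_eq_mul, hy2 hn3]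
    rw [h2, h1]
    rw [← h5, ← h3, ← h]
    group

/-- A graph-field automorphism is `Inndiag`-conjugate to a standard one. -/
theorem gf_class_data {p f : ℕ} [Fact p.Prime] (hF : Fintype.card F = p ^ f) (hf : 1 ≤ f)
    {x : MulAut Pn} (hx : IsGraphFieldAutClassPSL x) :
    ∃ (σ : F ≃+* F) (c : GL (Fin n) F), σ ≠ 1 ∧ (conjP c : MulAut Pn) * x * (conjP c)⁻¹ = gfP σ := by
  obtain ⟨hn3, α, φ, γ, σ, hσ1, hφ, hγ, h⟩ := hx
  have hφ' := isStd_eq σ φ hφ
  have hγ' := isIT_eq γ hγ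
  subst hφ' hγ'
  haveI : NeZero n := ⟨by omega⟩
  have hF' : Nat.card F = p ^ f := by rwa [Nat.card_eq_fintype_card]
  haveI := charP_of_card (F := F) hf hF'
  have hcomm1 : ∀ τ : F ≃+* F, fieldP τ * (gfP σ : MulAut Pn) = gfP σ * fieldP τ := by
    intro τ
    rw [gfP, ← mul_assoc, ← fieldP_mul, ringAut_comm p τ σ, fieldP_mul, mul_assoc, mul_assoc,
      itP_mul_fieldP hn3]
  have hcomm2 : (itP : MulAut Pn) * gfP σ = gfP σ * itP := by
    rw [gfP, ← mul_assoc, itP_mul_fieldP hn3]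
  obtain ⟨c, hc⟩ := class_conj_of_comm hF hf (by omega) hcomm1 (fun _ => hcomm2) h
  exact ⟨σ, c, hσ1, hc⟩

/-- The order of a standard graph-field automorphism of prime order. -/
theorem order_gfP (hn : 3 ≤ n) (σ : F ≃+* F) {r : ℕ} (hr : r.Prime)
    (h : orderOf (gfP σ : MulAut Pn) = r) : r = 2 ∧ σ ^ 2 = 1 := by
  haveI : NeZero n := ⟨by omega⟩
  have hit : (itP : MulAut Pn)⁻¹ = itP := inv_eq_of_mul_eq_one_left (itP_mul_itP hn)
  have hc : Commute (fieldP σ : MulAut Pn) itP := (itP_mul_fieldP hn σ).symm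
  have hp : (gfP σ : MulAut Pn) ^ r = 1 := by rw [← h]; exact pow_orderOf_eq_one _
  have hfp : ∀ k : ℕ, (fieldP σ : MulAut Pn) ^ k = fieldP (σ ^ k) := by
    intro k
    induction k with
    | zero => simp [fieldP_one]
    | succ k ih => rw [pow_succ, ih, pow_succ, fieldP_mul]
  have hit2 : (itP : MulAut Pn) ^ 2 = 1 := by rw [pow_two]; exact itP_mul_itP hn
  have h2 : r = 2 := by
    rcases hr.eq_two_or_odd' with h2 | hodd
    · exact h2
    · exfalso
      obtain ⟨t, ht⟩ := hodd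
      rw [gfP, hc.mul_pow, hfp, ht, pow_succ itP, pow_mul, hit2, one_pow, one_mul] at hp
      have h3 : (itP : MulAut Pn) = conjP 1 * fieldP (σ ^ (2 * t + 1))⁻¹ := by
        rw [conjP_one, one_mul, fieldP_inv]
        exact (eq_inv_of_mul_eq_one_right hp)
      exact itP_ne hn _ _ h3
  refine ⟨h2, ?_⟩
  subst h2
  rw [pow_two, gfP_sq hn] at hp
  apply fieldP_eq_iff (n := n) (by omega)
  rw [hp, fieldP_one]

/-! ### Hermitian matrices -/

theorem map_map_sigE {q : ℕ} (hF : Fintype.card F = q ^ 2) (M : Matrix (Fin n) (Fin n) F) :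
    (M.map (sigE hF)).map (sigE hF) = M := by
  ext i j
  exact sigma_sigma hF _

/-- A Hermitian invertible matrix is `h σ(h)ᵀ`. -/
theorem exists_herm_factor {q : ℕ} (hF : Fintype.card F = q ^ 2) (M : GL (Fin n) F)
    (hM : ((M : Matrix (Fin n) (Fin n) F).map (sigE hF))ᵀ = M) :
    ∃ h : GL (Fin n) F, (h : Matrix (Fin n) (Fin n) F) * ((h : Matrix (Fin n) (Fin n) F).map (sigE hF))ᵀ = M := by
  classical
  set σ := sigE hF with hσ
  let H : (Fin n → F) → (Fin n → F) → F := fun x y => x ⬝ᵥ ((M : Matrix (Fin n) (Fin n) F) *ᵥ sigHat σ y)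
  have hH : IsHerm q H := by
    refine ⟨?_, ?_, ?_, ?_⟩
    · intro x y z
      exact add_dotProduct _ _ _
    · intro c x y
      simp only [H, smul_dotProduct, smul_eq_mul]
    · intro x y
      have h1 : H x y ^ q = σ (H x y) := rfl
      rw [h1]
      simp only [H]
      have h2 : ∀ a b : Fin n → F, σ (a ⬝ᵥ b) = sigHat σ a ⬝ᵥ sigHat σ b := by
        intro a b
        simp [dotProduct, map_sum]
      have h4 : sigHat σ (sigHat σ y) = y := by
        funext i
        exact sigma_sigma hF _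
      rw [h2, ← map_mulVec_sigHat, h4]
      conv_lhs => rw [← hM]
      rw [Matrix.mulVec_transpose, dotProduct_comm, ← Matrix.dotProduct_mulVec]
    · intro x hx
      have h1 : ∀ z, x ⬝ᵥ z = 0 := by
        intro z
        obtain ⟨y, rfl⟩ := Tg_surjective M σ z
        exact hx y
      funext i
      have h2 := h1 (Pi.single i 1)
      simpa using h2
  obtain ⟨b, hb⟩ := exists_onb hF n (Fin n → F) H hH (Module.finrank_fin_fun F)
  set G := (M : Matrix (Fin n) (Fin n) F) with hG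
  let B : Matrix (Fin n) (Fin n) F := Matrix.of b
  have hB : B * (G * (B.map σ)ᵀ) = 1 := by
    ext i j
    have h1 := hb i j
    rw [Matrix.one_apply, ← h1]
    simp only [H, Matrix.mul_apply, dotProduct, Matrix.mulVec, Matrix.transpose_apply, Matrix.map_apply, sigHat]
    rfl
  have hB' : (G * (B.map σ)ᵀ) * B = 1 := mul_eq_one_comm.mp hB
  have hB2 : (B.map σ)ᵀ * (B * G) = 1 := by
    have h1 : (B * G) * (B.map σ)ᵀ = 1 := by rw [mul_assoc]; exact hB
    exact mul_eq_one_comm.mp h1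
  refine ⟨⟨G * (B.map σ)ᵀ, B, hB', hB⟩, ?_⟩
  change (G * (B.map σ)ᵀ) * ((G * (B.map σ)ᵀ).map σ)ᵀ = G
  have h3 : ((G * (B.map σ)ᵀ).map σ)ᵀ = B * (G.map σ)ᵀ := by
    rw [Matrix.map_mul, Matrix.transpose_mul]
    congr 1
    ext i j
    exact sigma_sigma hF _
  rw [h3, hM, mul_assoc, hB2, mul_one]

theorem coe_trI (g : GL (Fin n) F) :
    ((trI g : GL (Fin n) F) : Matrix (Fin n) (Fin n) F) = ((g⁻¹ : GL (Fin n) F) : Matrix (Fin n) (Fin n) F)ᵀ := rfl

theorem conj_gfP_of_factor (σ : F ≃+* F) (h M : GL (Fin n) F)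
    (hM : (h : Matrix (Fin n) (Fin n) F) * ((h : Matrix (Fin n) (Fin n) F).map σ)ᵀ = M) :
    (conjP h * gfP σ * (conjP h)⁻¹ : MulAut Pn) = conjP M * gfP σ := by
  rw [← conjP_inv, mul_assoc, gfP_mul_conjP, ← mul_assoc, ← conjP_mul]
  congr 2
  apply Units.ext
  rw [← hM, Units.val_mul, coe_mapG, coe_trI, inv_inv, Matrix.transpose_map]

theorem map_sigE_inv_transpose (σ : F ≃+* F) (g : GL (Fin n) F) :
    ((((g⁻¹ : GL (Fin n) F) : Matrix (Fin n) (Fin n) F)ᵀ).map σ) * ((g : Matrix (Fin n) (Fin n) F).map σ)ᵀ = 1 := by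
  rw [← Matrix.transpose_map (M := (g : Matrix (Fin n) (Fin n) F)), ← Matrix.map_mul, ← Matrix.transpose_mul, ← Units.val_mul, mul_inv_cancel]
  simp

theorem Nk_two (σ : F ≃+* F) (c : F) : Nk σ c 2 = c * σ c := by
  simp [Nk_succ, Nk_zero]

theorem exists_entry_ne_zero (hn : 1 ≤ n) (g : GL (Fin n) F) :
    ∃ i j, (g : Matrix (Fin n) (Fin n) F) i j ≠ 0 := by
  by_contra hcon
  push Not at hcon
  haveI : Nonempty (Fin n) := ⟨⟨0, by omega⟩⟩
  have h0 : (g : Matrix (Fin n) (Fin n) F) = 0 := by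
    ext i j
    exact hcon i j
  exact g.ne_zero h0

/-- **Conjugacy of involutory graph-field automorphisms.** -/
theorem gf_conj_of_sq (hn : 3 ≤ n) {q : ℕ} (hF : Fintype.card F = q ^ 2) (g : GL (Fin n) F)
    (h : (conjP g * gfP (sigE hF) : MulAut Pn) * (conjP g * gfP (sigE hF)) = 1) :
    ∃ k : GL (Fin n) F, (conjP k * gfP (sigE hF) * (conjP k)⁻¹ : MulAut Pn) = conjP g * gfP (sigE hF) := by
  classical
  haveI : NeZero n := ⟨by omega⟩
  set σ := sigE hF with hσ
  have hσ2 : σ ^ 2 = 1 := sigE_sq hF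
  have hσσ : ∀ y, σ (σ y) = y := fun y => sigma_sigma hF y
  have hord : orderOf σ = 2 := orderOf_eq_prime hσ2 (sigE_ne_one hF)
  have h1 : (conjP (g * mapG σ (trI g)) : MulAut Pn) = 1 := by
    have h2 : (conjP g * gfP σ : MulAut Pn) * (conjP g * gfP σ) =
        conjP (g * mapG σ (trI g)) * (gfP σ * gfP σ) := by
      rw [conjP_mul, mul_assoc (conjP g), ← mul_assoc (gfP σ), gfP_mul_conjP]
      simp only [mul_assoc]
    rw [h2, gfP_sq hn, hσ2, fieldP_one, mul_one] at h
    exact h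
  obtain ⟨ν, hν⟩ := exists_scalar_of_conjP (by omega) h1
  set G := (g : Matrix (Fin n) (Fin n) F) with hG
  have hGeq : G = Matrix.scalar (Fin n) (ν : F) * (G.map σ)ᵀ := by
    have h2 := congrArg (fun w : GL (Fin n) F => (w : Matrix (Fin n) (Fin n) F)) hν
    simp only [Units.val_mul, coe_mapG, coe_trI, coe_sG] at h2
    rw [← h2, mul_assoc, map_sigE_inv_transpose, mul_one]
  have hent : ∀ i j, G i j = (ν : F) * σ (G j i) := by
    intro i j
    have := congrFun (congrFun hGeq i) j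
    rwa [Cfsg.Agent.Lib.Classical.Herm.FieldCent.scalar_mul_apply] at this
  obtain ⟨i, j, hij⟩ := exists_entry_ne_zero (by omega) g
  have hNν : Nk σ (ν : F) (orderOf σ) = 1 := by
    rw [hord, Nk_two]
    have h3 : G i j = (ν : F) * σ (ν : F) * G i j := by
      conv_lhs => rw [hent i j, hent j i, map_mul, hσσ]
      ring
    have h4 : ((ν : F) * σ (ν : F) - 1) * G i j = 0 := by linear_combination -h3
    exact sub_eq_zero.mp ((mul_eq_zero.mp h4).resolve_right hij)
  obtain ⟨a, ha, hνa⟩ := exists_hilbert_units σ hNν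
  have hσa : σ a ≠ 0 := by simpa using ha
  let b : Fˣ := (Units.mk0 a ha)⁻¹
  have hbv : (b : F) = a⁻¹ := rfl
  obtain ⟨k, hk⟩ := exists_herm_factor hF (sG n b * g) (by
    rw [← hσ]
    ext k l
    have h5 : ((sG n b * g : GL (Fin n) F) : Matrix (Fin n) (Fin n) F) =
      Matrix.scalar (Fin n) (b : F) * G := rfl
    rw [h5, Matrix.transpose_apply, Matrix.map_apply, Cfsg.Agent.Lib.Classical.Herm.FieldCent.scalar_mul_apply,
      Cfsg.Agent.Lib.Classical.Herm.FieldCent.scalar_mul_apply, hent k l, map_mul, hbv, map_inv₀]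
    field_simp
    linear_combination (-(σ (G l k))) * hνa)
  refine ⟨k, ?_⟩
  rw [conj_gfP_of_factor σ k (sG n b * g) hk, conjP_mul, conjP_sG, one_mul]

/-! ### The unitary group as the centraliser -/

section Unitary

variable {q : ℕ} (hF : Fintype.card F = q ^ 2)

theorem mem_GU_of (u : GL (Fin n) F)
    (h : (u : Matrix (Fin n) (Fin n) F)ᵀ * (u : Matrix (Fin n) (Fin n) F).map (sigE hF) = 1) : u ∈ GU n F q := by
  have h1 : Preserves q (u : Matrix (Fin n) (Fin n) F) := by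
    rw [preserves_iff_frame hF]
    intro i j
    have h2 := congrFun (congrFun h i) j
    rw [Matrix.one_apply, Matrix.mul_apply] at h2
    rw [← h2, hermForm_apply]
    rfl
  exact h1

theorem transpose_mul_of_GU (u : GL (Fin n) F) (hu : u ∈ GU n F q) :
    (u : Matrix (Fin n) (Fin n) F)ᵀ * (u : Matrix (Fin n) (Fin n) F).map (sigE hF) = 1 :=
  transpose_mul_map hF _ hu

theorem mapG_trI_of_GU (u : GL (Fin n) F) (hu : u ∈ GU n F q) : mapG (sigE hF) (trI u) = u := by
  apply Units.ext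
  rw [coe_mapG, coe_trI]
  have h1 := transpose_mul_of_GU hF u hu
  have h2 : ((u⁻¹ : GL (Fin n) F) : Matrix (Fin n) (Fin n) F)ᵀ * (u : Matrix (Fin n) (Fin n) F)ᵀ = 1 := by
    rw [← Matrix.transpose_mul, ← Units.val_mul, mul_inv_cancel]
    simp
  have h3 : ((u⁻¹ : GL (Fin n) F) : Matrix (Fin n) (Fin n) F)ᵀ = (u : Matrix (Fin n) (Fin n) F).map (sigE hF) := by
    calc ((u⁻¹ : GL (Fin n) F) : Matrix (Fin n) (Fin n) F)ᵀ
        = ((u⁻¹ : GL (Fin n) F) : Matrix (Fin n) (Fin n) F)ᵀ * ((u : Matrix (Fin n) (Fin n) F)ᵀ *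
            (u : Matrix (Fin n) (Fin n) F).map (sigE hF)) := by rw [h1, mul_one]
      _ = (u : Matrix (Fin n) (Fin n) F).map (sigE hF) := by rw [← mul_assoc, h2, one_mul]
  rw [h3, map_map_sigE]

theorem comm_of_GU (u : GL (Fin n) F) (hu : u ∈ GU n F q) :
    (gfP (sigE hF) * conjP u : MulAut Pn) = conjP u * gfP (sigE hF) := by
  rw [gfP_mul_conjP, mapG_trI_of_GU hF u hu]

/-- An element commuting with the standard graph-field automorphism is a scalar times a unitary matrix. -/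
theorem exists_GU_of_comm (hn : 3 ≤ n) (v : GL (Fin n) F)
    (h : (gfP (sigE hF) * conjP v : MulAut Pn) = conjP v * gfP (sigE hF)) :
    ∃ a : Fˣ, sG n a * v ∈ GU n F q := by
  classical
  haveI : NeZero n := ⟨by omega⟩
  set σ := sigE hF with hσ
  have hσσ : ∀ y, σ (σ y) = y := fun y => sigma_sigma hF y
  have hord : orderOf σ = 2 := orderOf_eq_prime (sigE_sq hF) (sigE_ne_one hF)
  rw [gfP_mul_conjP] at h
  have h1 : (conjP (mapG σ (trI v)) : MulAut Pn) = conjP v := mul_right_cancel h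
  have h2 : (conjP (mapG σ (trI v) * v⁻¹) : MulAut Pn) = 1 := by
    rw [conjP_mul, conjP_inv, h1, mul_inv_cancel]
  obtain ⟨μ, hμ⟩ := exists_scalar_of_conjP (by omega) h2
  set V := (v : Matrix (Fin n) (Fin n) F) with hV
  have h3 : mapG σ (trI v) = sG n μ * v := by
    rw [← hμ, inv_mul_cancel_right]
  have h4 : Matrix.scalar (Fin n) (μ : F) * (V * (V.map σ)ᵀ) = 1 := by
    have h5 := map_sigE_inv_transpose σ v
    have h6 := congrArg (fun w : GL (Fin n) F => (w : Matrix (Fin n) (Fin n) F)) h3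
    simp only [coe_mapG, coe_trI] at h6
    rw [h6] at h5
    rw [← mul_assoc]
    exact h5
  set N := V * (V.map σ)ᵀ with hN
  have hNherm : (N.map σ)ᵀ = N := by
    rw [hN, Matrix.map_mul, Matrix.transpose_mul]
    congr 1
    ext i j
    simp [Matrix.transpose_apply, hσσ]
  have hμ0 : (μ : F) ≠ 0 := Units.ne_zero _
  have hNent : ∀ i j, (μ : F) * N i j = (1 : Matrix (Fin n) (Fin n) F) i j := by
    intro i j
    have := congrFun (congrFun h4 i) j
    rwa [Cfsg.Agent.Lib.Classical.Herm.FieldCent.scalar_mul_apply] at this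
  have hσμ : σ (μ : F) = μ := by
    let i₀ : Fin n := ⟨0, by omega⟩
    have h7 := hNent i₀ i₀
    rw [Matrix.one_apply_eq] at h7
    have h8 : σ (N i₀ i₀) = N i₀ i₀ := congrFun (congrFun hNherm i₀) i₀
    have h9 := congrArg σ h7
    rw [map_mul, h8, map_one] at h9
    have h10 : (σ (μ : F) - μ) * N i₀ i₀ = 0 := by linear_combination h9 - h7
    have h11 : N i₀ i₀ ≠ 0 := by
      intro h0
      rw [h0, mul_zero] at h7
      exact zero_ne_one h7
    exact sub_eq_zero.mp ((mul_eq_zero.mp h10).resolve_right h11)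
  obtain ⟨a, ha, hNa⟩ := exists_norm_units σ hμ0 hσμ
  rw [hord, Nk_two] at hNa
  refine ⟨Units.mk0 a ha, ?_⟩
  apply mem_GU_of hF
  set U := ((sG n (Units.mk0 a ha) * v : GL (Fin n) F) : Matrix (Fin n) (Fin n) F) with hU
  have hU' : U = Matrix.scalar (Fin n) a * V := rfl
  have h5 : U * (U.map σ)ᵀ = 1 := by
    ext i j
    have h6 := hNent i j
    rw [← hNa] at h6
    rw [Matrix.one_apply] at h6 ⊢
    rw [← h6, hN, Matrix.mul_apply, Matrix.mul_apply, Finset.mul_sum]
    refine Finset.sum_congr rfl fun l _ => ?_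
    rw [hU', Matrix.transpose_apply, Matrix.map_apply, Matrix.transpose_apply, Matrix.map_apply,
      Cfsg.Agent.Lib.Classical.Herm.FieldCent.scalar_mul_apply,
      Cfsg.Agent.Lib.Classical.Herm.FieldCent.scalar_mul_apply, map_mul]
    ring
  have h6 : (U.map σ)ᵀ * U = 1 := mul_eq_one_comm.mp h5
  have h7 := congrArg Matrix.transpose h6
  rwa [Matrix.transpose_mul, Matrix.transpose_transpose, Matrix.transpose_one] at h7

theorem scalars_mem_iff (u : GL (Fin n) F) : u ∈ Geo.scalars (Fin n) F ↔ ∃ a : Fˣ, u = sG n a := by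
  constructor
  · rintro ⟨a, rfl⟩
    exact ⟨a, rfl⟩
  · rintro ⟨a, rfl⟩
    exact ⟨a, rfl⟩

/-- The centraliser in `Inndiag` of an involutory graph-field automorphism is `PGU`. -/
theorem cent_iso_gf (hn : 3 ≤ n) {x : MulAut Pn} (c : GL (Fin n) F)
    (hc : (conjP c : MulAut Pn) * x * (conjP c)⁻¹ = gfP (sigE hF)) :
    Nonempty (↥(inndiagPSL n F ⊓ Subgroup.centralizer {x}) ≃* PGU n F q) := by
  classical
  set σ := sigE hF with hσ
  have hxc : x = (conjP c : MulAut Pn)⁻¹ * gfP σ * conjP c := by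
    rw [← hc]
    group
  let f₀ : GU n F q →* MulAut Pn :=
    (MulAut.conj (conjP c : MulAut Pn)⁻¹).toMonoidHom.comp (conjHom.comp (GU n F q).subtype)
  have hf₀ : ∀ m : GU n F q, f₀ m = (conjP c : MulAut Pn)⁻¹ * conjP (m : GL (Fin n) F) * conjP c := by
    intro m
    change MulAut.conj (conjP c : MulAut Pn)⁻¹ (conjP (m : GL (Fin n) F)) = _
    rw [MulAut.conj_apply, inv_inv]
  have hmem : ∀ m, f₀ m ∈ inndiagPSL n F ⊓ Subgroup.centralizer {x} := by
    intro m
    refine Subgroup.mem_inf.mpr ⟨?_, ?_⟩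
    · rw [inndiagPSL_eq, hf₀]
      refine ⟨c⁻¹ * (m : GL (Fin n) F) * c, ?_⟩
      change conjP _ = _
      rw [conjP_mul, conjP_mul, conjP_inv]
    · rw [Subgroup.mem_centralizer_iff]
      rintro y rfl
      rw [hf₀, hxc]
      have h1 := comm_of_GU hF (n := n) (m : GL (Fin n) F) m.2
      rw [← hσ] at h1
      calc (conjP c : MulAut Pn)⁻¹ * gfP σ * conjP c * ((conjP c)⁻¹ * conjP (m : GL (Fin n) F) * conjP c)
          = (conjP c)⁻¹ * (gfP σ * conjP (m : GL (Fin n) F)) * conjP c := by group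
        _ = (conjP c)⁻¹ * (conjP (m : GL (Fin n) F) * gfP σ) * conjP c := by rw [h1]
        _ = _ := by group
  let f : GU n F q →* ↥(inndiagPSL n F ⊓ Subgroup.centralizer {x}) := f₀.codRestrict _ hmem
  have hfs : Function.Surjective f := by
    rintro ⟨β, hβ⟩
    obtain ⟨hβ1, hβ2⟩ := Subgroup.mem_inf.mp hβ
    rw [inndiagPSL_eq] at hβ1
    obtain ⟨g, rfl⟩ := hβ1
    rw [Subgroup.mem_centralizer_iff] at hβ2
    have hβ3 := hβ2 x rfl
    have hu : (conjP (c * g * c⁻¹) : MulAut Pn) = conjP c * conjHom g * (conjP c)⁻¹ := by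
      change _ = conjP c * conjP g * (conjP c)⁻¹
      rw [conjP_mul, conjP_mul, conjP_inv]
    have hcomm : (gfP σ * conjP (c * g * c⁻¹) : MulAut Pn) = conjP (c * g * c⁻¹) * gfP σ := by
      rw [hu, ← hc]
      have h2 : x * conjHom g = conjHom g * x := hβ3
      calc (conjP c : MulAut Pn) * x * (conjP c)⁻¹ * (conjP c * conjHom g * (conjP c)⁻¹)
          = conjP c * (x * conjHom g) * (conjP c)⁻¹ := by group
        _ = conjP c * (conjHom g * x) * (conjP c)⁻¹ := by rw [h2]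
        _ = _ := by group
    obtain ⟨a, ha⟩ := exists_GU_of_comm hF hn _ hcomm
    refine ⟨⟨_, ha⟩, ?_⟩
    apply Subtype.ext
    change f₀ _ = conjHom g
    rw [hf₀]
    change (conjP c : MulAut Pn)⁻¹ * conjP (sG n a * (c * g * c⁻¹)) * conjP c = _
    rw [conjP_mul, conjP_sG, one_mul, hu]
    group
  have hker : f.ker = (Geo.scalars (Fin n) F).subgroupOf (GU n F q) := by
    ext m
    rw [MonoidHom.mem_ker, Subgroup.mem_subgroupOf, scalars_mem_iff]
    have hf1 : f m = 1 ↔ (conjP (m : GL (Fin n) F) : MulAut Pn) = 1 := by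
      have h1 : f m = 1 ↔ f₀ m = 1 := by
        rw [Subtype.ext_iff]
        rfl
      rw [h1, hf₀]
      constructor
      · intro h2
        have h3 : (conjP (m : GL (Fin n) F) : MulAut Pn) = conjP c * 1 * (conjP c)⁻¹ := by
          rw [← h2]
          group
        rw [h3]
        group
      · intro h2
        rw [h2]
        group
    rw [hf1]
    constructor
    · exact exists_scalar_of_conjP (by omega)
    · rintro ⟨a, ha⟩
      rw [ha, conjP_sG]
  exact ⟨(QuotientGroup.quotientKerEquivOfSurjective f hfs).symm.trans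
    (QuotientGroup.quotientMulEquivOfEq hker)⟩

/-- The number of `PSL`-classes in the `PGL`-class. -/
theorem split_count_gf (hn : 3 ≤ n) {x : MulAut Pn} (c : GL (Fin n) F)
    (hc : (conjP c : MulAut Pn) * x * (conjP c)⁻¹ = gfP (sigE hF)) :
    splitClassCount (inndiagPSL n F) (Inn Pn) x = Nat.gcd (q - 1) n := by
  classical
  haveI : NeZero n := ⟨by omega⟩
  set σ := sigE hF with hσ
  have hq2 := two_le_q hF
  have hu : Nat.card Fˣ = (q + 1) * (q - 1) := card_units hF
  have hAd : q - 1 ∣ Nat.card Fˣ := ⟨q + 1, by rw [hu, mul_comm]⟩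
  rw [← index_Pw_sup (G := Fˣ) (q - 1) n hAd, ← ker_eq_Pw hu]
  have hxc : x = (conjP c : MulAut Pn)⁻¹ * gfP σ * conjP c := by
    rw [← hc]
    group
  apply split_count_abs (conjHom : GL (Fin n) F →* MulAut Pn) Matrix.GeneralLinearGroup.det
  · intro a
    refine ⟨dil a, ?_⟩
    apply Units.ext
    rw [Matrix.GeneralLinearGroup.val_det_apply]
    exact det_dil a
  · exact inndiagPSL_eq
  · rintro _ ⟨a, rfl⟩
    obtain ⟨s, rfl⟩ := mkP_surjective a
    refine ⟨Matrix.SpecialLinearGroup.toGL s, ?_, conj_mk_eq_conjP s⟩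
    apply Units.ext
    rw [Matrix.GeneralLinearGroup.val_det_apply]
    exact s.2
  · intro g hg
    have hdet : (g : Matrix (Fin n) (Fin n) F).det = 1 := by
      have := congrArg Units.val hg
      rwa [Matrix.GeneralLinearGroup.val_det_apply] at this
    let s : Matrix.SpecialLinearGroup (Fin n) F := ⟨(g : Matrix (Fin n) (Fin n) F), hdet⟩
    refine ⟨mkP s, ?_⟩
    have h1 : Matrix.SpecialLinearGroup.toGL s = g := by
      apply Units.ext
      rfl
    rw [← h1]
    exact conj_mk_eq_conjP s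
  · intro g hg
    have hu' : (conjP (c * g * c⁻¹) : MulAut Pn) = conjP c * conjP g * (conjP c)⁻¹ := by
      rw [conjP_mul, conjP_mul, conjP_inv]
    have hg' : x * conjP g = conjP g * x := hg
    have hcomm : (gfP σ * conjP (c * g * c⁻¹) : MulAut Pn) = conjP (c * g * c⁻¹) * gfP σ := by
      rw [hu', ← hc]
      calc (conjP c : MulAut Pn) * x * (conjP c)⁻¹ * (conjP c * conjP g * (conjP c)⁻¹)
          = conjP c * (x * conjP g) * (conjP c)⁻¹ := by group
        _ = conjP c * (conjP g * x) * (conjP c)⁻¹ := by rw [hg']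
        _ = _ := by group
    obtain ⟨a, ha⟩ := exists_GU_of_comm hF hn _ hcomm
    have h1 : Matrix.GeneralLinearGroup.det (sG n a * (c * g * c⁻¹)) ∈
        (powMonoidHom (q + 1) : Fˣ →* Fˣ).ker := by
      have h5 : detGU n F q ⟨_, ha⟩ ∈ (detGU n F q).range := ⟨_, rfl⟩
      rw [detGU_range hF (by omega : 1 ≤ n)] at h5
      exact h5
    have h3 : Matrix.GeneralLinearGroup.det (sG n a * (c * g * c⁻¹)) =
        a ^ n * Matrix.GeneralLinearGroup.det g := by
      rw [map_mul, map_mul, map_mul, map_inv, det_sG]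
      congr 1
      rw [mul_comm (Matrix.GeneralLinearGroup.det c), mul_inv_cancel_right]
    have h4 : Matrix.GeneralLinearGroup.det g =
        Matrix.GeneralLinearGroup.det (sG n a * (c * g * c⁻¹)) * (a ^ n)⁻¹ := by
      rw [h3, mul_comm (a ^ n), mul_inv_cancel_right]
    rw [h4]
    exact Subgroup.mul_mem _ (Subgroup.mem_sup_left h1)
      (Subgroup.mem_sup_right (Subgroup.inv_mem _ ⟨a, rfl⟩))
  · intro w hw
    obtain ⟨y, hy, z, hz, rfl⟩ := Subgroup.mem_sup.mp hw
    obtain ⟨b, rfl⟩ := hz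
    have hy' : y ∈ (detGU n F q).range := by
      rw [detGU_range hF (by omega : 1 ≤ n)]
      exact hy
    obtain ⟨g₀, rfl⟩ := hy'
    refine ⟨c⁻¹ * (g₀ : GL (Fin n) F) * c * sG n b, ?_, ?_⟩
    · have h1 : conjHom (c⁻¹ * (g₀ : GL (Fin n) F) * c * sG n b) =
          (conjP c : MulAut Pn)⁻¹ * conjP (g₀ : GL (Fin n) F) * conjP c := by
        change conjP _ = _
        rw [conjP_mul, conjP_mul, conjP_mul, conjP_inv, conjP_sG, mul_one]
      have h2 := comm_of_GU hF (n := n) (g₀ : GL (Fin n) F) g₀.2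
      rw [← hσ] at h2
      rw [h1, hxc]
      calc (conjP c : MulAut Pn)⁻¹ * gfP σ * conjP c * ((conjP c)⁻¹ * conjP (g₀ : GL (Fin n) F) * conjP c)
          = (conjP c)⁻¹ * (gfP σ * conjP (g₀ : GL (Fin n) F)) * conjP c := by group
        _ = (conjP c)⁻¹ * (conjP (g₀ : GL (Fin n) F) * gfP σ) * conjP c := by rw [h2]
        _ = _ := by group
    · rw [map_mul, map_mul, map_mul, map_inv, det_sG, mul_comm (Matrix.GeneralLinearGroup.det c)⁻¹,
        mul_assoc (Matrix.GeneralLinearGroup.det (g₀ : GL (Fin n) F)), inv_mul_cancel, mul_one]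
      rfl

end Unitary

/-! ### The main theorems -/

/-- The coset statement for graph-field automorphisms. -/
theorem coset_conj_gf {p f : ℕ} [Fact p.Prime] (hF : Fintype.card F = p ^ f) (hf : 1 ≤ f)
    (x δ : MulAut Pn) (hx : IsGraphFieldAutClassPSL x) {r : ℕ} (hr : r.Prime) (hxr : orderOf x = r)
    (hδ : δ ∈ inndiagPSL n F) (h : orderOf (δ * x) = r) : IsConjUnder (inndiagPSL n F) x (δ * x) := by
  have hn := hx.1
  haveI : NeZero n := ⟨by omega⟩
  obtain ⟨σ, c, hσ1, hc⟩ := gf_class_data hF hf hx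
  have hord : orderOf (gfP σ : MulAut Pn) = r := by
    rw [← hc, orderOf_conj_eq, hxr]
  obtain ⟨rfl, hσ2⟩ := order_gfP hn σ hr hord
  obtain ⟨he, hF₀, rfl⟩ := involution_eq hF hf σ hσ1 hσ2
  rw [inndiagPSL_eq] at hδ ⊢
  obtain ⟨d, rfl⟩ := hδ
  have hconj : (conjP (c * d * c⁻¹) * gfP (sigE hF₀) : MulAut Pn) = conjP c * (conjHom d * x) * (conjP c)⁻¹ := by
    have h1 : (conjP (c * d * c⁻¹) : MulAut Pn) = conjP c * conjP d * (conjP c)⁻¹ := by
      rw [conjP_mul, conjP_mul, conjP_inv]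
    rw [h1, ← hc]
    change _ = conjP c * (conjP d * x) * (conjP c)⁻¹
    group
  obtain ⟨k, hk⟩ := gf_conj_of_sq hn hF₀ (c * d * c⁻¹) (by
    rw [hconj, ← pow_two]
    have h2 : ((conjP c : MulAut Pn) * (conjHom d * x) * (conjP c)⁻¹) =
      MulAut.conj (conjP c : MulAut Pn) (conjHom d * x) := rfl
    rw [h2, ← map_pow, ← h, pow_orderOf_eq_one, map_one])
  refine ⟨conjHom (c⁻¹ * k * c), ⟨_, rfl⟩, ?_⟩
  rw [hconj, ← hc] at hk
  have h3 : conjHom (c⁻¹ * k * c) = (conjP c : MulAut Pn)⁻¹ * conjP k * conjP c := by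
    change conjP _ = _
    rw [conjP_mul, conjP_mul, conjP_inv]
  rw [h3]
  have h4 := congrArg (fun z => (conjP c : MulAut Pn)⁻¹ * z * conjP c) hk
  have h5 : (conjP c : MulAut Pn)⁻¹ * (conjP c * (conjHom d * x) * (conjP c)⁻¹) * conjP c
      = conjHom d * x := by group
  simp only [h5] at h4
  rw [← h4]
  group

/-- The full coset statement. -/
theorem coset_main {p f : ℕ} [Fact p.Prime] (hF : Fintype.card F = p ^ f) (hf : 1 ≤ f) (hn : 2 ≤ n)
    (x δ : MulAut Pn) (hx : IsFieldAutClassPSL x ∨ IsGraphFieldAutClassPSL x) {r : ℕ} (hr : r.Prime)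
    (hxr : orderOf x = r) (hδ : δ ∈ inndiagPSL n F) :
    orderOf (δ * x) = r ↔ IsConjUnder (inndiagPSL n F) x (δ * x) := by
  constructor
  · intro h
    rcases hx with hx | hx
    · apply coset_conj_field hF hf hn x δ hx hδ
      rw [hxr, ← h]
      exact pow_orderOf_eq_one _
    · exact coset_conj_gf hF hf x δ hx hr hxr hδ h
  · rintro ⟨k, -, hk⟩
    rw [hk, orderOf_conj_eq, hxr]

/-- **Involutory graph-field automorphisms of `PSL_n(q)`.** -/
theorem gf_main {p f : ℕ} [hp : Fact p.Prime] (hF : Fintype.card F = p ^ f) (hf : 1 ≤ f) (hn : 3 ≤ n)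
    (x : MulAut Pn) (hx : IsGraphFieldAutClassPSL x) (hx2 : orderOf x = 2) :
    Even f ∧ (∀ y : MulAut Pn, IsGraphFieldAutClassPSL y → orderOf y = 2 → IsConjUnder (inndiagPSL n F) x y) ∧
      Nonempty (↥(inndiagPSL n F ⊓ Subgroup.centralizer {x}) ≃* PGU n F (p ^ (f / 2))) ∧
      splitClassCount (inndiagPSL n F) (Inn Pn) x = Nat.gcd n (p ^ (f / 2) - 1) := by
  obtain ⟨σ, c, hσ1, hc⟩ := gf_class_data hF hf hx
  have hord : orderOf (gfP σ : MulAut Pn) = 2 := by
    rw [← hc, orderOf_conj_eq, hx2]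
  obtain ⟨-, hσ2⟩ := order_gfP hn σ Nat.prime_two hord
  obtain ⟨he, hF₀, rfl⟩ := involution_eq hF hf σ hσ1 hσ2
  refine ⟨he, ?_, cent_iso_gf hF₀ hn c hc, ?_⟩
  · intro y hy hy2
    obtain ⟨σ', c', hσ1', hc'⟩ := gf_class_data hF hf hy
    have hord' : orderOf (gfP σ' : MulAut Pn) = 2 := by
      rw [← hc', orderOf_conj_eq, hy2]
    obtain ⟨-, hσ2'⟩ := order_gfP hn σ' Nat.prime_two hord'
    obtain ⟨-, hF₁, rfl⟩ := involution_eq hF hf σ' hσ1' hσ2'
    rw [inndiagPSL_eq]
    refine ⟨conjHom (c'⁻¹ * c), ⟨_, rfl⟩, ?_⟩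
    have h1 : conjHom (c'⁻¹ * c) = (conjP c' : MulAut Pn)⁻¹ * conjP c := by
      change conjP _ = _
      rw [conjP_mul, conjP_inv]
    rw [h1]
    have h2 : y = (conjP c' : MulAut Pn)⁻¹ * (conjP c * x * (conjP c)⁻¹) * conjP c' := by
      rw [hc, ← hc']
      group
    rw [h2]
    group
  · rw [split_count_gf hF₀ hn c hc, Nat.gcd_comm]

end Cfsg.Agent.Lib.Classical.Herm.PSLGraphField
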