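import Mathlib
import Cfsg.Agent.Lib.Classical.Herm.Gen
import Cfsg.Agent.Lib.Classical.Herm.HermOnb
import Cfsg.Agent.Lib.Classical.Herm.Comm
import Cfsg.Agent.Lib.Linalg.RootScale

/-!
# Generation of `SU₃(q)` in the antidiagonal model

The form `hJ x y = x₀ y₂^q - x₁ y₁^q + x₂ y₀^q`. A subgroup `H` of its isometry group which contains
a nontrivial element of the root group `xM a β`, an element of the Borel subgroup whose ratio of the
first two diagonal entries generates the field, and an element moving `e₁` off `e₁^⊥`, contains all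
unitary transvections of the form.
-/

set_option autoImplicit false
set_option linter.unusedSectionVars false
set_option linter.unusedSimpArgs false
set_option linter.unusedVariables false

namespace Cfsg.Agent.Lib.Classical.Herm.SU3Gen

open Matrix Cfsg
open Cfsg.Agent.Lib.Classical.Herm.Basic
open Cfsg.Agent.Lib.Classical.Lin.RootSeed (coe_mul_inv coe_inv_mul)

variable {F : Type*} [Field F] [Fintype F] {q : ℕ}

/-- The antidiagonal hermitian form. -/
def hJ (q : ℕ) (x y : Fin 3 → F) : F := x 0 * y 2 ^ q - x 1 * y 1 ^ q + x 2 * y 0 ^ q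

theorem q_ne_zero (hF : Fintype.card F = q ^ 2) : q ≠ 0 := by
  have := two_le_q hF
  omega

theorem hJ_add_left (x x' y : Fin 3 → F) : hJ q (x + x') y = hJ q x y + hJ q x' y := by
  simp only [hJ, Pi.add_apply]; ring

theorem hJ_smul_left (c : F) (x y : Fin 3 → F) : hJ q (c • x) y = c * hJ q x y := by
  simp only [hJ, Pi.smul_apply, smul_eq_mul]; ring

theorem hJ_herm (hF : Fintype.card F = q ^ 2) (x y : Fin 3 → F) : hJ q y x = hJ q x y ^ q := by
  simp only [hJ, pow_q_add hF, pow_q_sub hF, mul_pow, pow_q_pow_q hF]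
  ring

theorem hJ_add_right (hF : Fintype.card F = q ^ 2) (x y y' : Fin 3 → F) :
    hJ q x (y + y') = hJ q x y + hJ q x y' := by
  simp only [hJ, Pi.add_apply, pow_q_add hF]; ring

theorem hJ_smul_right (c : F) (x y : Fin 3 → F) : hJ q x (c • y) = c ^ q * hJ q x y := by
  simp only [hJ, Pi.smul_apply, smul_eq_mul, mul_pow]; ring

theorem isHerm_hJ (hF : Fintype.card F = q ^ 2) :
    HermOnb.IsHerm q (hJ q : (Fin 3 → F) → (Fin 3 → F) → F) := by
  have hq := q_ne_zero hF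
  refine ⟨hJ_add_left, hJ_smul_left, hJ_herm hF, ?_⟩
  intro x hx
  have h0 := hx ![0, 0, 1]
  have h1 := hx ![0, 1, 0]
  have h2 := hx ![1, 0, 0]
  simp [hJ, hq] at h0 h1 h2
  ext i
  fin_cases i
  · exact h0
  · exact h1
  · exact h2

/-- The isometry group of `hJ` in `SL₃`. -/
def G0 (F : Type*) [Field F] (q : ℕ) : Subgroup (SpecialLinearGroup (Fin 3) F) :=
  preserving (slToMat 3 F) (hJ q)

theorem mem_G0 {g : SpecialLinearGroup (Fin 3) F} :
    g ∈ G0 F q ↔ ∀ x y : Fin 3 → F,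
      hJ q ((g : Matrix (Fin 3) (Fin 3) F) *ᵥ x) ((g : Matrix (Fin 3) (Fin 3) F) *ᵥ y) = hJ q x y :=
  Iff.rfl

/-- Membership in `G0` from entries. -/
theorem mem_G0_of_entries (hF : Fintype.card F = q ^ 2) {g : SpecialLinearGroup (Fin 3) F}
    {A : Matrix (Fin 3) (Fin 3) F} (hg : (g : Matrix (Fin 3) (Fin 3) F) = A)
    (h : ∀ i j : Fin 3, hJ q (A *ᵥ Pi.single i 1) (A *ᵥ Pi.single j 1) =
      hJ q (Pi.single i 1) (Pi.single j 1)) : g ∈ G0 F q := by
  rw [mem_G0, hg]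
  have hq := q_ne_zero hF
  intro x y
  have hx : ∀ z : Fin 3 → F, z = z 0 • Pi.single 0 1 + z 1 • Pi.single 1 1 + z 2 • Pi.single 2 1 := by
    intro z
    ext i
    fin_cases i <;> simp
  rw [hx x, hx y]
  generalize x 0 = x0
  generalize x 1 = x1
  generalize x 2 = x2
  generalize y 0 = y0
  generalize y 1 = y1
  generalize y 2 = y2
  simp only [Matrix.mulVec_add, Matrix.mulVec_smul, hJ_add_left, hJ_add_right hF, hJ_smul_left,
    hJ_smul_right, h]


theorem coe_inv_of_mul {g : SpecialLinearGroup (Fin 3) F} {M : Matrix (Fin 3) (Fin 3) F}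
    (h : (g : Matrix (Fin 3) (Fin 3) F) * M = 1) :
    ((g⁻¹ : SpecialLinearGroup (Fin 3) F) : Matrix (Fin 3) (Fin 3) F) = M := by
  have h1 := coe_inv_mul g
  calc ((g⁻¹ : SpecialLinearGroup (Fin 3) F) : Matrix (Fin 3) (Fin 3) F)
      = ((g⁻¹ : SpecialLinearGroup (Fin 3) F) : Matrix (Fin 3) (Fin 3) F) *
          ((g : Matrix (Fin 3) (Fin 3) F) * M) := by rw [h, Matrix.mul_one]
    _ = M := by rw [← Matrix.mul_assoc, h1, Matrix.one_mul]

theorem coe_conj_of {g x : SpecialLinearGroup (Fin 3) F} {M : Matrix (Fin 3) (Fin 3) F}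
    (h : (g : Matrix (Fin 3) (Fin 3) F) * (x : Matrix (Fin 3) (Fin 3) F) =
      M * (g : Matrix (Fin 3) (Fin 3) F)) :
    ((g * x * g⁻¹ : SpecialLinearGroup (Fin 3) F) : Matrix (Fin 3) (Fin 3) F) = M := by
  simp only [Matrix.SpecialLinearGroup.coe_mul]
  rw [h, Matrix.mul_assoc, coe_mul_inv, Matrix.mul_one]

/-- Root elements. -/
def xM (q : ℕ) (a β : F) : Matrix (Fin 3) (Fin 3) F := !![1, a, β; 0, 1, a ^ q; 0, 0, 1]

theorem xM_mul (hF : Fintype.card F = q ^ 2) (a β a' β' : F) :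
    xM q a β * xM q a' β' = xM q (a + a') (β + β' + a * a' ^ q) := by
  ext i j
  fin_cases i <;> fin_cases j <;>
    simp [xM, Matrix.mul_apply, Fin.sum_univ_three, pow_q_add hF] <;> ring

theorem xM_zero_zero (hF : Fintype.card F = q ^ 2) : xM q (0 : F) 0 = 1 := by
  have hq := q_ne_zero hF
  ext i j
  fin_cases i <;> fin_cases j <;> simp [xM, hq]

variable {H : Subgroup (SpecialLinearGroup (Fin 3) F)}

/-- `xM a β` belongs to `H`. -/
def Up (H : Subgroup (SpecialLinearGroup (Fin 3) F)) (q : ℕ) (a β : F) : Prop :=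
  ∃ g ∈ H, (g : Matrix (Fin 3) (Fin 3) F) = xM q a β

theorem Up.zero (hF : Fintype.card F = q ^ 2) : Up H q 0 0 :=
  ⟨1, H.one_mem, by rw [xM_zero_zero hF]; rfl⟩

theorem Up.mul (hF : Fintype.card F = q ^ 2) {a β a' β' : F} (h : Up H q a β) (h' : Up H q a' β') :
    Up H q (a + a') (β + β' + a * a' ^ q) := by
  obtain ⟨g, hg, e⟩ := h
  obtain ⟨g', hg', e'⟩ := h'
  exact ⟨g * g', mul_mem hg hg', by
    rw [Matrix.SpecialLinearGroup.coe_mul, e, e', xM_mul hF]⟩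

theorem Up.inv (hF : Fintype.card F = q ^ 2) {a β : F} (h : Up H q a β) :
    Up H q (-a) (-β + a * a ^ q) := by
  obtain ⟨g, hg, e⟩ := h
  refine ⟨g⁻¹, inv_mem hg, coe_inv_of_mul ?_⟩
  rw [e, xM_mul hF, pow_q_neg hF]
  have e1 : a + -a = 0 := by ring
  have e2 : β + (-β + a * a ^ q) + a * -a ^ q = 0 := by ring
  rw [e1, e2, xM_zero_zero hF]

theorem Up.congr {a β a' β' : F} (h : Up H q a β) (ea : a = a') (eb : β = β') : Up H q a' β' := by
  subst ea; subst eb; exact h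

/-- Commutators land in the centre. -/
theorem Up.comm (hF : Fintype.card F = q ^ 2) {a β a' β' : F} (h : Up H q a β) (h' : Up H q a' β') :
    Up H q 0 (a * a' ^ q - a' * a ^ q) := by
  have h1 := (h.mul hF h').mul hF ((h'.mul hF h).inv hF)
  refine h1.congr (by ring) ?_
  rw [pow_q_neg hF]
  ring

/-- The form shows the constraint on `β`. -/
theorem constraint (hF : Fintype.card F = q ^ 2) (hH : H ≤ G0 F q) {a β : F} (h : Up H q a β) :
    β + β ^ q = a ^ (q + 1) := by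
  have hq := q_ne_zero hF
  obtain ⟨g, hg, e⟩ := h
  have h1 := (mem_G0.1 (hH hg)) ![0, 0, 1] ![0, 0, 1]
  rw [e] at h1
  simp [hJ, xM, Matrix.mulVec, dotProduct, Fin.sum_univ_three, hq, pow_q_pow_q hF] at h1
  rw [pow_succ]
  linear_combination h1


theorem eq_upper {g : SpecialLinearGroup (Fin 3) F} (h10 : (g : Matrix (Fin 3) (Fin 3) F) 1 0 = 0)
    (h20 : (g : Matrix (Fin 3) (Fin 3) F) 2 0 = 0) (h21 : (g : Matrix (Fin 3) (Fin 3) F) 2 1 = 0) :
    (g : Matrix (Fin 3) (Fin 3) F) =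
      !![(g : Matrix (Fin 3) (Fin 3) F) 0 0, (g : Matrix (Fin 3) (Fin 3) F) 0 1,
          (g : Matrix (Fin 3) (Fin 3) F) 0 2;
        0, (g : Matrix (Fin 3) (Fin 3) F) 1 1, (g : Matrix (Fin 3) (Fin 3) F) 1 2;
        0, 0, (g : Matrix (Fin 3) (Fin 3) F) 2 2] := by
  ext i j
  fin_cases i <;> fin_cases j <;> simp [h10, h20, h21]

/-- Conjugation by an element of the Borel subgroup. -/
theorem Up.conj_B (hF : Fintype.card F = q ^ 2) (hH : H ≤ G0 F q) {g : SpecialLinearGroup (Fin 3) F}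
    (hg : g ∈ H) (h10 : (g : Matrix (Fin 3) (Fin 3) F) 1 0 = 0)
    (h20 : (g : Matrix (Fin 3) (Fin 3) F) 2 0 = 0) (h21 : (g : Matrix (Fin 3) (Fin 3) F) 2 1 = 0)
    {a β : F} (h : Up H q a β) :
    ∃ β', Up H q ((g : Matrix (Fin 3) (Fin 3) F) 0 0 / (g : Matrix (Fin 3) (Fin 3) F) 1 1 * a) β' := by
  have hq := q_ne_zero hF
  have hdet : (g : Matrix (Fin 3) (Fin 3) F).det = 1 := g.2
  have hup := eq_upper h10 h20 h21
  have hpres := mem_G0.1 (hH hg)
  have p13 := hpres ![1, 0, 0] ![0, 0, 1]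
  have p22 := hpres ![0, 1, 0] ![0, 1, 0]
  obtain ⟨x, hx, e⟩ := h
  set t1 := (g : Matrix (Fin 3) (Fin 3) F) 0 0
  set t2 := (g : Matrix (Fin 3) (Fin 3) F) 1 1
  set t3 := (g : Matrix (Fin 3) (Fin 3) F) 2 2
  set m12 := (g : Matrix (Fin 3) (Fin 3) F) 0 1
  set m13 := (g : Matrix (Fin 3) (Fin 3) F) 0 2
  set m23 := (g : Matrix (Fin 3) (Fin 3) F) 1 2
  rw [hup] at hdet p13 p22
  simp [hJ, Matrix.mulVec, dotProduct, Fin.sum_univ_three, hq] at p13 p22
  rw [Matrix.det_fin_three] at hdet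
  simp at hdet
  have ht1 : t1 ≠ 0 := by
    rintro h0
    rw [h0] at hdet
    simp at hdet
  have ht2 : t2 ≠ 0 := by
    rintro h0
    rw [h0] at hdet
    simp at hdet
  have ht3 : t3 ≠ 0 := by
    rintro h0
    rw [h0] at hdet
    simp at hdet
  have h1q : t1 ^ q * t3 = 1 := by
    have := congrArg (· ^ q) p13
    simpa [mul_pow, pow_q_pow_q hF, hq] using this
  have h2q : t2 ^ q = t2⁻¹ := eq_inv_of_mul_eq_one_right p22
  have h1q' : t1 ^ q = t3⁻¹ := eq_inv_of_mul_eq_one_left h1q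
  have hσ : (t1 / t2 * a) ^ q = t2 / t3 * a ^ q := by
    rw [mul_pow, div_pow, h1q', h2q]
    field_simp
  refine ⟨(t1 * β + m12 * a ^ q - t1 / t2 * a * m23) / t3, g * x * g⁻¹,
    mul_mem (mul_mem hg hx) (inv_mem hg), coe_conj_of ?_⟩
  rw [e, hup, xM, xM, hσ]
  ext i j
  fin_cases i <;> fin_cases j <;>
    simp [Matrix.mul_apply, Fin.sum_univ_three] <;> field_simp <;> ring

/-- The first level is everything. -/
theorem all_level (hF : Fintype.card F = q ^ 2) (hH : H ≤ G0 F q) {g : SpecialLinearGroup (Fin 3) F}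
    (hg : g ∈ H) (h10 : (g : Matrix (Fin 3) (Fin 3) F) 1 0 = 0)
    (h20 : (g : Matrix (Fin 3) (Fin 3) F) 2 0 = 0) (h21 : (g : Matrix (Fin 3) (Fin 3) F) 2 1 = 0)
    (hρ : Subring.closure ({(g : Matrix (Fin 3) (Fin 3) F) 0 0 / (g : Matrix (Fin 3) (Fin 3) F) 1 1} :
      Set F) = ⊤) {a₀ β₀ : F} (ha₀ : a₀ ≠ 0) (h₀ : Up H q a₀ β₀) (a : F) : ∃ β, Up H q a β := by
  refine Cfsg.Agent.Lib.Linalg.RootScale.all_of_subring (P := fun a => ∃ β, Up H q a β) hρ ha₀
    ⟨0, Up.zero hF⟩ ⟨β₀, h₀⟩ ?_ ?_ ?_ a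
  · rintro x y ⟨b, hb⟩ ⟨b', hb'⟩
    exact ⟨_, hb.mul hF hb'⟩
  · rintro x ⟨b, hb⟩
    exact ⟨_, hb.inv hF⟩
  · rintro x ⟨b, hb⟩
    exact hb.conj_B hF hH hg h10 h20 h21

/-- All central elements. -/
theorem all_center (hF : Fintype.card F = q ^ 2) {θ : F} (hθ : θ + θ ^ q = 1)
    (hall : ∀ a : F, ∃ β, Up H q a β) {c : F} (hc : c + c ^ q = 0) : Up H q 0 c := by
  obtain ⟨b, hb⟩ := hall (c * θ)
  obtain ⟨b', hb'⟩ := hall 1
  refine (hb.comm hF hb').congr rfl ?_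
  have e : c ^ q = -c := by linear_combination hc
  rw [one_pow, mul_pow, e]
  linear_combination c * hθ

/-- All root elements. -/
theorem all_up (hF : Fintype.card F = q ^ 2) (hH : H ≤ G0 F q) {θ : F} (hθ : θ + θ ^ q = 1)
    (hall : ∀ a : F, ∃ β, Up H q a β) {a β : F} (h : β + β ^ q = a ^ (q + 1)) : Up H q a β := by
  have hq := q_ne_zero hF
  obtain ⟨β₀, h₀⟩ := hall a
  have hc := constraint hF hH h₀
  have h1 := all_center hF hθ hall (c := β - β₀) (by
    rw [pow_q_sub hF]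
    linear_combination h - hc)
  refine (h1.mul hF h₀).congr (by ring) (by simp [hq])


/-- The covector of `hJ · b`. -/
def sharp (q : ℕ) (b : Fin 3 → F) : Fin 3 → F := ![b 2 ^ q, -b 1 ^ q, b 0 ^ q]

theorem hJ_eq_dot (x b : Fin 3 → F) : hJ q x b = x ⬝ᵥ sharp q b := by
  simp [hJ, sharp, dotProduct, Fin.sum_univ_three]
  ring

/-- Unitary transvections of `hJ`. -/
def Tm (q : ℕ) (b : Fin 3 → F) (c : F) : Matrix (Fin 3) (Fin 3) F :=
  1 + c • vecMulVec b (sharp q b)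

theorem Tm_mulVec (b : Fin 3 → F) (c : F) (x : Fin 3 → F) :
    Tm q b c *ᵥ x = x + (c * hJ q x b) • b := by
  unfold Tm
  rw [Matrix.add_mulVec, Matrix.one_mulVec, Matrix.smul_mulVec, vecMulVec_mulVec, hJ_eq_dot,
    dotProduct_comm]
  funext i
  simp [MulOpposite.smul_eq_mul_unop]
  ring

/-- `H` contains `Tm b c`. -/
def InT (H : Subgroup (SpecialLinearGroup (Fin 3) F)) (q : ℕ) (b : Fin 3 → F) (c : F) : Prop :=
  ∃ g ∈ H, (g : Matrix (Fin 3) (Fin 3) F) = Tm q b c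

theorem InT.conj (hH : H ≤ G0 F q) {b : Fin 3 → F} {c : F} (h : InT H q b c)
    {g : SpecialLinearGroup (Fin 3) F} (hg : g ∈ H) :
    InT H q ((g : Matrix (Fin 3) (Fin 3) F) *ᵥ b) c := by
  obtain ⟨t, ht, e⟩ := h
  refine ⟨g * t * g⁻¹, mul_mem (mul_mem hg ht) (inv_mem hg), coe_conj_of ?_⟩
  rw [e]
  refine Matrix.ext_iff_mulVec.2 fun x => ?_
  rw [← Matrix.mulVec_mulVec, ← Matrix.mulVec_mulVec, Tm_mulVec, Tm_mulVec, Matrix.mulVec_add,
    Matrix.mulVec_smul, mem_G0.1 (hH hg)]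

theorem Tm_smul (hF : Fintype.card F = q ^ 2) (l : F) (b : Fin 3 → F) (c : F) :
    Tm q (l • b) c = Tm q b (l * l ^ q * c) := by
  ext i j
  fin_cases i <;> fin_cases j <;> simp [Tm, sharp, vecMulVec_apply, mul_pow] <;> ring

theorem InT.of_smul (hF : Fintype.card F = q ^ 2) {l : F} {b : Fin 3 → F} {c : F}
    (h : InT H q b (l * l ^ q * c)) : InT H q (l • b) c := by
  rwa [InT, Tm_smul hF]

theorem InT.smul (hF : Fintype.card F = q ^ 2) {l : F} {b : Fin 3 → F} {c : F}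
    (h : InT H q (l • b) c) : InT H q b (l * l ^ q * c) := by
  rwa [InT, ← Tm_smul hF]

theorem Tm_e1 (hF : Fintype.card F = q ^ 2) (c : F) : Tm q ![1, 0, 0] c = xM q 0 c := by
  have hq := q_ne_zero hF
  ext i j
  fin_cases i <;> fin_cases j <;> simp [Tm, xM, sharp, hq, vecMulVec_apply]

theorem Up.inT (hF : Fintype.card F = q ^ 2) {c : F} (h : Up H q 0 c) : InT H q ![1, 0, 0] c := by
  rwa [InT, Tm_e1 hF]

/-- Normal form of isotropic vectors off `e₁^⊥`. -/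
theorem decomp (hF : Fintype.card F = q ^ 2) {b : Fin 3 → F} (hb : hJ q b b = 0) (h2 : b 2 ≠ 0) :
    ∃ a β : F, β + β ^ q = a ^ (q + 1) ∧ b = b 2 • (xM q a β *ᵥ ![0, 0, 1]) := by
  have hq := q_ne_zero hF
  have h2q : b 2 ^ q ≠ 0 := pow_ne_zero _ h2
  refine ⟨(b 1 / b 2) ^ q, b 0 / b 2, ?_, ?_⟩
  · rw [pow_succ, pow_q_pow_q hF, div_pow, div_pow]
    simp only [hJ] at hb
    field_simp
    linear_combination hb
  · ext i
    fin_cases i <;>
      simp [xM, Matrix.mulVec, dotProduct, Fin.sum_univ_three, pow_q_pow_q hF] <;> field_simp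

theorem trace_zero_scale (hF : Fintype.card F = q ^ 2) (l : F) {c : F} (hc : c + c ^ q = 0) :
    l * l ^ q * c + (l * l ^ q * c) ^ q = 0 := by
  simp only [mul_pow, pow_q_pow_q hF]
  linear_combination (l * l ^ q) * hc

/-- All transvections. -/
theorem all_T (hF : Fintype.card F = q ^ 2) (hH : H ≤ G0 F q) {θ : F} (hθ : θ + θ ^ q = 1)
    (hall : ∀ a : F, ∃ β, Up H q a β) {w : SpecialLinearGroup (Fin 3) F} (hw : w ∈ H)
    (hw0 : (w : Matrix (Fin 3) (Fin 3) F) 2 0 ≠ 0) {b : Fin 3 → F} {c : F} (hb : hJ q b b = 0)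
    (hc : c + c ^ q = 0) : InT H q b c := by
  have hq := q_ne_zero hF
  have he1 : ∀ c : F, c + c ^ q = 0 → InT H q ![1, 0, 0] c := fun c hc =>
    (all_center hF hθ hall hc).inT hF
  have hconj : ∀ {a β : F}, β + β ^ q = a ^ (q + 1) → ∃ x ∈ H,
      (x : Matrix (Fin 3) (Fin 3) F) = xM q a β := fun h => all_up hF hH hθ hall h
  have he3 : ∀ c : F, c + c ^ q = 0 → InT H q ![0, 0, 1] c := by
    intro c hc
    set b₁ := (w : Matrix (Fin 3) (Fin 3) F) *ᵥ ![1, 0, 0] with hb₁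
    have hτ : b₁ 2 = (w : Matrix (Fin 3) (Fin 3) F) 2 0 := by
      simp [hb₁, Matrix.mulVec, dotProduct, Fin.sum_univ_three]
    have hiso : hJ q b₁ b₁ = 0 := by
      rw [hb₁, mem_G0.1 (hH hw)]
      simp [hJ, hq]
    have h2 : b₁ 2 ≠ 0 := by rwa [hτ]
    set τ := b₁ 2 with hτdef
    have hτq : τ ^ q ≠ 0 := pow_ne_zero _ h2
    obtain ⟨a, β, hc1, hdec⟩ := decomp hF hiso h2
    obtain ⟨x, hx, ex⟩ := hconj hc1
    set c' := c / (τ * τ ^ q) with hc'
    have hc'0 : c' + c' ^ q = 0 := by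
      have e : c' = (τ * τ ^ q)⁻¹ * c := by rw [hc']; field_simp
      rw [e, mul_pow, inv_pow, mul_pow, pow_q_pow_q hF]
      have : ((τ ^ q * τ)⁻¹ : F) = (τ * τ ^ q)⁻¹ := by rw [mul_comm]
      rw [this]
      linear_combination (τ * τ ^ q)⁻¹ * hc
    have h3 : InT H q b₁ c' := (he1 c' hc'0).conj hH hw
    rw [hdec] at h3
    have h4 := h3.smul hF
    have e4 : τ * τ ^ q * c' = c := by rw [hc']; field_simp
    rw [e4, ← ex] at h4
    have h5 := h4.conj hH (inv_mem hx)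
    rwa [Matrix.mulVec_mulVec, coe_inv_mul, Matrix.one_mulVec] at h5
  by_cases h2 : b 2 = 0
  · have h1 : b 1 = 0 := by
      simp only [hJ, h2, zero_mul, add_zero, zero_pow hq, mul_zero, zero_sub, neg_eq_zero] at hb
      rcases mul_eq_zero.1 hb with h | h
      · exact h
      · exact pow_eq_zero_iff hq |>.1 h
    have e : b = b 0 • ![1, 0, 0] := by
      ext i
      fin_cases i <;> simp [h1, h2]
    rw [e]
    exact InT.of_smul hF (he1 _ (trace_zero_scale hF _ hc))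
  · obtain ⟨a, β, hc1, hdec⟩ := decomp hF hb h2
    obtain ⟨x, hx, ex⟩ := hconj hc1
    rw [hdec, ← ex]
    exact InT.of_smul hF ((he3 _ (trace_zero_scale hF _ hc)).conj hH hx)


/-- Conjugation by an invertible matrix as an endomorphism of `SL₃`. -/
def conjSL {Q P : Matrix (Fin 3) (Fin 3) F} (hQP : Q * P = 1) :
    SpecialLinearGroup (Fin 3) F → SpecialLinearGroup (Fin 3) F := fun A =>
  ⟨Q * (A : Matrix (Fin 3) (Fin 3) F) * P, by
    rw [Matrix.det_mul, Matrix.det_mul, mul_right_comm, ← Matrix.det_mul, hQP, Matrix.det_one,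
      one_mul]
    exact A.2⟩

theorem coe_conjSL {Q P : Matrix (Fin 3) (Fin 3) F} (hQP : Q * P = 1)
    (A : SpecialLinearGroup (Fin 3) F) :
    ((conjSL hQP A : SpecialLinearGroup (Fin 3) F) : Matrix (Fin 3) (Fin 3) F) =
      Q * (A : Matrix (Fin 3) (Fin 3) F) * P := rfl

theorem conjSL_mul {Q P : Matrix (Fin 3) (Fin 3) F} (hQP : Q * P = 1) (hPQ : P * Q = 1)
    (A B : SpecialLinearGroup (Fin 3) F) : conjSL hQP (A * B) = conjSL hQP A * conjSL hQP B := by
  apply Subtype.ext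
  change Q * ((A : Matrix (Fin 3) (Fin 3) F) * (B : Matrix (Fin 3) (Fin 3) F)) * P =
    (Q * (A : Matrix (Fin 3) (Fin 3) F) * P) * (Q * (B : Matrix (Fin 3) (Fin 3) F) * P)
  calc Q * ((A : Matrix (Fin 3) (Fin 3) F) * (B : Matrix (Fin 3) (Fin 3) F)) * P
      = Q * (A : Matrix (Fin 3) (Fin 3) F) * 1 * (B : Matrix (Fin 3) (Fin 3) F) * P := by
        simp only [Matrix.mul_one, Matrix.mul_assoc]
    _ = _ := by rw [← hPQ]; simp only [Matrix.mul_assoc]

theorem conjSL_one {Q P : Matrix (Fin 3) (Fin 3) F} (hQP : Q * P = 1) :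
    conjSL hQP 1 = 1 := by
  apply Subtype.ext
  change Q * (1 : Matrix (Fin 3) (Fin 3) F) * P = 1
  rw [Matrix.mul_one, hQP]

/-- The transport to the standard form. -/
theorem transport (hF : Fintype.card F = q ^ 2) (hq3 : 3 ≤ q) {u g : SpecialLinearGroup (Fin 3) F}
    (hu : u ∈ G0 F q) (hg : g ∈ G0 F q)
    (hreg1 : ((u : Matrix (Fin 3) (Fin 3) F) - 1) ^ 3 = 0)
    (hreg2 : ((u : Matrix (Fin 3) (Fin 3) F) - 1) ^ 2 ≠ 0)
    (hall : ∀ (b : Fin 3 → F) (c : F), hJ q b b = 0 → c + c ^ q = 0 →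
      InT (Subgroup.closure ({u, g * u * g⁻¹} : Set (SpecialLinearGroup (Fin 3) F))) q b c) :
    ∃ u' g' : ↥(Cfsg.SU 3 F q),
      (IsNilpotent (((u' : Matrix.SpecialLinearGroup (Fin 3) F) : Matrix (Fin 3) (Fin 3) F) - 1) ∧
        (((u' : Matrix.SpecialLinearGroup (Fin 3) F) : Matrix (Fin 3) (Fin 3) F) - 1) ^ (3 - 1) ≠ 0) ∧
      Subgroup.closure ({u', g' * u' * g'⁻¹} : Set ↥(Cfsg.SU 3 F q)) = ⊤ := by
  classical
  obtain ⟨Φ, hΦ⟩ := HermOnb.exists_isometry hF 3 (Fin 3 → F) (hJ q) (isHerm_hJ hF) (by simp)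
  set P : Matrix (Fin 3) (Fin 3) F := LinearMap.toMatrix' (Φ : (Fin 3 → F) →ₗ[F] (Fin 3 → F)) with hP
  set Q : Matrix (Fin 3) (Fin 3) F :=
    LinearMap.toMatrix' ((Φ.symm : (Fin 3 → F) ≃ₗ[F] (Fin 3 → F)) : (Fin 3 → F) →ₗ[F] (Fin 3 → F)) with hQ
  have hPv : ∀ x, P *ᵥ x = Φ x := fun x => by rw [hP, LinearMap.toMatrix'_mulVec]; rfl
  have hQv : ∀ x, Q *ᵥ x = Φ.symm x := fun x => by rw [hQ, LinearMap.toMatrix'_mulVec]; rfl
  have hQP : Q * P = 1 := by
    refine Matrix.ext_iff_mulVec.2 fun x => ?_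
    rw [← Matrix.mulVec_mulVec, hPv, hQv, Matrix.one_mulVec, LinearEquiv.symm_apply_apply]
  have hPQ : P * Q = 1 := by
    refine Matrix.ext_iff_mulVec.2 fun x => ?_
    rw [← Matrix.mulVec_mulVec, hQv, hPv, Matrix.one_mulVec, LinearEquiv.apply_symm_apply]
  have hmemSU : ∀ A ∈ G0 F q, conjSL hQP A ∈ Cfsg.SU 3 F q := by
    intro A hA x y
    have e : ∀ z, P *ᵥ (((conjSL hQP A : SpecialLinearGroup (Fin 3) F) : Matrix (Fin 3) (Fin 3) F) *ᵥ z) =
        (A : Matrix (Fin 3) (Fin 3) F) *ᵥ (P *ᵥ z) := by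
      intro z
      rw [coe_conjSL, Matrix.mulVec_mulVec, ← Matrix.mul_assoc, ← Matrix.mul_assoc, hPQ,
        Matrix.one_mul, Matrix.mulVec_mulVec]
    change hermForm 3 F q _ _ = hermForm 3 F q x y
    rw [← hΦ, ← hΦ, ← hPv, ← hPv, ← hPv, ← hPv]
    change hJ q (P *ᵥ (((conjSL hQP A : SpecialLinearGroup (Fin 3) F) : Matrix (Fin 3) (Fin 3) F) *ᵥ x))
      (P *ᵥ (((conjSL hQP A : SpecialLinearGroup (Fin 3) F) : Matrix (Fin 3) (Fin 3) F) *ᵥ y)) = _
    rw [e, e, mem_G0.1 hA]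
  let u' : ↥(Cfsg.SU 3 F q) := ⟨conjSL hQP u, hmemSU u hu⟩
  let g' : ↥(Cfsg.SU 3 F q) := ⟨conjSL hQP g, hmemSU g hg⟩
  have hsub : (Q * (u : Matrix (Fin 3) (Fin 3) F) * P - 1) =
      Q * ((u : Matrix (Fin 3) (Fin 3) F) - 1) * P := by
    rw [Matrix.mul_sub, Matrix.sub_mul, Matrix.mul_one, hQP]
  have hpow : ∀ k : ℕ, (Q * ((u : Matrix (Fin 3) (Fin 3) F) - 1) * P) ^ (k + 1) =
      Q * ((u : Matrix (Fin 3) (Fin 3) F) - 1) ^ (k + 1) * P := by
    intro k
    induction k with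
    | zero => simp
    | succ k ih =>
      rw [pow_succ, ih, pow_succ ((u : Matrix (Fin 3) (Fin 3) F) - 1) (k + 1)]
      calc Q * ((u : Matrix (Fin 3) (Fin 3) F) - 1) ^ (k + 1) * P *
            (Q * ((u : Matrix (Fin 3) (Fin 3) F) - 1) * P)
          = Q * ((u : Matrix (Fin 3) (Fin 3) F) - 1) ^ (k + 1) * (P * Q) *
              ((u : Matrix (Fin 3) (Fin 3) F) - 1) * P := by simp only [Matrix.mul_assoc]
        _ = _ := by rw [hPQ, Matrix.mul_one]; simp only [Matrix.mul_assoc]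
  let ψ : SpecialLinearGroup (Fin 3) F →* SpecialLinearGroup (Fin 3) F :=
    { toFun := conjSL hQP
      map_one' := conjSL_one hQP
      map_mul' := conjSL_mul hQP hPQ }
  have hψ : ∀ A, ψ A = conjSL hQP A := fun _ => rfl
  refine ⟨u', g', ⟨?_, ?_⟩, ?_⟩
  · refine ⟨3, ?_⟩
    change (Q * (u : Matrix (Fin 3) (Fin 3) F) * P - 1) ^ 3 = 0
    rw [hsub, hpow 2, hreg1, Matrix.mul_zero, Matrix.zero_mul]
  · change (Q * (u : Matrix (Fin 3) (Fin 3) F) * P - 1) ^ 2 ≠ 0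
    rw [hsub, hpow 1]
    intro h0
    apply hreg2
    calc ((u : Matrix (Fin 3) (Fin 3) F) - 1) ^ 2
        = (P * Q) * ((u : Matrix (Fin 3) (Fin 3) F) - 1) ^ 2 * (P * Q) := by
          rw [hPQ, Matrix.one_mul, Matrix.mul_one]
      _ = P * (Q * ((u : Matrix (Fin 3) (Fin 3) F) - 1) ^ 2 * P) * Q := by
          simp only [Matrix.mul_assoc]
      _ = 0 := by rw [h0, Matrix.mul_zero, Matrix.zero_mul]
  · set K := Subgroup.closure ({u', g' * u' * g'⁻¹} : Set ↥(Cfsg.SU 3 F q)) with hK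
    have key : ∀ x ∈ Subgroup.closure ({u, g * u * g⁻¹} : Set (SpecialLinearGroup (Fin 3) F)),
        ∃ k ∈ K, ((k : ↥(Cfsg.SU 3 F q)) : SpecialLinearGroup (Fin 3) F) = ψ x := by
      intro x hx
      induction hx using Subgroup.closure_induction with
      | mem x hx =>
        rcases hx with rfl | hx
        · exact ⟨u', Subgroup.subset_closure (by simp), rfl⟩
        · rw [Set.mem_singleton_iff] at hx
          subst hx
          refine ⟨g' * u' * g'⁻¹, Subgroup.subset_closure (by simp), ?_⟩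
          rw [map_mul, map_mul, map_inv]
          rfl
      | one => exact ⟨1, K.one_mem, by rw [map_one]; rfl⟩
      | mul x y _ _ h h' =>
        obtain ⟨k, hk, e⟩ := h
        obtain ⟨k', hk', e'⟩ := h'
        exact ⟨k * k', K.mul_mem hk hk', by rw [map_mul, ← e, ← e']; rfl⟩
      | inv x _ h =>
        obtain ⟨k, hk, e⟩ := h
        exact ⟨k⁻¹, K.inv_mem hk, by rw [map_inv, ← e]; rfl⟩
    rw [eq_top_iff, ← Gen.T_eq_top hF (n := 3) le_rfl (by omega)]
    refine (Subgroup.closure_le _).2 ?_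
    rintro A ⟨v, c, hv, hA⟩
    by_cases hv0 : v = 0
    · have : A = 1 := by
        apply Subtype.ext
        apply Subtype.ext
        rw [Tv.mat] at hA
        rw [hA, hv0]
        ext i j
        simp [unitaryTransvection]
      rw [this]
      exact K.one_mem
    · have hc : c + c ^ q = 0 := Comm.trace_zero_of_preserves hF hv hv0 (by
        rw [← hA]
        exact SU.preserves_su A)
      have hb : hJ q (Φ v) (Φ v) = 0 := by rw [hΦ]; exact hv
      obtain ⟨t, ht, et⟩ := hall (Φ v) c hb hc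
      obtain ⟨k, hk, ek⟩ := key t ht
      have : k = A := by
        apply Subtype.ext
        apply Subtype.ext
        rw [ek, hψ, coe_conjSL, et]
        rw [Tv.mat] at hA
        rw [hA]
        refine Matrix.ext_iff_mulVec.2 fun x => ?_
        rw [← Matrix.mulVec_mulVec, ← Matrix.mulVec_mulVec, Tm_mulVec, Tv.unitaryTransvection_mulVec,
          Matrix.mulVec_add, Matrix.mulVec_smul, hPv, hΦ, ← hPv, Matrix.mulVec_mulVec, hQP,
          Matrix.one_mulVec, hQv, LinearEquiv.symm_apply_apply]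
      rw [← this]
      exact hk


/-- The criterion. -/
theorem main_instance (hF : Fintype.card F = q ^ 2) (hq3 : 3 ≤ q)
    {u g W w : SpecialLinearGroup (Fin 3) F} {a β : F}
    (hu : (u : Matrix (Fin 3) (Fin 3) F) = xM q a β) (ha : a ≠ 0) (huG : u ∈ G0 F q) (hgG : g ∈ G0 F q)
    (hW : W ∈ Subgroup.closure ({u, g * u * g⁻¹} : Set (SpecialLinearGroup (Fin 3) F)))
    (h10 : (W : Matrix (Fin 3) (Fin 3) F) 1 0 = 0)
    (h20 : (W : Matrix (Fin 3) (Fin 3) F) 2 0 = 0) (h21 : (W : Matrix (Fin 3) (Fin 3) F) 2 1 = 0)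
    (hρ : Subring.closure ({(W : Matrix (Fin 3) (Fin 3) F) 0 0 / (W : Matrix (Fin 3) (Fin 3) F) 1 1} :
      Set F) = ⊤)
    (hw : w ∈ Subgroup.closure ({u, g * u * g⁻¹} : Set (SpecialLinearGroup (Fin 3) F)))
    (hw0 : (w : Matrix (Fin 3) (Fin 3) F) 2 0 ≠ 0) :
    ∃ u' g' : ↥(Cfsg.SU 3 F q),
      (IsNilpotent (((u' : Matrix.SpecialLinearGroup (Fin 3) F) : Matrix (Fin 3) (Fin 3) F) - 1) ∧
        (((u' : Matrix.SpecialLinearGroup (Fin 3) F) : Matrix (Fin 3) (Fin 3) F) - 1) ^ (3 - 1) ≠ 0) ∧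
      Subgroup.closure ({u', g' * u' * g'⁻¹} : Set ↥(Cfsg.SU 3 F q)) = ⊤ := by
  set H := Subgroup.closure ({u, g * u * g⁻¹} : Set (SpecialLinearGroup (Fin 3) F)) with hH
  have hHG : H ≤ G0 F q := by
    refine (Subgroup.closure_le _).2 ?_
    rintro x (rfl | hx)
    · exact huG
    · rw [Set.mem_singleton_iff] at hx
      subst hx
      exact mul_mem (mul_mem hgG huG) (inv_mem hgG)
  have huH : u ∈ H := Subgroup.subset_closure (by simp)
  have hUp : Up H q a β := ⟨u, huH, hu⟩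
  obtain ⟨θ, hθ⟩ := Tv.exists_trace_eq hF (c := 1) (one_pow q)
  have hall := all_level hF hHG hW h10 h20 h21 hρ ha hUp
  refine transport hF hq3 huG hgG ?_ ?_ ?_
  · rw [hu]
    ext i j
    fin_cases i <;> fin_cases j <;>
      simp [xM, pow_succ, Matrix.mul_apply, Fin.sum_univ_three, Matrix.one_apply]
  · rw [hu]
    intro h0
    have h1 := congrFun (congrFun h0 0) 2
    simp [xM, pow_succ, Matrix.mul_apply, Fin.sum_univ_three, Matrix.one_apply] at h1
    rcases h1 with h1 | h1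
    · exact ha h1
    · exact ha h1.1
  · intro b c hb hc
    exact all_T hF hHG hθ hall hw hw0 hb hc

end Cfsg.Agent.Lib.Classical.Herm.SU3Gen
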