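import Mathlib
import Cfsg.Agent.Lib.Classical.Herm.Unip

/-!
# Sylow `p`-subgroups of `SU₃(q)`: the trivial intersection property
-/

set_option autoImplicit false
set_option linter.unusedSectionVars false
set_option linter.unusedSimpArgs false
set_option linter.unusedVariables false
set_option linter.style.haveILetI false

open scoped Matrix
open Cfsg
open Cfsg.Agent.Lib.Classical.Herm.Basic Cfsg.Agent.Lib.Classical.Herm.Form
open Cfsg.Agent.Lib.Classical.Herm.GU Cfsg.Agent.Lib.Classical.Herm.SU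
open Cfsg.Agent.Lib.Classical.Herm.Tv Cfsg.Agent.Lib.Classical.Herm.Comm
open Cfsg.Agent.Lib.Classical.Herm.Unip
open Module

namespace Cfsg.Agent.Lib.Classical.Herm.SU3Sylow

variable {F : Type*} [Field F] [Fintype F] {q : ℕ}

local notation "⟪" x ", " y "⟫" => hermForm _ _ q x y

variable (q) in
/-- A triple is a hyperbolic pair together with a unit vector orthogonal to it. -/
structure IsTriple (e f w : Fin 3 → F) : Prop where
  he : ⟪e, e⟫ = 0
  hf : ⟪f, f⟫ = 0
  hef : ⟪e, f⟫ = 1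
  hwe : ⟪w, e⟫ = 0
  hwf : ⟪w, f⟫ = 0
  hww : ⟪w, w⟫ = 1

section Triple

variable (hF : Fintype.card F = q ^ 2) {e f w : Fin 3 → F} (ht : IsTriple q e f w)
include hF ht

theorem IsTriple.hfe : ⟪f, e⟫ = 1 := hermForm_symm_one hF ht.hef
theorem IsTriple.hew : ⟪e, w⟫ = 0 := hermForm_symm_zero hF ht.hwe
theorem IsTriple.hfw : ⟪f, w⟫ = 0 := hermForm_symm_zero hF ht.hwf

/-- Three coordinates determine a vector. -/
theorem IsTriple.eq_zero {z : Fin 3 → F} (h1 : ⟪z, e⟫ = 0) (h2 : ⟪z, f⟫ = 0) (h3 : ⟪z, w⟫ = 0) : z = 0 := by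
  have hfe := ht.hfe hF
  have hew := ht.hew hF
  have hfw := ht.hfw hF
  let T : (Fin 3 → F) →ₗ[F] (Fin 3 → F) :=
    { toFun := fun v => ![⟪v, e⟫, ⟪v, f⟫, ⟪v, w⟫]
      map_add' := fun a b => by
        funext i
        fin_cases i <;> simp [hermForm_add_left]
      map_smul' := fun c a => by
        funext i
        fin_cases i <;> simp [hermForm_smul_left] }
  have hT : ∀ v, T v = ![⟪v, e⟫, ⟪v, f⟫, ⟪v, w⟫] := fun v => rfl
  have hsurj : Function.Surjective T := by
    intro x
    refine ⟨x 0 • f + x 1 • e + x 2 • w, ?_⟩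
    rw [hT]
    funext i
    fin_cases i <;>
      simp [hermForm_add_left, hermForm_smul_left, hfe, ht.he, ht.hwe, ht.hf, ht.hef, ht.hwf, hew, hfw, ht.hww]
  have hinj : Function.Injective T :=
    (LinearMap.injective_iff_surjective_of_finrank_eq_finrank rfl).2 hsurj
  apply hinj
  rw [map_zero, hT, h1, h2, h3]
  funext i
  fin_cases i <;> rfl

/-- The coordinates of a vector with respect to a triple. -/
theorem IsTriple.decomp (z : Fin 3 → F) : z = ⟪z, f⟫ • e + ⟪z, e⟫ • f + ⟪z, w⟫ • w := by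
  have hfe := ht.hfe hF
  have hew := ht.hew hF
  have hfw := ht.hfw hF
  rw [← sub_eq_zero]
  apply ht.eq_zero hF
  · simp [hermForm_sub_left, hermForm_add_left, hermForm_smul_left, ht.he, hfe, ht.hwe]
  · simp [hermForm_sub_left, hermForm_add_left, hermForm_smul_left, ht.hef, ht.hf, ht.hwf]
  · simp [hermForm_sub_left, hermForm_add_left, hermForm_smul_left, hew, hfw, ht.hww]

/-- An isotropic vector orthogonal to `e` is a multiple of `e`. -/
theorem IsTriple.eq_smul_of_perp {v : Fin 3 → F} (hv : ⟪v, v⟫ = 0) (hve : ⟪v, e⟫ = 0) : v = ⟪v, f⟫ • e := by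
  have hfe := ht.hfe hF
  have hew := ht.hew hF
  have hfw := ht.hfw hF
  have h1 := ht.decomp hF v
  rw [hve, zero_smul, add_zero] at h1
  have h2 : ⟪v, w⟫ = 0 := by
    have h3 : ⟪v, v⟫ = ⟪v, w⟫ ^ (q + 1) := by
      conv_lhs => rw [h1]
      simp only [hermForm_add_left, hermForm_add_right hF, hermForm_smul_left, hermForm_smul_right, ht.he, hew,
        ht.hwe, ht.hww]
      rw [pow_succ]
      ring
    rw [hv] at h3
    exact pow_eq_zero_iff (by omega) |>.mp h3.symm
  rw [h2, zero_smul, add_zero] at h1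
  exact h1

end Triple

/-- A hyperbolic pair extends to a triple. -/
theorem exists_triple_of_pair (hF : Fintype.card F = q ^ 2) {e f : Fin 3 → F} (he : ⟪e, e⟫ = 0) (hf : ⟪f, f⟫ = 0)
    (hef : ⟪e, f⟫ = 1) : ∃ w : Fin 3 → F, IsTriple q e f w := by
  obtain ⟨w, hw, hww⟩ := exists_perp_norm hF (k := 2) (by norm_num) ![e, f]
    (proj_two hF he hf (by rw [hef]; exact one_ne_zero)) (c := 1) (one_pow q)
  exact ⟨w, he, hf, hef, hw 0, hw 1, hww⟩

/-- Any nonzero isotropic vector extends to a triple. -/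
theorem exists_triple (hF : Fintype.card F = q ^ 2) {e : Fin 3 → F} (he : ⟪e, e⟫ = 0) (he0 : e ≠ 0) :
    ∃ f w : Fin 3 → F, IsTriple q e f w := by
  obtain ⟨f, hf, hef⟩ := exists_partner hF he he0
  obtain ⟨w, hw⟩ := exists_triple_of_pair hF he hf hef
  exact ⟨f, w, hw⟩

section PElement

variable {p : ℕ} [hp : Fact p.Prime] [CharP F p]

theorem eq_one_of_pow {lam : F} {k : ℕ} (h : lam ^ p ^ k = 1) : lam = 1 := by
  have h1 : (lam - 1) ^ p ^ k = 0 := by
    rw [sub_pow_char_pow, h, one_pow, sub_self]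
  exact sub_eq_zero.mp (pow_eq_zero_iff (pow_ne_zero _ hp.out.ne_zero) |>.mp h1)

/-- A `p`-element of `SU₃` fixing an isotropic vector lies in `R_e`. -/
theorem mem_Re_of_pow (hF : Fintype.card F = q ^ 2) {e : Fin 3 → F} (he : ⟪e, e⟫ = 0) (he0 : e ≠ 0)
    {x : SU 3 F q} (hxe : act x e = e) {k : ℕ} (hx : x ^ p ^ k = 1) : x ∈ Re q e := by
  obtain ⟨f, w, ht⟩ := exists_triple hF he he0
  have hfe := ht.hfe hF
  have hew := ht.hew hF
  have hfw := ht.hfw hF
  have hxw_e : ⟪act x w, e⟫ = 0 := by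
    conv_lhs => rw [← hxe]
    rw [h_act, ht.hwe]
  set lam := ⟪act x w, w⟫ with hlam
  set a := ⟪act x w, f⟫ with ha
  have hxw : act x w = a • e + lam • w := by
    have := ht.decomp hF (act x w)
    rw [hxw_e, zero_smul, add_zero] at this
    exact this
  have hem : ∀ m : ℕ, act (x ^ m) e = e := by
    intro m
    induction m with
    | zero => simp
    | succ m ih => rw [pow_succ, act_mul, hxe, ih]
  have hit : ∀ m : ℕ, ∃ c : F, act (x ^ m) w = c • e + lam ^ m • w := by
    intro m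
    induction m with
    | zero => exact ⟨0, by simp⟩
    | succ m ih =>
      obtain ⟨c, hc⟩ := ih
      refine ⟨a + lam * c, ?_⟩
      rw [pow_succ, act_mul, hxw, act_add, act_smul, act_smul, hem, hc, pow_succ]
      funext i
      simp only [Pi.add_apply, Pi.smul_apply, smul_eq_mul]
      ring
  have hlam1 : lam = 1 := by
    obtain ⟨c, hc⟩ := hit (p ^ k)
    rw [hx, act_one] at hc
    have h1 := congrArg (fun v => ⟪v, w⟫) hc
    simp only [hermForm_add_left, hermForm_smul_left, hew, ht.hww, mul_zero, mul_one, zero_add] at h1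
    exact eq_one_of_pow (p := p) h1.symm
  rw [hlam1, one_smul] at hxw
  refine ⟨hxe, fun z hz => ⟨⟪z, w⟫ * a, ?_⟩⟩
  have hz1 := ht.decomp hF z
  rw [hz, zero_smul, add_zero] at hz1
  conv_lhs => rw [hz1]
  rw [act_add, act_smul, act_smul, hxe, hxw]
  conv_rhs => rw [hz1]
  funext i
  simp only [hermForm_add_left, hermForm_smul_left, Pi.add_apply, Pi.smul_apply, smul_eq_mul, hew, ht.hww]
  ring

/-- The Sylow `p`-subgroup of `SU₃` fixing `e` is `R_e`. -/
theorem sylow_eq_Re (hF : Fintype.card F = q ^ 2) {e : Fin 3 → F} (he : ⟪e, e⟫ = 0) (he0 : e ≠ 0)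
    (U : Sylow p (SU 3 F q)) (hU : ∀ g ∈ U, act g e = e) : (U : Subgroup (SU 3 F q)) = Re q e := by
  apply le_antisymm
  · intro g hg
    obtain ⟨k, hk⟩ := U.isPGroup' ⟨g, hg⟩
    have hk' : g ^ p ^ k = 1 := congrArg Subtype.val hk
    exact mem_Re_of_pow hF he he0 (hU g hg) hk'
  · exact Re_le_sylow p U hU

/-- The Sylow `p`-subgroups of `SU₃(q)` have trivial pairwise intersections. -/
theorem sylow_TI (hpq : p ∣ q) (hF : Fintype.card F = q ^ 2) (U V : Sylow p (SU 3 F q)) (x : SU 3 F q) (hxU : x ∈ U)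
    (hxV : x ∈ V) (hx : x ≠ 1) : U = V := by
  obtain ⟨e, he0, he, hUe⟩ := exists_fixed_iso p hpq hF (by norm_num) (U : Subgroup (SU 3 F q)) U.isPGroup'
  obtain ⟨e', he'0, he', hVe⟩ := exists_fixed_iso p hpq hF (by norm_num) (V : Subgroup (SU 3 F q)) V.isPGroup'
  have hUeq := sylow_eq_Re hF he he0 U hUe
  by_cases hee : ⟪e', e⟫ = 0
  · obtain ⟨f, w, ht⟩ := exists_triple hF he he0
    have h1 := ht.eq_smul_of_perp hF he' hee
    have ha : ⟪e', f⟫ ≠ 0 := by
      intro h0
      rw [h0, zero_smul] at h1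
      exact he'0 h1
    have hVe2 : ∀ g ∈ V, act g e = e := by
      intro g hg
      have h2 := hVe g hg
      rw [h1, act_smul] at h2
      exact smul_right_injective _ ha h2
    apply Sylow.ext
    rw [hUeq, sylow_eq_Re hF he he0 V hVe2]
  · exfalso
    apply hx
    have hxe := hUe x hxU
    have hxe' := hVe x hxV
    -- a hyperbolic partner fixed by `x`
    obtain ⟨t, ht0, htf⟩ : ∃ t : F, t ≠ 0 ∧ ⟪e, t • e'⟫ = 1 := by
      have hee' : ⟪e, e'⟫ ≠ 0 := by
        intro h0
        apply hee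
        exact hermForm_symm_zero hF h0
      refine ⟨(⟪e, e'⟫⁻¹) ^ q, pow_ne_zero _ (inv_ne_zero hee'), ?_⟩
      rw [hermForm_smul_right, pow_q_pow_q hF]
      field_simp
    obtain ⟨f, hf⟩ : ∃ f, f = t • e' := ⟨_, rfl⟩
    rw [← hf] at htf
    have hff : ⟪f, f⟫ = 0 := by
      rw [hf, hermForm_smul_left, hermForm_smul_right, he']
      simp
    have hxf : act x f = f := by
      rw [hf, act_smul, hxe']
    obtain ⟨w, ht'⟩ := exists_triple_of_pair hF he hff htf
    have hfe := ht'.hfe hF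
    have hew := ht'.hew hF
    have hfw := ht'.hfw hF
    have hxR : x ∈ Re q e := by
      rw [← hUeq]
      exact hxU
    obtain ⟨c, hc⟩ := hxR.2 w ht'.hwe
    have hc0 : c = 0 := by
      have h1 : ⟪act x w, act x f⟫ = ⟪w, f⟫ := h_act x w f
      rw [hxf, hc, hermForm_add_left, hermForm_smul_left, htf, ht'.hwf] at h1
      simpa using h1
    rw [hc0, zero_smul, add_zero] at hc
    apply ext_act
    intro z
    rw [act_one]
    conv_lhs => rw [ht'.decomp hF z]
    rw [act_add, act_add, act_smul, act_smul, act_smul, hxe, hxf, hc]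
    exact (ht'.decomp hF z).symm

end PElement

end Cfsg.Agent.Lib.Classical.Herm.SU3Sylow
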