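import Mathlib
import Cfsg.Agent.Lib.Classical.Herm.SU3Sylow
import Cfsg.Agent.Lib.Classical.Herm.TI2
import Cfsg.Agent.S0284
import Cfsg.Agent.S0754

/-!
# Involutions of `SU₃(q)`, `q` odd

Every involution is a reflection `x ↦ -x + 2 h(x, v) v` in a unit vector `v`.
-/

set_option autoImplicit false
set_option linter.unusedSectionVars false
set_option linter.unusedSimpArgs false
set_option linter.unusedVariables false
set_option linter.style.haveILetI false

open scoped Matrix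
open Cfsg
open Cfsg.Agent.Lib.Classical.Herm.Basic Cfsg.Agent.Lib.Classical.Herm.Form
open Cfsg.Agent.Lib.Classical.Herm.GU Cfsg.Agent.Lib.Classical.Herm.SU
open Cfsg.Agent.Lib.Classical.Herm.Tv
open Cfsg.Agent.Lib.Classical.Herm.Subfield Cfsg.Agent.Lib.Classical.Herm.Isotropic

namespace Cfsg.Agent.Lib.Classical.Herm.SU3Invol

variable {F : Type*} [Field F] [Fintype F] {q : ℕ}

local notation "⟪" x ", " y "⟫" => hermForm _ _ q x y

variable (q) in
/-- `t` is the reflection in the unit vector `v`. -/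
def IsRefl (t : SU 3 F q) (v : Fin 3 → F) : Prop :=
  ⟪v, v⟫ = 1 ∧ ∀ x, act t x = -x + (2 * ⟪x, v⟫) • v

variable (q) in
/-- Full frames in dimension three. -/
structure IsOnb (a b c : Fin 3 → F) : Prop where
  ha : ⟪a, a⟫ = 1
  hb : ⟪b, b⟫ = 1
  hc : ⟪c, c⟫ = 1
  hab : ⟪a, b⟫ = 0
  hac : ⟪a, c⟫ = 0
  hbc : ⟪b, c⟫ = 0

/-- The matrix with given columns. -/
def colMat (a b c : Fin 3 → F) : Matrix (Fin 3) (Fin 3) F := Matrix.of fun i j => (![a, b, c] : Fin 3 → Fin 3 → F) j i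

variable (hF : Fintype.card F = q ^ 2)
include hF

theorem exists_isRefl {v : Fin 3 → F} (hv : ⟪v, v⟫ = 1) : ∃ t : SU 3 F q, IsRefl q t v := by
  have hact : ∀ x, (-(unitaryTransvection 3 q v (-2))) *ᵥ x = -x + (2 * ⟪x, v⟫) • v := by
    intro x
    rw [Matrix.neg_mulVec, unitaryTransvection_mulVec]
    simp only [neg_add, neg_smul, neg_mul, neg_neg]
  have hdet : (-(unitaryTransvection 3 q v (-2))).det = 1 := by
    rw [Matrix.det_neg]
    have h1 : (unitaryTransvection 3 q v (-2)).det = 1 + (-2) * ⟪v, v⟫ := by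
      unfold unitaryTransvection
      have h2 : (-2 : F) • Matrix.vecMulVec v (fun j => v j ^ q) =
          Matrix.replicateCol Unit ((-2 : F) • v) * Matrix.replicateRow Unit (fun j => v j ^ q) := by
        rw [← Matrix.vecMulVec_eq Unit]
        ext i j
        simp [Matrix.vecMulVec_apply, mul_assoc]
      rw [h2, Matrix.det_one_add_replicateCol_mul_replicateRow]
      congr 1
      simp only [dotProduct, hermForm_apply, Finset.mul_sum, Pi.smul_apply, smul_eq_mul]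
      refine Finset.sum_congr rfl fun j _ => ?_
      ring
    rw [h1, hv]
    simp
    norm_num
  have hpres : Preserves q (-(unitaryTransvection 3 q v (-2))) := by
    intro x y
    rw [hact, hact]
    have hvy : ⟪v, y⟫ = ⟪y, v⟫ ^ q := (hermForm_pow_q hF 3 y v).symm
    have e1 : ∀ u : Fin 3 → F, -u = (-1 : F) • u := fun u => by simp
    rw [e1 x, e1 y]
    simp only [hermForm_add_left, hermForm_add_right hF, hermForm_smul_left, hermForm_smul_right, hv, hvy,
      mul_pow, pow_q_neg hF, one_pow]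
    have e2 : (2 : F) ^ q = 2 := by
      have : (2 : F) = 1 + 1 := by norm_num
      rw [this, pow_q_add hF, one_pow]
    rw [e2]
    ring
  exact ⟨mkSU _ hdet hpres, hv, hact⟩

theorem IsRefl.act_self {t : SU 3 F q} {v : Fin 3 → F} (ht : IsRefl q t v) : act t v = v := by
  have h2 : (2 : F) = 1 + 1 := by norm_num
  rw [ht.2, ht.1, mul_one, h2, add_smul, one_smul]
  simp

theorem IsRefl.act_perp {t : SU 3 F q} {v x : Fin 3 → F} (ht : IsRefl q t v) (hx : ⟪x, v⟫ = 0) :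
    act t x = -x := by
  rw [ht.2, hx]
  simp

theorem IsRefl.mul_self {t : SU 3 F q} {v : Fin 3 → F} (ht : IsRefl q t v) : t * t = 1 := by
  apply ext_act
  intro x
  rw [act_mul, act_one, ht.2 x, act_add, act_neg, act_smul, ht.act_self hF, ht.2 x]
  simp

theorem IsRefl.self_adj {t : SU 3 F q} (htt : t * t = 1) (x y : Fin 3 → F) :
    ⟪act t x, y⟫ = ⟪x, act t y⟫ := by
  have h1 : act t (act t y) = y := by
    rw [← act_mul, htt, act_one]
  conv_lhs => rw [← h1]
  exact h_act t x (act t y)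

/-- Polarisation for self-adjoint maps. -/
theorem eq_zero_of_form_self {S : (Fin 3 → F) → (Fin 3 → F)} (hadd : ∀ x y, S (x + y) = S x + S y)
    (hsmul : ∀ (c : F) x, S (c • x) = c • S x) (hadj : ∀ x y, ⟪S x, y⟫ = ⟪x, S y⟫)
    (h0 : ∀ y, ⟪S y, y⟫ = 0) (x : Fin 3 → F) : S x = 0 := by
  apply hermForm_nondegenerate_left hF 3
  intro y
  by_contra ha
  set a := ⟪S x, y⟫ with hadef
  have h1 : ∀ l : F, l ^ q * a + (l ^ q * a) ^ q = 0 := by
    intro l
    have h2 := h0 (x + l • y)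
    rw [hadd, hsmul, hermForm_add_left, hermForm_add_right hF, hermForm_add_right hF, hermForm_smul_left,
      hermForm_smul_left, hermForm_smul_right, hermForm_smul_right, h0 x, h0 y, ← hadef] at h2
    have h3 : ⟪S y, x⟫ = a ^ q := by
      rw [hadj, hadef, ← hermForm_pow_q hF]
    rw [h3] at h2
    rw [mul_pow, pow_q_pow_q hF]
    linear_combination h2
  obtain ⟨c, hc⟩ := exists_trace_ne_zero hF
  apply hc
  have h2 := h1 ((c / a) ^ q)
  rw [pow_q_pow_q hF, div_mul_cancel₀ _ ha] at h2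
  exact h2

/-- A unit eigenvector with eigenvalue `ε`. -/
theorem exists_unit_eigen (h2 : (2 : F) ≠ 0) {t : SU 3 F q} (htt : t * t = 1) {ε : F} (hε : ε ^ 2 = 1)
    (hεq : ε ^ q = ε) (hS : ∃ x, x + ε • act t x ≠ 0) : ∃ v, ⟪v, v⟫ = 1 ∧ act t v = ε • v := by
  have hself := IsRefl.self_adj hF htt
  let S : (Fin 3 → F) → (Fin 3 → F) := fun x => x + ε • act t x
  have hSdef : ∀ x, S x = x + ε • act t x := fun x => rfl
  have htS : ∀ x, act t (S x) = ε • S x := by
    intro x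
    rw [hSdef, act_add, act_smul, ← act_mul, htt, act_one, smul_add, smul_smul, ← pow_two, hε, one_smul,
      add_comm]
  have hadj : ∀ x y, ⟪S x, y⟫ = ⟪x, S y⟫ := by
    intro x y
    rw [hSdef, hSdef, hermForm_add_left, hermForm_add_right hF, hermForm_smul_left, hermForm_smul_right,
      hself, hεq]
  obtain ⟨y, hy⟩ : ∃ y, ⟪S y, y⟫ ≠ 0 := by
    by_contra hcon
    push Not at hcon
    obtain ⟨x, hx⟩ := hS
    exact hx (eq_zero_of_form_self hF (S := S) (fun a b => by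
      simp only [hSdef, act_add, smul_add]
      abel) (fun c a => by
      simp only [hSdef, act_smul, smul_add, smul_comm c ε]) hadj hcon x)
  have hSS : ⟪S y, S y⟫ = 2 * ⟪S y, y⟫ := by
    have h3 : S (S y) = (2 : F) • S y := by
      conv_lhs => rw [hSdef (S y)]
      rw [htS, smul_smul, ← pow_two, hε, one_smul, two_smul]
    rw [← hadj, h3, hermForm_smul_left]
  have hne : ⟪S y, S y⟫ ≠ 0 := by
    rw [hSS]
    exact mul_ne_zero h2 hy
  obtain ⟨a, ha⟩ := exists_norm_eq hF (⟪S y, S y⟫)⁻¹ (inv_ne_zero hne)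
    (by rw [inv_pow, hermForm_self_pow_q hF])
  refine ⟨a • S y, ?_, ?_⟩
  · rw [hermForm_smul_left, hermForm_smul_right, ← mul_assoc, ← pow_succ', ha, inv_mul_cancel₀ hne]
  · rw [act_smul, htS, smul_comm]

theorem IsOnb.frame {a b c : Fin 3 → F} (h : IsOnb q a b c) : IsFrame q ![a, b, c] := by
  have hba := hermForm_symm_zero hF h.hab
  have hca := hermForm_symm_zero hF h.hac
  have hcb := hermForm_symm_zero hF h.hbc
  intro i j
  fin_cases i <;> fin_cases j <;> simp [h.ha, h.hb, h.hc, h.hab, h.hac, h.hbc, hba, hca, hcb]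

theorem IsOnb.decomp {a b c : Fin 3 → F} (h : IsOnb q a b c) (x : Fin 3 → F) :
    x = ⟪x, a⟫ • a + ⟪x, b⟫ • b + ⟪x, c⟫ • c := by
  have h1 := eq_sum_of_frame ![a, b, c] (h.frame hF) (by simp) x
  rw [Fin.sum_univ_three] at h1
  simpa using h1

theorem exists_third {a b : Fin 3 → F} (ha : ⟪a, a⟫ = 1) (hb : ⟪b, b⟫ = 1) (hab : ⟪a, b⟫ = 0) :
    ∃ c, IsOnb q a b c := by
  have hba := hermForm_symm_zero hF hab
  have hf : IsFrame q ![a, b] := by
    intro i j
    fin_cases i <;> fin_cases j <;> simp [ha, hb, hab, hba]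
  obtain ⟨e, he, hee⟩ := exists_step hF ![a, b] hf (by simp)
  have h1 : ⟪e, a⟫ = 0 := he 0
  have h2 : ⟪e, b⟫ = 0 := he 1
  exact ⟨e, ha, hb, hee, hab, hermForm_symm_zero hF h1, hermForm_symm_zero hF h2⟩

theorem exists_second {a : Fin 3 → F} (ha : ⟪a, a⟫ = 1) : ∃ b, ⟪b, b⟫ = 1 ∧ ⟪a, b⟫ = 0 := by
  have hf : IsFrame q ![a] := by
    intro i j
    fin_cases i <;> fin_cases j <;> simp [ha]
  obtain ⟨e, he, hee⟩ := exists_step hF ![a] hf (by simp)
  exact ⟨e, hee, hermForm_symm_zero hF (he 0)⟩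

omit hF in
theorem mulVec_colMat_single (a b c : Fin 3 → F) :
    colMat a b c *ᵥ (Pi.single 0 1) = a := by
  rw [mulVec_single_col]
  rfl

theorem IsOnb.preserves {a b c : Fin 3 → F} (h : IsOnb q a b c) : Preserves q (colMat a b c) := by
  rw [preserves_iff_frame hF]
  exact h.frame hF

omit hF in
/-- Elements with prescribed columns. -/
theorem mul_colMat (t : SU 3 F q) (a b c : Fin 3 → F) :
    mat t * colMat a b c = colMat (act t a) (act t b) (act t c) := by
  ext i j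
  rw [Matrix.mul_apply]
  fin_cases j <;> rfl

omit hF in
theorem colMat_mul_diagonal (a b c : Fin 3 → F) (x y z : F) :
    colMat a b c * Matrix.diagonal ![x, y, z] = colMat (x • a) (y • b) (z • c) := by
  ext i j
  rw [Matrix.mul_diagonal]
  fin_cases j <;> simp [colMat, mul_comm]

/-- Every involution of `SU₃(q)` is a reflection. -/
theorem exists_isRefl_of_invol (h2 : (2 : F) ≠ 0) {t : SU 3 F q} (ht : t ≠ 1) (htt : t * t = 1) :
    ∃ v, IsRefl q t v := by
  have hself := IsRefl.self_adj hF htt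
  have hneg1 : (-1 : F) ^ q = -1 := by
    have hq := two_le_q hF
    rw [pow_q_neg hF, one_pow]
  have hp : ∃ x, x + (1 : F) • act t x ≠ 0 := by
    by_contra hcon
    push Not at hcon
    have h3 : mat t = -1 := by
      apply Matrix.mulVec_injective
      funext x
      have h4 := hcon x
      rw [one_smul] at h4
      rw [Matrix.neg_mulVec, Matrix.one_mulVec]
      exact eq_neg_of_add_eq_zero_right h4
    have h5 : (mat t).det = 1 := t.1.2
    rw [h3, Matrix.det_neg] at h5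
    simp at h5
    apply h2
    linear_combination -h5
  have hm : ∃ x, x + (-1 : F) • act t x ≠ 0 := by
    by_contra hcon
    push Not at hcon
    apply ht
    apply ext_act
    intro x
    have h4 := hcon x
    rw [act_one]
    rw [neg_one_smul] at h4
    exact (sub_eq_zero.mp (by rw [sub_eq_add_neg]; exact h4)).symm
  obtain ⟨v₁, hv₁, htv₁⟩ := exists_unit_eigen hF h2 htt (ε := 1) (one_pow 2) (one_pow q) hp
  obtain ⟨v₂, hv₂, htv₂⟩ := exists_unit_eigen hF h2 htt (ε := -1) (by norm_num) hneg1 hm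
  rw [one_smul] at htv₁
  rw [neg_one_smul] at htv₂
  have h12 : ⟪v₁, v₂⟫ = 0 := by
    have h3 := hself v₁ v₂
    rw [htv₁, htv₂, hermForm_neg_right hF] at h3
    have h4 : 2 * ⟪v₁, v₂⟫ = 0 := by linear_combination h3
    exact (mul_eq_zero.mp h4).resolve_left h2
  obtain ⟨v₃, hb⟩ := exists_third hF hv₁ hv₂ h12
  have h31 := hermForm_symm_zero hF hb.hac
  have h32 := hermForm_symm_zero hF hb.hbc
  -- `t v₃` is a multiple of `v₃`
  have ht3 := hb.decomp hF (act t v₃)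
  rw [hself, hself, htv₁, htv₂, h31, hermForm_neg_right hF, h32, neg_zero, zero_smul, zero_smul, zero_add,
    zero_add] at ht3
  set μ := ⟪act t v₃, v₃⟫ with hμ
  -- determinant
  have hdet : -μ = 1 := by
    have h4 := mul_colMat t v₁ v₂ v₃
    rw [htv₁, htv₂, ht3] at h4
    have h5 : colMat v₁ (-v₂) (μ • v₃) = colMat v₁ v₂ v₃ * Matrix.diagonal ![1, -1, μ] := by
      rw [colMat_mul_diagonal, one_smul, neg_one_smul]
    rw [h5] at h4
    have h6 := congrArg Matrix.det h4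
    rw [Matrix.det_mul, Matrix.det_mul, Matrix.det_diagonal, show (mat t).det = 1 from t.1.2, one_mul,
      Fin.prod_univ_three] at h6
    have hP : (colMat v₁ v₂ v₃).det ≠ 0 := by
      have hu := isUnit_of_preserves hF _ (hb.preserves hF)
      exact ((Matrix.isUnit_iff_isUnit_det _).1 hu).ne_zero
    have h7 : (colMat v₁ v₂ v₃).det * (-μ - 1) = 0 := by
      simp at h6
      linear_combination -h6
    have h8 := (mul_eq_zero.mp h7).resolve_left hP
    linear_combination h8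
  have hμ' : μ = -1 := by linear_combination -hdet
  refine ⟨v₁, hv₁, fun x => ?_⟩
  have hx := hb.decomp hF x
  set A := ⟪x, v₁⟫ with hA
  set B := ⟪x, v₂⟫ with hB
  set C := ⟪x, v₃⟫ with hC
  conv_lhs => rw [hx]
  rw [act_add, act_add, act_smul, act_smul, act_smul, htv₁, htv₂, ht3, hμ']
  conv_rhs => rw [hx]
  ext i
  simp only [Pi.add_apply, Pi.smul_apply, Pi.neg_apply, smul_eq_mul]
  ring

/-- Two unit vectors giving the same reflection are proportional. -/
theorem IsRefl.eq_smul (h2 : (2 : F) ≠ 0) {t : SU 3 F q} {v w : Fin 3 → F} (hv : IsRefl q t v)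
    (hw : IsRefl q t w) : w = ⟪w, v⟫ • v ∧ ⟪w, v⟫ ^ (q + 1) = 1 := by
  have h3 := hw.act_self hF
  rw [hv.2 w] at h3
  have h4 : w = ⟪w, v⟫ • v := by
    have h5 : (2 : F) • (w - ⟪w, v⟫ • v) = 0 := by
      ext i
      have h6 := congrFun h3 i
      simp only [Pi.add_apply, Pi.neg_apply, Pi.smul_apply, smul_eq_mul] at h6
      simp only [Pi.smul_apply, Pi.sub_apply, smul_eq_mul, Pi.zero_apply]
      linear_combination -h6
    have h6 := (smul_eq_zero.mp h5).resolve_left h2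
    exact sub_eq_zero.mp h6
  refine ⟨h4, ?_⟩
  have h5 : ⟪⟪w, v⟫ • v, ⟪w, v⟫ • v⟫ = 1 := by
    rw [← h4]
    exact hw.1
  rw [hermForm_smul_left, hermForm_smul_right, hv.1, mul_one] at h5
  rw [pow_succ, mul_comm]
  exact h5

theorem IsRefl.of_smul {t : SU 3 F q} {v : Fin 3 → F} (hv : IsRefl q t v) {c : F} (hc : c ^ (q + 1) = 1) :
    IsRefl q t (c • v) := by
  refine ⟨?_, fun x => ?_⟩
  · rw [hermForm_smul_left, hermForm_smul_right, hv.1, mul_one, mul_comm, ← pow_succ, hc]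
  · rw [hv.2, hermForm_smul_right]
    congr 1
    rw [smul_smul]
    congr 1
    calc 2 * ⟪x, v⟫ = 2 * ⟪x, v⟫ * c ^ (q + 1) := by rw [hc, mul_one]
      _ = 2 * (c ^ q * ⟪x, v⟫) * c := by rw [pow_succ]; ring

omit hF in
theorem IsRefl.unique {t t' : SU 3 F q} {v : Fin 3 → F} (hv : IsRefl q t v) (hv' : IsRefl q t' v) : t = t' := by
  apply ext_act
  intro x
  rw [hv.2, hv'.2]

theorem IsRefl.ne_one (h2 : (2 : F) ≠ 0) {t : SU 3 F q} {v : Fin 3 → F} (hv : IsRefl q t v) : t ≠ 1 := by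
  obtain ⟨b, hb, hab⟩ := exists_second hF hv.1
  rintro rfl
  have h3 := hv.act_perp hF (hermForm_symm_zero hF hab)
  rw [act_one] at h3
  have h4 : (2 : F) • b = 0 := by
    rw [two_smul]
    nth_rewrite 1 [h3]
    simp
  have h5 := (smul_eq_zero.mp h4).resolve_left h2
  rw [h5, hermForm_zero_left] at hb
  exact zero_ne_one hb

/-- Orthogonal reflections commute. -/
theorem IsRefl.commute_of_perp {t x : SU 3 F q} {v w : Fin 3 → F} (hv : IsRefl q t v) (hw : IsRefl q x w)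
    (hwv : ⟪w, v⟫ = 0) : Commute t x := by
  have hvw : ⟪v, w⟫ = 0 := hermForm_symm_zero hF hwv
  apply ext_act
  intro y
  rw [act_mul, act_mul, hw.2 y, hv.2 y, act_add, act_add, act_smul, act_smul, act_neg, act_neg,
    hv.act_perp hF hwv, hw.act_perp hF hvw, hv.2 y, hw.2 y]
  ext i
  simp only [Pi.add_apply, Pi.neg_apply, Pi.smul_apply, smul_eq_mul]
  ring

/-- Commuting reflections are equal or orthogonal. -/
theorem IsRefl.perp_of_commute (h2 : (2 : F) ≠ 0) {t x : SU 3 F q} {v w : Fin 3 → F} (hv : IsRefl q t v)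
    (hw : IsRefl q x w) (hc : Commute t x) (hne : x ≠ t) : ⟪w, v⟫ = 0 := by
  have hq := two_le_q hF
  by_contra hwv
  have hvw : ⟪v, w⟫ ≠ 0 := by
    intro h0
    exact hwv (hermForm_symm_zero hF h0)
  apply hne
  -- `x v` is fixed by `t`
  have h3 : act t (act x v) = act x v := by
    rw [← act_mul, hc.eq, act_mul, hv.act_self hF]
  have h4 : act x v = ⟪act x v, v⟫ • v := by
    have h5 := hv.2 (act x v)
    rw [h3] at h5
    have h6 : (2 : F) • (act x v - ⟪act x v, v⟫ • v) = 0 := by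
      ext i
      have h7 := congrFun h5 i
      simp only [Pi.add_apply, Pi.neg_apply, Pi.smul_apply, smul_eq_mul] at h7
      simp only [Pi.smul_apply, Pi.sub_apply, smul_eq_mul, Pi.zero_apply]
      linear_combination h7
    exact sub_eq_zero.mp ((smul_eq_zero.mp h6).resolve_left h2)
  set c := ⟪act x v, v⟫ with hc'
  have h5 := hw.2 v
  rw [h4] at h5
  -- `w` is proportional to `v`
  have h6 : w = ((1 + c) / (2 * ⟪v, w⟫)) • v := by
    have h7 : (2 * ⟪v, w⟫) • w = (1 + c) • v := by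
      rw [add_smul, one_smul, h5]
      simp
    rw [div_eq_inv_mul, mul_smul, ← h7, smul_smul, inv_mul_cancel₀ (mul_ne_zero h2 hvw), one_smul]
  set d := (1 + c) / (2 * ⟪v, w⟫) with hd
  have h7 : d * d ^ q = 1 := by
    have h8 := hw.1
    rw [h6, hermForm_smul_left, hermForm_smul_right, hv.1, mul_one] at h8
    exact h8
  have h8 : d ^ (q + 1) = 1 := by
    rw [pow_succ, mul_comm]
    exact h7
  have h9 := hv.of_smul hF h8
  rw [← h6] at h9
  exact (IsRefl.unique h9 hw).symm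

omit hF in
/-- Conjugation of reflections. -/
theorem IsRefl.conj {t : SU 3 F q} {v : Fin 3 → F} (hv : IsRefl q t v) (g : SU 3 F q) :
    IsRefl q (g * t * g⁻¹) (act g v) := by
  refine ⟨by rw [h_act]; exact hv.1, fun x => ?_⟩
  have h1 : ⟪act g⁻¹ x, v⟫ = ⟪x, act g v⟫ := by
    have h3 := h_act g (act g⁻¹ x) v
    rw [act_act_inv] at h3
    exact h3.symm
  rw [act_mul, act_mul, hv.2, act_add, act_smul, act_neg, act_act_inv, h1]

/-- `SU₃` is transitive on unit vectors. -/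
theorem exists_act_eq {v v' : Fin 3 → F} (hv : ⟪v, v⟫ = 1) (hv' : ⟪v', v'⟫ = 1) :
    ∃ g : SU 3 F q, act g v = v' := by
  classical
  obtain ⟨a, ha, hva⟩ := exists_second hF hv
  obtain ⟨b, hb⟩ := exists_third hF hv ha hva
  obtain ⟨a', ha', hva'⟩ := exists_second hF hv'
  obtain ⟨b', hb'⟩ := exists_third hF hv' ha' hva'
  have hP := hb.preserves hF
  have hP' := hb'.preserves hF
  have hPu := isUnit_of_preserves hF _ hP
  have hPd := (Matrix.isUnit_iff_isUnit_det _).1 hPu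
  have hPu' := isUnit_of_preserves hF _ hP'
  have hPd' := (Matrix.isUnit_iff_isUnit_det _).1 hPu'
  set P := colMat v a b with hPdef
  set P' := colMat v' a' b' with hP'def
  -- norm of determinants
  have hnorm : ∀ M : Matrix (Fin 3) (Fin 3) F, Preserves q M → M.det ^ (q + 1) = 1 := by
    intro M hM
    exact det_pow_succ hF M hM
  set μ := P.det / P'.det with hμ
  have hμ1 : μ ^ (q + 1) = 1 := by
    rw [hμ, div_pow, hnorm _ hP, hnorm _ hP', one_div_one]
  have hμ2 : μ * μ ^ q = 1 := by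
    rw [mul_comm, ← pow_succ]
    exact hμ1
  have hb'' : IsOnb q v' a' (μ • b') := by
    refine ⟨hb'.ha, hb'.hb, ?_, hb'.hab, ?_, ?_⟩
    · rw [hermForm_smul_left, hermForm_smul_right, hb'.hc, mul_one]
      exact hμ2
    · rw [hermForm_smul_right, hb'.hac, mul_zero]
    · rw [hermForm_smul_right, hb'.hbc, mul_zero]
  have hP'' := hb''.preserves hF
  have hdet'' : (colMat v' a' (μ • b')).det = P.det := by
    have h5 : colMat v' a' (μ • b') = P' * Matrix.diagonal ![1, 1, μ] := by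
      rw [hP'def, colMat_mul_diagonal, one_smul, one_smul]
    rw [h5, Matrix.det_mul, Matrix.det_diagonal, Fin.prod_univ_three]
    simp only [Matrix.cons_val_zero, Matrix.cons_val_one, Matrix.cons_val, one_mul]
    rw [hμ]
    field_simp [hPd'.ne_zero]
  -- the inverse of `P` preserves the form
  have hPi : Preserves q P⁻¹ := by
    intro x y
    rw [← hP (P⁻¹ *ᵥ x) (P⁻¹ *ᵥ y), Matrix.mulVec_mulVec, Matrix.mulVec_mulVec,
      Matrix.mul_nonsing_inv _ hPd, Matrix.one_mulVec, Matrix.one_mulVec]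
  have hprod : Preserves q (colMat v' a' (μ • b') * P⁻¹) := by
    intro x y
    rw [← Matrix.mulVec_mulVec, ← Matrix.mulVec_mulVec, hP'', hPi]
  have hdet : (colMat v' a' (μ • b') * P⁻¹).det = 1 := by
    rw [Matrix.det_mul, hdet'', Matrix.det_nonsing_inv, Ring.inverse_eq_inv', mul_inv_cancel₀ hPd.ne_zero]
  refine ⟨mkSU _ hdet hprod, ?_⟩
  show (colMat v' a' (μ • b') * P⁻¹) *ᵥ v = v'
  have h6 : P⁻¹ *ᵥ v = Pi.single 0 1 := by
    conv_lhs => rw [← mulVec_colMat_single v a b]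
    rw [Matrix.mulVec_mulVec, Matrix.nonsing_inv_mul _ hPd, Matrix.one_mulVec]
  rw [← Matrix.mulVec_mulVec, h6, mulVec_colMat_single]

/-! ### Counting -/

/-- The reflection attached to a unit vector. -/
noncomputable def rf (v : {v : Fin 3 → F // ⟪v, v⟫ = 1}) : SU 3 F q :=
  Classical.choose (exists_isRefl hF v.2)

theorem rf_spec (v : {v : Fin 3 → F // ⟪v, v⟫ = 1}) : IsRefl q (rf hF v) v.1 :=
  Classical.choose_spec (exists_isRefl hF v.2)

/-- Counting involutions with a property through unit vectors. -/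
theorem card_unit_filter (h2 : (2 : F) ≠ 0) (P : SU 3 F q → Prop) :
    Nat.card {v : {v : Fin 3 → F // ⟪v, v⟫ = 1} // P (rf hF v)} =
      Nat.card {x : SU 3 F q // x ≠ 1 ∧ x * x = 1 ∧ P x} * (q + 1) := by
  classical
  have hex : ∀ x : {x : SU 3 F q // x ≠ 1 ∧ x * x = 1 ∧ P x}, ∃ v, IsRefl q x.1 v :=
    fun x => exists_isRefl_of_invol hF h2 x.2.1 x.2.2.1
  choose b hb using hex
  have hmem : ∀ v : {v : {v : Fin 3 → F // ⟪v, v⟫ = 1} // P (rf hF v)},
      rf hF v.1 ≠ 1 ∧ rf hF v.1 * rf hF v.1 = 1 ∧ P (rf hF v.1) := fun v =>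
    ⟨(rf_spec hF v.1).ne_one hF h2, (rf_spec hF v.1).mul_self hF, v.2⟩
  let Φ : {v : {v : Fin 3 → F // ⟪v, v⟫ = 1} // P (rf hF v)} →
      {x : SU 3 F q // x ≠ 1 ∧ x * x = 1 ∧ P x} × {μ : F // μ ^ (q + 1) = 1} := fun v =>
    (⟨rf hF v.1, hmem v⟩, ⟨⟪v.1.1, b ⟨rf hF v.1, hmem v⟩⟫,
      ((hb ⟨rf hF v.1, hmem v⟩).eq_smul hF h2 (rf_spec hF v.1)).2⟩)
  have hΦ : Function.Bijective Φ := by
    constructor
    · intro v v' hvv
      have h3 : (Φ v).1 = (Φ v').1 := congrArg Prod.fst hvv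
      have h4 : ((Φ v).2 : F) = (Φ v').2 := congrArg (fun u => (u.2 : F)) hvv
      apply Subtype.ext
      apply Subtype.ext
      have h5 := ((hb (Φ v).1).eq_smul hF h2 (rf_spec hF v.1)).1
      have h6 := ((hb (Φ v').1).eq_smul hF h2 (rf_spec hF v'.1)).1
      rw [h5, h6]
      show ⟪v.1.1, b (Φ v).1⟫ • b (Φ v).1 = ⟪v'.1.1, b (Φ v').1⟫ • b (Φ v').1
      have h7 : ⟪v.1.1, b (Φ v).1⟫ = ⟪v'.1.1, b (Φ v').1⟫ := h4
      rw [h7, h3]
    · rintro ⟨x, ⟨μ, hμ⟩⟩
      have h3 := (hb x).of_smul hF hμ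
      let v₀ : {v : Fin 3 → F // ⟪v, v⟫ = 1} := ⟨μ • b x, h3.1⟩
      have h4 : rf hF v₀ = x.1 := IsRefl.unique (rf_spec hF v₀) h3
      have h5 : P (rf hF v₀) := by
        rw [h4]
        exact x.2.2.2
      refine ⟨⟨v₀, h5⟩, ?_⟩
      have h6 : (⟨rf hF v₀, hmem ⟨v₀, h5⟩⟩ : {x : SU 3 F q // x ≠ 1 ∧ x * x = 1 ∧ P x}) = x :=
        Subtype.ext h4
      apply Prod.ext
      · exact h6
      · apply Subtype.ext
        show ⟪μ • b x, b ⟨rf hF v₀, hmem ⟨v₀, h5⟩⟩⟫ = μ
        rw [h6, hermForm_smul_left, (hb x).1, mul_one]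
  rw [Nat.card_congr (Equiv.ofBijective Φ hΦ), Nat.card_prod,
    Cfsg.Agent.S0754.result hF 1 one_ne_zero (one_pow q)]

/-- The number of unit vectors in dimension three. -/
theorem card_unit : Nat.card {v : Fin 3 → F // ⟪v, v⟫ = 1} = q ^ 2 * (q ^ 3 + 1) := by
  rw [Cfsg.Agent.S0284.result hF 3, if_neg (by decide)]

theorem card_invol (h2 : (2 : F) ≠ 0) : Nat.card {x : SU 3 F q // x ≠ 1 ∧ x * x = 1} * (q + 1) =
    q ^ 2 * (q ^ 3 + 1) := by
  have h3 := card_unit_filter hF h2 (fun _ => True)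
  have e1 : Nat.card {v : {v : Fin 3 → F // ⟪v, v⟫ = 1} // (fun _ : SU 3 F q => True) (rf hF v)} =
      Nat.card {v : Fin 3 → F // ⟪v, v⟫ = 1} :=
    Nat.card_congr (Equiv.subtypeUnivEquiv (fun _ => trivial))
  have e2 : Nat.card {x : SU 3 F q // x ≠ 1 ∧ x * x = 1 ∧ (fun _ : SU 3 F q => True) x} =
      Nat.card {x : SU 3 F q // x ≠ 1 ∧ x * x = 1} := by
    apply Nat.card_congr
    apply Equiv.subtypeEquivRight
    intro x
    simp
  rw [e1, e2, card_unit hF] at h3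
  exact h3.symm

/-- Any two involutions are conjugate. -/
theorem exists_conj (h2 : (2 : F) ≠ 0) {t x : SU 3 F q} (ht : t ≠ 1) (htt : t * t = 1) (hx : x ≠ 1)
    (hxx : x * x = 1) : ∃ g : SU 3 F q, g * t * g⁻¹ = x := by
  obtain ⟨v, hv⟩ := exists_isRefl_of_invol hF h2 ht htt
  obtain ⟨w, hw⟩ := exists_isRefl_of_invol hF h2 hx hxx
  obtain ⟨g, hg⟩ := exists_act_eq hF hv.1 hw.1
  refine ⟨g, ?_⟩
  have h3 := hv.conj g
  rw [hg] at h3
  exact IsRefl.unique h3 hw

/-- The centraliser of an involution. -/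
theorem card_centralizer_mul (h2 : (2 : F) ≠ 0) {t : SU 3 F q} (ht : t ≠ 1) (htt : t * t = 1) :
    Nat.card (Subgroup.centralizer ({t} : Set (SU 3 F q))) *
      Nat.card {x : SU 3 F q // x ≠ 1 ∧ x * x = 1} = Nat.card (SU 3 F q) := by
  classical
  have hex : ∀ x : {x : SU 3 F q // x ≠ 1 ∧ x * x = 1}, ∃ g : SU 3 F q, g * t * g⁻¹ = x.1 :=
    fun x => exists_conj hF h2 ht htt x.2.1 x.2.2
  choose s hs using hex
  have hinv : ∀ g : SU 3 F q, g * t * g⁻¹ ≠ 1 ∧ (g * t * g⁻¹) * (g * t * g⁻¹) = 1 := by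
    intro g
    constructor
    · intro h3
      apply ht
      have h4 : t = g⁻¹ * (g * t * g⁻¹) * g := by group
      rw [h4, h3]
      group
    · have h4 : (g * t * g⁻¹) * (g * t * g⁻¹) = g * (t * t) * g⁻¹ := by group
      rw [h4, htt]
      group
  let Φ : SU 3 F q → Subgroup.centralizer ({t} : Set (SU 3 F q)) × {x : SU 3 F q // x ≠ 1 ∧ x * x = 1} :=
    fun g => (⟨(s ⟨g * t * g⁻¹, hinv g⟩)⁻¹ * g, by
      rw [Subgroup.mem_centralizer_iff]
      intro y hy
      have hy' : y = t := hy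
      rw [hy']
      have h3 := hs ⟨g * t * g⁻¹, hinv g⟩
      simp only at h3
      set u := s ⟨g * t * g⁻¹, hinv g⟩
      have h4 : t = u⁻¹ * (g * t * g⁻¹) * u := by
        rw [← h3]
        group
      calc t * (u⁻¹ * g) = (u⁻¹ * (g * t * g⁻¹) * u) * (u⁻¹ * g) := by rw [← h4]
        _ = u⁻¹ * g * t := by group⟩, ⟨g * t * g⁻¹, hinv g⟩)
  apply Eq.symm
  rw [← Nat.card_prod]
  apply Nat.card_eq_of_bijective Φ
  constructor
  · intro g g' hgg
    have h3 : (Φ g).2 = (Φ g').2 := congrArg Prod.snd hgg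
    have h4 : ((Φ g).1 : SU 3 F q) = (Φ g').1 := congrArg (fun u => (u.1 : SU 3 F q)) hgg
    change (s (Φ g).2)⁻¹ * g = (s (Φ g').2)⁻¹ * g' at h4
    rw [h3] at h4
    exact mul_left_cancel h4
  · rintro ⟨c, x⟩
    refine ⟨s x * c, ?_⟩
    have h3 : (s x * c) * t * (s x * c)⁻¹ = x.1 := by
      have h4 := hs x
      have h5 : c.1 * t = t * c.1 := by
        have h6 := Subgroup.mem_centralizer_iff.mp c.2 t rfl
        exact h6.symm
      calc (s x * c) * t * (s x * c)⁻¹ = s x * (c.1 * t) * c.1⁻¹ * (s x)⁻¹ := by group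
        _ = s x * t * (s x)⁻¹ := by rw [h5]; group
        _ = x.1 := h4
    have h7 : (⟨(s x * c) * t * (s x * c)⁻¹, hinv _⟩ : {x : SU 3 F q // x ≠ 1 ∧ x * x = 1}) = x :=
      Subtype.ext h3
    apply Prod.ext
    · apply Subtype.ext
      show (s ⟨(s x * c) * t * (s x * c)⁻¹, hinv _⟩)⁻¹ * (s x * c) = c.1
      rw [h7]
      group
    · exact h7

theorem two_ne_zero_of_odd (hq : Odd q) : (2 : F) ≠ 0 := by
  intro h0
  have hq2 := two_le_q hF
  obtain ⟨p, k, hp, hc, hk⟩ := exists_char_pow hF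
  have h3 : p ∣ 2 := by
    have := (CharP.cast_eq_zero_iff F p 2).1 (by exact_mod_cast h0)
    exact this
  have h4 : p = 2 := (Nat.prime_dvd_prime_iff_eq hp Nat.prime_two).1 h3
  subst h4
  rw [hk] at hq hq2
  rcases k with _ | k
  · simp at hq2
  · rw [pow_succ] at hq
    exact (Nat.not_even_iff_odd.mpr hq) (even_two.mul_left _)

/-- Two commuting distinct involutions have a unique third one. -/
theorem exists_unique_third (h2 : (2 : F) ≠ 0) {t x : SU 3 F q} (ht : t ≠ 1) (htt : t * t = 1) (hx : x ≠ 1)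
    (hxx : x * x = 1) (hne : x ≠ t) (hc : Commute t x) :
    Nat.card {y : SU 3 F q // y ≠ 1 ∧ y * y = 1 ∧ y ≠ t ∧ y ≠ x ∧ Commute t y ∧ Commute x y} = 1 := by
  obtain ⟨v, hv⟩ := exists_isRefl_of_invol hF h2 ht htt
  obtain ⟨w, hw⟩ := exists_isRefl_of_invol hF h2 hx hxx
  have hwv := hv.perp_of_commute hF h2 hw hc hne
  have hvw := hermForm_symm_zero hF hwv
  obtain ⟨u, hb⟩ := exists_third hF hv.1 hw.1 hvw
  have huv := hermForm_symm_zero hF hb.hac
  have huw := hermForm_symm_zero hF hb.hbc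
  obtain ⟨y₀, hy₀⟩ := exists_isRefl hF hb.hc
  have hne' : ∀ {s : SU 3 F q} {a : Fin 3 → F}, IsRefl q s a → ⟪u, a⟫ = 0 → y₀ ≠ s := by
    intro s a hs hua hys
    rw [hys] at hy₀
    have h3 := (hs.eq_smul hF h2 hy₀).2
    rw [hua, zero_pow (by omega)] at h3
    exact zero_ne_one h3
  rw [Nat.card_eq_one_iff_unique]
  refine ⟨⟨?_⟩, ⟨⟨y₀, hy₀.ne_one hF h2, hy₀.mul_self hF, hne' hv huv, hne' hw huw,
    hv.commute_of_perp hF hy₀ huv, hw.commute_of_perp hF hy₀ huw⟩⟩⟩
  have key : ∀ y : {y : SU 3 F q // y ≠ 1 ∧ y * y = 1 ∧ y ≠ t ∧ y ≠ x ∧ Commute t y ∧ Commute x y},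
      y.1 = y₀ := by
    rintro ⟨y, hy1, hyy, hyt, hyx, hty, hxy⟩
    obtain ⟨z, hz⟩ := exists_isRefl_of_invol hF h2 hy1 hyy
    have hzv := hv.perp_of_commute hF h2 hz hty hyt
    have hzw := hw.perp_of_commute hF h2 hz hxy hyx
    have h3 := hb.decomp hF z
    rw [hzv, hzw, zero_smul, zero_smul, zero_add, zero_add] at h3
    have h4 : ⟪z, u⟫ ^ (q + 1) = 1 := by
      have h5 := hz.1
      rw [h3, hermForm_smul_left, hermForm_smul_right, hb.hc, mul_one] at h5
      rw [pow_succ, mul_comm]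
      exact h5
    have h5 := hy₀.of_smul hF h4
    rw [← h3] at h5
    exact IsRefl.unique hz h5
  intro a b
  apply Subtype.ext
  rw [key a, key b]

/-! ### The commuting involution graph -/

/-- The third vector of a frame through the plane of two unit vectors. -/
theorem exists_perp_both {p w : Fin 3 → F} (hp : ⟪p, p⟫ = 1) (hw : ⟪w, w⟫ = 1)
    (hN : ⟪w, p⟫ ^ (q + 1) ≠ 1) : ∃ r, ⟪r, r⟫ = 1 ∧ ⟪r, p⟫ = 0 ∧ ⟪r, w⟫ = 0 := by
  set b := ⟪w, p⟫ with hb
  have hpw : ⟪p, w⟫ = b ^ q := (hermForm_pow_q hF 3 w p).symm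
  set w' := w - b • p with hw'
  have h1 : ⟪w', p⟫ = 0 := by
    rw [hw', hermForm_sub_left, hermForm_smul_left, hp, mul_one, sub_self]
  have h3 : ⟪w', w'⟫ = 1 - b ^ (q + 1) := by
    rw [hw', hermForm_sub_left, hermForm_sub_right hF, hermForm_sub_right hF, hermForm_smul_left,
      hermForm_smul_left, hermForm_smul_right, hermForm_smul_right, hw, hp, hpw, ← hb, pow_succ]
    ring
  have h4 : ⟪w', w'⟫ ≠ 0 := by
    rw [h3]
    exact sub_ne_zero.mpr (Ne.symm hN)
  obtain ⟨a, ha⟩ := exists_norm_eq hF (⟪w', w'⟫)⁻¹ (inv_ne_zero h4)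
    (by rw [inv_pow, hermForm_self_pow_q hF])
  have ha0 : a ≠ 0 := by
    rintro rfl
    rw [zero_pow (by omega)] at ha
    exact inv_ne_zero h4 ha.symm
  have he : ⟪a • w', a • w'⟫ = 1 := by
    rw [hermForm_smul_left, hermForm_smul_right, ← mul_assoc, ← pow_succ', ha, inv_mul_cancel₀ h4]
  have hpe : ⟪p, a • w'⟫ = 0 := by
    rw [hermForm_smul_right, hermForm_symm_zero hF h1, mul_zero]
  obtain ⟨r, hr⟩ := exists_third hF hp he hpe
  refine ⟨r, hr.hc, hermForm_symm_zero hF hr.hac, ?_⟩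
  have h5 : ⟪r, w'⟫ = 0 := by
    have h6 := hermForm_symm_zero hF hr.hbc
    rw [hermForm_smul_right] at h6
    exact (mul_eq_zero.mp h6).resolve_left (pow_ne_zero _ ha0)
  have h7 : w = w' + b • p := by
    rw [hw']
    abel
  rw [h7, hermForm_add_right hF, h5, hermForm_smul_right, hermForm_symm_zero hF hr.hac]
  simp

section Graph

variable {t x : SU 3 F q} {v w : Fin 3 → F} (h2 : (2 : F) ≠ 0) (hv : IsRefl q t v) (hw : IsRefl q x w)
include h2 hv hw

/-- Non-commuting reflections. -/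
theorem not_commute_iff : ¬ Commute t x ↔ ⟪w, v⟫ ≠ 0 ∧ w ≠ ⟪w, v⟫ • v := by
  constructor
  · intro hc
    constructor
    · intro h0
      exact hc (hv.commute_of_perp hF hw h0)
    · intro h0
      apply hc
      have h3 : x = t := by
        have h4 : ⟪w, v⟫ ^ (q + 1) = 1 := by
          have h5 := hw.1
          rw [h0, hermForm_smul_left, hermForm_smul_right, hv.1, mul_one] at h5
          rw [pow_succ, mul_comm]
          exact h5
        have h5 := hv.of_smul hF h4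
        rw [← h0] at h5
        exact IsRefl.unique hw h5
      rw [h3]
  · rintro ⟨h3, h4⟩ hc
    have h5 : x ≠ t := by
      rintro rfl
      exact h4 (hv.eq_smul hF h2 hw).1
    exact h3 (hv.perp_of_commute hF h2 hw hc h5)

/-- Under non-commutation, a common commuting involution exists iff the norm is not one. -/
theorem exists_common_iff (hc : ¬ Commute t x) :
    (∃ y : SU 3 F q, y ≠ 1 ∧ y * y = 1 ∧ Commute t y ∧ Commute y x) ↔ ⟪w, v⟫ ^ (q + 1) ≠ 1 := by
  constructor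
  · rintro ⟨y, hy1, hyy, hty, hyx⟩ hN
    obtain ⟨z, hz⟩ := exists_isRefl_of_invol hF h2 hy1 hyy
    have hyt : y ≠ t := by
      rintro rfl
      exact hc hyx
    have hxy : x ≠ y := by
      rintro rfl
      exact hc hty
    have hzv := hv.perp_of_commute hF h2 hz hty hyt
    have hwz := hz.perp_of_commute hF h2 hw hyx hxy
    have hvz := hermForm_symm_zero hF hzv
    obtain ⟨z', hb⟩ := exists_third hF hv.1 hz.1 hvz
    have h3 := hb.decomp hF w
    rw [hwz, zero_smul, add_zero] at h3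
    -- the norm of `w`
    have h4 : ⟪w, w⟫ = ⟪w, v⟫ ^ (q + 1) + ⟪w, z'⟫ ^ (q + 1) := by
      conv_lhs => rw [h3]
      simp only [hermForm_add_left, hermForm_add_right hF, hermForm_smul_left, hermForm_smul_right, hb.ha,
        hb.hc, hb.hac, hermForm_symm_zero hF hb.hac]
      rw [pow_succ, pow_succ]
      ring
    rw [hw.1, hN] at h4
    have h5 : ⟪w, z'⟫ ^ (q + 1) = 0 := by linear_combination -h4
    have h6 : ⟪w, z'⟫ = 0 := pow_eq_zero_iff (by omega) |>.mp h5
    rw [h6, zero_smul, add_zero] at h3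
    exact ((not_commute_iff hF h2 hv hw).1 hc).2 h3
  · intro hN
    obtain ⟨r, hr, hrv, hrw⟩ := exists_perp_both hF hv.1 hw.1 hN
    obtain ⟨y, hy⟩ := exists_isRefl hF hr
    exact ⟨y, hy.ne_one hF h2, hy.mul_self hF, hv.commute_of_perp hF hy hrv,
      (hw.commute_of_perp hF hy hrw).symm⟩

end Graph

/-- The coordinates of unit vectors. -/
theorem card_unit_pred {v₀ v₁ v₂ : Fin 3 → F} (hb : IsOnb q v₀ v₁ v₂) (Y : F → (Fin 2 → F) → Prop) :
    Nat.card {w : Fin 3 → F // ⟪w, w⟫ = 1 ∧ Y ⟪w, v₀⟫ ![⟪w, v₁⟫, ⟪w, v₂⟫]} =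
      Nat.card {p : F × (Fin 2 → F) // p.1 ^ (q + 1) + hermForm 2 F q p.2 p.2 = 1 ∧ Y p.1 p.2} := by
  have h01 := hermForm_symm_zero hF hb.hab
  have h02 := hermForm_symm_zero hF hb.hac
  have h12 := hermForm_symm_zero hF hb.hbc
  have hnorm : ∀ w : Fin 3 → F, ⟪w, w⟫ = ⟪w, v₀⟫ ^ (q + 1) + hermForm 2 F q ![⟪w, v₁⟫, ⟪w, v₂⟫] ![⟪w, v₁⟫, ⟪w, v₂⟫] := by
    intro w
    rw [hermForm_apply (n := 2), Fin.sum_univ_two]
    simp only [Matrix.cons_val_zero, Matrix.cons_val_one]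
    conv_lhs => rw [hb.decomp hF w]
    set a := ⟪w, v₀⟫
    set b := ⟪w, v₁⟫
    set c := ⟪w, v₂⟫
    simp only [hermForm_add_left, hermForm_add_right hF, hermForm_smul_left, hermForm_smul_right, hb.ha,
      hb.hb, hb.hc, hb.hab, hb.hac, hb.hbc, h01, h02, h12]
    rw [pow_succ]
    ring
  let Φ : {w : Fin 3 → F // ⟪w, w⟫ = 1 ∧ Y ⟪w, v₀⟫ ![⟪w, v₁⟫, ⟪w, v₂⟫]} →
      {p : F × (Fin 2 → F) // p.1 ^ (q + 1) + hermForm 2 F q p.2 p.2 = 1 ∧ Y p.1 p.2} :=
    fun w => ⟨(⟪w.1, v₀⟫, ![⟪w.1, v₁⟫, ⟪w.1, v₂⟫]), by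
      refine ⟨?_, w.2.2⟩
      rw [← hnorm]
      exact w.2.1⟩
  apply Nat.card_eq_of_bijective Φ
  constructor
  · rintro ⟨w, hw⟩ ⟨w', hw'⟩ h3
    apply Subtype.ext
    have h4 : ⟪w, v₀⟫ = ⟪w', v₀⟫ := congrArg (fun p => p.1.1) h3
    have h5 : ![⟪w, v₁⟫, ⟪w, v₂⟫] = ![⟪w', v₁⟫, ⟪w', v₂⟫] := congrArg (fun p => p.1.2) h3
    have h6 : ⟪w, v₁⟫ = ⟪w', v₁⟫ := congrFun h5 0
    have h7 : ⟪w, v₂⟫ = ⟪w', v₂⟫ := congrFun h5 1
    show w = w'
    rw [hb.decomp hF w, hb.decomp hF w', h4, h6, h7]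
  · rintro ⟨⟨a, u⟩, h3, h4⟩
    set z := a • v₀ + u 0 • v₁ + u 1 • v₂ with hz
    have hz0 : ⟪z, v₀⟫ = a := by
      rw [hz]
      simp only [hermForm_add_left, hermForm_smul_left, hb.ha, h01, h02]
      ring
    have hz1 : ⟪z, v₁⟫ = u 0 := by
      rw [hz]
      simp only [hermForm_add_left, hermForm_smul_left, hb.hb, hb.hab, h12]
      ring
    have hz2 : ⟪z, v₂⟫ = u 1 := by
      rw [hz]
      simp only [hermForm_add_left, hermForm_smul_left, hb.hc, hb.hac, hb.hbc]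
      ring
    have hu : ![u 0, u 1] = u := by
      ext i
      fin_cases i <;> rfl
    refine ⟨⟨z, ?_, ?_⟩, ?_⟩
    · rw [hnorm, hz0, hz1, hz2, hu]
      exact h3
    · rw [hz0, hz1, hz2, hu]
      exact h4
    · apply Subtype.ext
      show (⟪z, v₀⟫, ![⟪z, v₁⟫, ⟪z, v₂⟫]) = (a, u)
      rw [hz0, hz1, hz2, hu]

omit hF in
/-- Counting pairs fibrewise. -/
theorem card_pairs (Y₁ : F → Prop) (Y₂ : (Fin 2 → F) → Prop) (m : ℕ)
    (hm : ∀ a, Y₁ a → Nat.card {u : Fin 2 → F // hermForm 2 F q u u = 1 - a ^ (q + 1) ∧ Y₂ u} = m) :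
    Nat.card {p : F × (Fin 2 → F) // p.1 ^ (q + 1) + hermForm 2 F q p.2 p.2 = 1 ∧ Y₁ p.1 ∧ Y₂ p.2} =
      Nat.card {a : F // Y₁ a} * m := by
  classical
  let e : {p : F × (Fin 2 → F) // p.1 ^ (q + 1) + hermForm 2 F q p.2 p.2 = 1 ∧ Y₁ p.1 ∧ Y₂ p.2} ≃
      Σ a : {a : F // Y₁ a}, {u : Fin 2 → F // hermForm 2 F q u u = 1 - a.1 ^ (q + 1) ∧ Y₂ u} :=
    { toFun := fun p => ⟨⟨p.1.1, p.2.2.1⟩, ⟨p.1.2, by
        rw [eq_sub_iff_add_eq, add_comm]
        exact p.2.1, p.2.2.2⟩⟩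
      invFun := fun s => ⟨(s.1.1, s.2.1), by
        refine ⟨?_, s.1.2, s.2.2.2⟩
        rw [s.2.2.1]
        ring, ⟩
      left_inv := fun p => by
        apply Subtype.ext
        rfl
      right_inv := fun s => by
        rcases s with ⟨⟨a, ha⟩, ⟨u, hu⟩⟩
        rfl }
  rw [Nat.card_congr e, Nat.card_sigma]
  rw [Finset.sum_congr rfl (fun a _ => hm a.1 a.2), Finset.sum_const, Finset.card_univ, smul_eq_mul]
  congr 1
  exact Nat.card_eq_fintype_card.symm

/-- The number of vectors of a given nonzero norm in dimension two. -/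
theorem card_norm_two {c : F} (hc : c ≠ 0) (hcq : c ^ q = c) :
    Nat.card {u : Fin 2 → F // hermForm 2 F q u u = c} = q * (q ^ 2 - 1) := by
  obtain ⟨l, hl⟩ := exists_norm_eq hF c hc hcq
  have hl0 : l ≠ 0 := by
    rintro rfl
    rw [zero_pow (by omega)] at hl
    exact hc hl.symm
  have h1 := Cfsg.Agent.S0284.result hF 2
  rw [if_pos (by decide)] at h1
  norm_num at h1
  rw [← h1]
  symm
  apply Nat.card_eq_of_bijective
    (fun u : {u : Fin 2 → F // hermForm 2 F q u u = 1} => (⟨l • u.1, by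
      rw [hermForm_smul_left, hermForm_smul_right, u.2, mul_one, mul_comm, ← pow_succ, hl]⟩ :
        {u : Fin 2 → F // hermForm 2 F q u u = c}))
  constructor
  · intro a b hab
    apply Subtype.ext
    have h3 : l • a.1 = l • b.1 := congrArg Subtype.val hab
    exact smul_right_injective _ hl0 h3
  · rintro ⟨u, hu⟩
    refine ⟨⟨l⁻¹ • u, ?_⟩, ?_⟩
    · rw [hermForm_smul_left, hermForm_smul_right, hu, ← hl, inv_pow, pow_succ]
      field_simp
    · apply Subtype.ext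
      show l • l⁻¹ • u = u
      rw [smul_smul, mul_inv_cancel₀ hl0, one_smul]

/-- The number of nonzero isotropic vectors in dimension two. -/
theorem card_iso_two : Nat.card {u : Fin 2 → F // hermForm 2 F q u u = 0 ∧ u ≠ 0} = (q ^ 2 - 1) * (q + 1) := by
  have h1 := TI2.card_isoVec_eq (F := F) hF 2
  rw [if_pos (by decide)] at h1
  norm_num at h1
  rw [← h1]
  apply Nat.card_congr
  exact Equiv.subtypeEquivRight (fun u => and_comm)

/-- The number of elements of given norm type. -/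
theorem card_norm_one_set : Nat.card {a : F // a ^ (q + 1) = 1} = q + 1 :=
  Cfsg.Agent.S0754.result hF 1 one_ne_zero (one_pow q)

theorem card_generic_set :
    Nat.card {a : F // a ≠ 0 ∧ a ^ (q + 1) ≠ 1} + (q + 1) + 1 = q ^ 2 := by
  classical
  have h1 := card_norm_one_set (F := F) hF
  have hq := two_le_q hF
  rw [Nat.card_eq_fintype_card, Fintype.card_subtype] at h1
  rw [Nat.card_eq_fintype_card, Fintype.card_subtype]
  have h3 := Finset.card_filter_add_card_filter_not (s := (Finset.univ : Finset F)) (fun a : F => a = 0 ∨ a ^ (q + 1) = 1)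
  rw [Finset.card_univ] at h3
  have h4 : (Finset.univ.filter (fun a : F => a = 0 ∨ a ^ (q + 1) = 1)) =
      insert 0 (Finset.univ.filter (fun a : F => a ^ (q + 1) = 1)) := by
    ext a
    simp
  have h5 : (0 : F) ∉ (Finset.univ.filter (fun a : F => a ^ (q + 1) = 1)) := by
    simp [zero_pow (show q + 1 ≠ 0 by omega)]
  rw [h4, Finset.card_insert_of_notMem h5] at h3
  have h6 : (Finset.univ.filter (fun a : F => ¬ (a = 0 ∨ a ^ (q + 1) = 1))) =
      Finset.univ.filter (fun a : F => a ≠ 0 ∧ a ^ (q + 1) ≠ 1) := by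
    ext a
    simp
  rw [h6, h1, hF] at h3
  omega

section Main

variable {t : SU 3 F q} {v₀ v₁ v₂ : Fin 3 → F} (h2 : (2 : F) ≠ 0) (hv : IsRefl q t v₀)
  (hb : IsOnb q v₀ v₁ v₂)
include h2 hv hb

/-- Transfer from unit vectors to coordinates. -/
theorem card_filter_coord (P : SU 3 F q → Prop) (Y : F → (Fin 2 → F) → Prop)
    (hPY : ∀ x w, IsRefl q x w → (P x ↔ Y ⟪w, v₀⟫ ![⟪w, v₁⟫, ⟪w, v₂⟫])) :
    Nat.card {x : SU 3 F q // x ≠ 1 ∧ x * x = 1 ∧ P x} * (q + 1) =
      Nat.card {p : F × (Fin 2 → F) // p.1 ^ (q + 1) + hermForm 2 F q p.2 p.2 = 1 ∧ Y p.1 p.2} := by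
  rw [← card_unit_filter hF h2 P, ← card_unit_pred hF hb Y]
  have e : {v : {v : Fin 3 → F // ⟪v, v⟫ = 1} // P (rf hF v)} ≃
      {w : Fin 3 → F // ⟪w, w⟫ = 1 ∧ Y ⟪w, v₀⟫ ![⟪w, v₁⟫, ⟪w, v₂⟫]} :=
    { toFun := fun v => ⟨v.1.1, v.1.2, (hPY _ _ (rf_spec hF v.1)).1 v.2⟩
      invFun := fun w => ⟨⟨w.1, w.2.1⟩, (hPY _ _ (rf_spec hF ⟨w.1, w.2.1⟩)).2 w.2.2⟩
      left_inv := fun v => rfl
      right_inv := fun w => rfl }
  exact Nat.card_congr e

/-- Distance one. -/
theorem card_dist_one :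
    Nat.card {x : SU 3 F q // x ≠ 1 ∧ x * x = 1 ∧ x ≠ t ∧ Commute t x} * (q + 1) = q * (q ^ 2 - 1) := by
  have hq := two_le_q hF
  rw [card_filter_coord hF h2 hv hb (fun x => x ≠ t ∧ Commute t x) (fun a _ => a = 0 ∧ True)]
  · rw [card_pairs (q := q) (Y₁ := fun a => a = 0) (Y₂ := fun _ => True) (m := q * (q ^ 2 - 1))]
    · have h3 : Nat.card {a : F // a = 0} = 1 := by
        rw [Nat.card_eq_one_iff_unique]
        exact ⟨⟨fun a b => Subtype.ext (a.2.trans b.2.symm)⟩, ⟨⟨0, rfl⟩⟩⟩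
      rw [h3, one_mul]
    · rintro a rfl
      rw [zero_pow (by omega), sub_zero]
      rw [← card_norm_two hF (c := 1) one_ne_zero (one_pow q)]
      apply Nat.card_congr
      exact Equiv.subtypeEquivRight (fun u => and_iff_left trivial)
  · intro x w hw
    simp only [and_true]
    constructor
    · rintro ⟨h3, h4⟩
      exact hv.perp_of_commute hF h2 hw h4 h3
    · intro h3
      refine ⟨?_, hv.commute_of_perp hF hw h3⟩
      rintro rfl
      have h4 := (hv.eq_smul hF h2 hw).2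
      rw [h3, zero_pow (by omega)] at h4
      exact zero_ne_one h4

/-- Distance two. -/
theorem card_dist_two :
    Nat.card {x : SU 3 F q // x ≠ 1 ∧ x * x = 1 ∧ ¬ Commute t x ∧
      ∃ y : SU 3 F q, y ≠ 1 ∧ y * y = 1 ∧ Commute t y ∧ Commute y x} * (q + 1) =
      Nat.card {a : F // a ≠ 0 ∧ a ^ (q + 1) ≠ 1} * (q * (q ^ 2 - 1)) := by
  have hq := two_le_q hF
  rw [card_filter_coord hF h2 hv hb (fun x => ¬ Commute t x ∧
      ∃ y : SU 3 F q, y ≠ 1 ∧ y * y = 1 ∧ Commute t y ∧ Commute y x)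
      (fun a _ => (a ≠ 0 ∧ a ^ (q + 1) ≠ 1) ∧ True)]
  · rw [card_pairs (q := q) (Y₁ := fun a => a ≠ 0 ∧ a ^ (q + 1) ≠ 1) (Y₂ := fun _ => True)
      (m := q * (q ^ 2 - 1))]
    rintro a ⟨ha, haN⟩
    have hc : 1 - a ^ (q + 1) ≠ 0 := sub_ne_zero.mpr (Ne.symm haN)
    rw [← card_norm_two hF (c := 1 - a ^ (q + 1)) hc (by
      rw [pow_q_sub hF, one_pow, norm_pow_q hF])]
    apply Nat.card_congr
    exact Equiv.subtypeEquivRight (fun u => and_iff_left trivial)
  · intro x w hw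
    simp only [and_true]
    constructor
    · rintro ⟨h3, h4⟩
      exact ⟨((not_commute_iff hF h2 hv hw).1 h3).1, (exists_common_iff hF h2 hv hw h3).1 h4⟩
    · rintro ⟨h3, h4⟩
      have h5 : ¬ Commute t x := by
        rw [not_commute_iff hF h2 hv hw]
        refine ⟨h3, fun h6 => h4 ?_⟩
        have h7 := hw.1
        rw [h6, hermForm_smul_left, hermForm_smul_right, hv.1, mul_one] at h7
        rw [pow_succ, mul_comm]
        exact h7
      exact ⟨h5, (exists_common_iff hF h2 hv hw h5).2 h4⟩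

/-- Distance three. -/
theorem card_dist_three :
    Nat.card {x : SU 3 F q // x ≠ 1 ∧ x * x = 1 ∧ ¬ Commute t x ∧
      ∀ y : SU 3 F q, y ≠ 1 → y * y = 1 → ¬ (Commute t y ∧ Commute y x)} * (q + 1) =
      (q + 1) * ((q ^ 2 - 1) * (q + 1)) := by
  have hq := two_le_q hF
  rw [card_filter_coord hF h2 hv hb (fun x => ¬ Commute t x ∧
      ∀ y : SU 3 F q, y ≠ 1 → y * y = 1 → ¬ (Commute t y ∧ Commute y x))
      (fun a u => a ^ (q + 1) = 1 ∧ u ≠ 0)]
  · rw [card_pairs (q := q) (Y₁ := fun a => a ^ (q + 1) = 1) (Y₂ := fun u => u ≠ 0)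
      (m := (q ^ 2 - 1) * (q + 1))]
    · rw [card_norm_one_set hF]
    · intro a ha
      rw [ha, sub_self]
      exact card_iso_two hF
  · intro x w hw
    have hcoord : ∀ w : Fin 3 → F, w = ⟪w, v₀⟫ • v₀ ↔ ![⟪w, v₁⟫, ⟪w, v₂⟫] = 0 := by
      intro w
      constructor
      · intro h3
        have h01 := hermForm_symm_zero hF hb.hab
        have h02 := hermForm_symm_zero hF hb.hac
        ext i
        fin_cases i
        · show ⟪w, v₁⟫ = 0
          rw [h3, hermForm_smul_left, hb.hab, mul_zero]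
        · show ⟪w, v₂⟫ = 0
          rw [h3, hermForm_smul_left, hb.hac, mul_zero]
      · intro h3
        have h4 : ⟪w, v₁⟫ = 0 := congrFun h3 0
        have h5 : ⟪w, v₂⟫ = 0 := congrFun h3 1
        conv_lhs => rw [hb.decomp hF w, h4, h5]
        simp
    constructor
    · rintro ⟨h3, h4⟩
      obtain ⟨h5, h6⟩ := (not_commute_iff hF h2 hv hw).1 h3
      constructor
      · by_contra hN
        obtain ⟨y, hy1, hyy, hty, hyx⟩ := (exists_common_iff hF h2 hv hw h3).2 hN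
        exact h4 y hy1 hyy ⟨hty, hyx⟩
      · intro h7
        exact h6 ((hcoord w).2 h7)
    · rintro ⟨h3, h4⟩
      have h5 : ¬ Commute t x := by
        rw [not_commute_iff hF h2 hv hw]
        constructor
        · intro h6
          rw [h6, zero_pow (by omega)] at h3
          exact zero_ne_one h3
        · intro h6
          exact h4 ((hcoord w).1 h6)
      refine ⟨h5, fun y hy1 hyy hc => ?_⟩
      exact (exists_common_iff hF h2 hv hw h5).1 ⟨y, hy1, hyy, hc.1, hc.2⟩ h3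

/-- Any involution is reachable within three steps. -/
theorem exists_path {x : SU 3 F q} (hx : x ≠ 1) (hxx : x * x = 1) :
    ∃ y z : SU 3 F q, y ≠ 1 ∧ y * y = 1 ∧ z ≠ 1 ∧ z * z = 1 ∧ Commute t y ∧ Commute y z ∧ Commute z x := by
  have hq := two_le_q hF
  have ht1 := hv.ne_one hF h2
  have htt := hv.mul_self hF
  by_cases hc : Commute t x
  · exact ⟨t, x, ht1, htt, hx, hxx, Commute.refl t, hc, Commute.refl x⟩
  obtain ⟨w, hw⟩ := exists_isRefl_of_invol hF h2 hx hxx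
  by_cases hN : ⟪w, v₀⟫ ^ (q + 1) = 1
  · -- distance three
    have h01 := hermForm_symm_zero hF hb.hab
    have h02 := hermForm_symm_zero hF hb.hac
    have h12 := hermForm_symm_zero hF hb.hbc
    have hnorm : ⟪w, v₀⟫ ^ (q + 1) + ⟪w, v₁⟫ ^ (q + 1) + ⟪w, v₂⟫ ^ (q + 1) = 1 := by
      conv_rhs => rw [← hw.1]
      conv_rhs => rw [hb.decomp hF w]
      set a := ⟪w, v₀⟫
      set b := ⟪w, v₁⟫
      set c := ⟪w, v₂⟫
      simp only [hermForm_add_left, hermForm_add_right hF, hermForm_smul_left, hermForm_smul_right, hb.ha,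
        hb.hb, hb.hc, hb.hab, hb.hac, hb.hbc, h01, h02, h12]
      rw [pow_succ, pow_succ, pow_succ]
      ring
    rw [hN] at hnorm
    have hsum : ⟪w, v₁⟫ ^ (q + 1) + ⟪w, v₂⟫ ^ (q + 1) = 0 := by linear_combination hnorm
    -- pick `p` among `v₁`, `v₂`
    obtain ⟨p, hp, hpv, hpN⟩ : ∃ p, ⟪p, p⟫ = 1 ∧ ⟪p, v₀⟫ = 0 ∧ ⟪w, p⟫ ^ (q + 1) ≠ 1 := by
      by_cases h3 : ⟪w, v₁⟫ ^ (q + 1) = 1
      · refine ⟨v₂, hb.hc, h02, fun h4 => ?_⟩
        apply h2
        have h5 : (2 : F) = 1 + 1 := by norm_num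
        rw [h3, h4] at hsum
        rw [h5]
        exact hsum
      · exact ⟨v₁, hb.hb, h01, h3⟩
    obtain ⟨y, hy⟩ := exists_isRefl hF hp
    obtain ⟨r, hr, hrp, hrw⟩ := exists_perp_both hF hp hw.1 hpN
    obtain ⟨z, hz⟩ := exists_isRefl hF hr
    exact ⟨y, z, hy.ne_one hF h2, hy.mul_self hF, hz.ne_one hF h2, hz.mul_self hF,
      hv.commute_of_perp hF hy hpv, hy.commute_of_perp hF hz hrp, (hw.commute_of_perp hF hz hrw).symm⟩
  · obtain ⟨y, hy1, hyy, hty, hyx⟩ := (exists_common_iff hF h2 hv hw hc).2 hN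
    exact ⟨y, y, hy1, hyy, hy1, hyy, hty, Commute.refl y, hyx⟩

end Main

end Cfsg.Agent.Lib.Classical.Herm.SU3Invol
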