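/-
Elements of prescribed order in `PSU_3(q)`: transfer from abstract hermitian spaces; the torus and unipotent witnesses.
-/
import Mathlib
import Cfsg.Agent.Lib.Classical.Herm.HermOnb

set_option autoImplicit false
set_option linter.unusedSectionVars false

namespace Cfsg.Agent.Lib.Classical.Herm.SU3Witness

universe u

open Cfsg Cfsg.Agent.Lib.Classical.Herm.Basic Cfsg.Agent.Lib.Classical.Herm.GU Cfsg.Agent.Lib.Classical.Herm.SU
open Cfsg.Agent.Lib.Classical.Herm.HermOnb
open Module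

variable {F : Type*} [Field F] [Fintype F] {q : ℕ}

/-- Powers in `PSU_n` are trivial exactly when the matrix power is scalar. -/
theorem mk_pow_eq_one_iff (hF : Fintype.card F = q ^ 2) {n : ℕ} (m : SU n F q) (k : ℕ) :
    ((QuotientGroup.mk m : PSU n F q)) ^ k = 1 ↔
      ∃ c : F, (((m : Matrix.SpecialLinearGroup (Fin n) F) : Matrix (Fin n) (Fin n) F)) ^ k =
        c • (1 : Matrix (Fin n) (Fin n) F) := by
  rw [← QuotientGroup.mk_pow, QuotientGroup.eq_one_iff]
  constructor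
  · intro hz
    obtain ⟨c, hc⟩ := center_scalar hF (m ^ k) hz
    refine ⟨c, ?_⟩
    have h1 : ((m ^ k : SU n F q) : Matrix.SpecialLinearGroup (Fin n) F) =
        (m : Matrix.SpecialLinearGroup (Fin n) F) ^ k := by
      simp
    rw [h1, Matrix.SpecialLinearGroup.coe_pow] at hc
    rw [hc]
    ext i j
    simp [Matrix.scalar_apply, Matrix.smul_apply, Matrix.one_apply, Matrix.diagonal_apply]
  · rintro ⟨c, hc⟩
    rw [Subgroup.mem_center_iff]
    intro A
    apply Subtype.ext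
    apply Subtype.ext
    have h1 : ((m ^ k : SU n F q) : Matrix.SpecialLinearGroup (Fin n) F) =
        (m : Matrix.SpecialLinearGroup (Fin n) F) ^ k := by
      simp
    change ((A : Matrix.SpecialLinearGroup (Fin n) F) : Matrix (Fin n) (Fin n) F) *
        (((m ^ k : SU n F q) : Matrix.SpecialLinearGroup (Fin n) F) : Matrix (Fin n) (Fin n) F) =
      (((m ^ k : SU n F q) : Matrix.SpecialLinearGroup (Fin n) F) : Matrix (Fin n) (Fin n) F) *
        ((A : Matrix.SpecialLinearGroup (Fin n) F) : Matrix (Fin n) (Fin n) F)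
    rw [h1, Matrix.SpecialLinearGroup.coe_pow, hc]
    simp

/-- Abstract witness: an isometry of determinant one whose `k`-th power is scalar exactly when `N ∣ k`. -/
theorem exists_order (hF : Fintype.card F = q ^ 2) {n : ℕ} {V : Type u} [AddCommGroup V] [Module F V]
    [FiniteDimensional F V] (hV : finrank F V = n) {h : V → V → F} (hh : IsHerm q h) (g : V →ₗ[F] V)
    (hg : ∀ x y, h (g x) (g y) = h x y) (hdet : LinearMap.det g = 1) (N : ℕ)
    (hN : ∀ k : ℕ, (∃ c : F, ∀ x, (g ^ k) x = c • x) ↔ N ∣ k) :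
    ∃ m : PSU n F q, orderOf m = N := by
  classical
  obtain ⟨Φ, hΦ⟩ := exists_isometry hF n V h hh hV
  let g' : (Fin n → F) →ₗ[F] (Fin n → F) := Φ.symm.toLinearMap ∘ₗ g ∘ₗ Φ.toLinearMap
  let M : Matrix (Fin n) (Fin n) F := LinearMap.toMatrix' g'
  have hM : ∀ u, M.mulVec u = Φ.symm (g (Φ u)) := fun u => by
    simp [M, g', LinearMap.toMatrix'_mulVec]
  have hP : Preserves q M := by
    intro u v
    rw [hM, hM, ← hΦ, LinearEquiv.apply_symm_apply, LinearEquiv.apply_symm_apply, hg, hΦ]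
  have hdetM : M.det = 1 := by
    have h1 : M.det = LinearMap.det g' := LinearMap.det_toMatrix' g'
    rw [h1]
    have h2 := LinearMap.det_conj g Φ.symm
    have h3 : g' = (Φ.symm : V →ₗ[F] (Fin n → F)) ∘ₗ g ∘ₗ (Φ.symm.symm : (Fin n → F) →ₗ[F] V) := rfl
    rw [h3, h2, hdet]
  have hpow : ∀ (k : ℕ) (u : Fin n → F), (M ^ k).mulVec u = Φ.symm ((g ^ k) (Φ u)) := by
    intro k
    induction k with
    | zero =>
      intro u
      simp
    | succ k ih =>
      intro u
      rw [pow_succ, ← Matrix.mulVec_mulVec, hM, ih, LinearEquiv.apply_symm_apply, pow_succ]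
      rfl
  have hscal : ∀ k : ℕ, (∃ c : F, M ^ k = c • (1 : Matrix (Fin n) (Fin n) F)) ↔ N ∣ k := by
    intro k
    rw [← hN]
    constructor
    · rintro ⟨c, hc⟩
      refine ⟨c, fun x => ?_⟩
      have h1 := hpow k (Φ.symm x)
      rw [hc, LinearEquiv.apply_symm_apply] at h1
      have h2 : (c • (1 : Matrix (Fin n) (Fin n) F)).mulVec (Φ.symm x) = c • Φ.symm x := by
        rw [Matrix.smul_mulVec, Matrix.one_mulVec]
      rw [h2] at h1
      have h3 := congrArg Φ h1
      rw [map_smul, LinearEquiv.apply_symm_apply, LinearEquiv.apply_symm_apply] at h3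
      exact h3.symm
    · rintro ⟨c, hc⟩
      refine ⟨c, ?_⟩
      apply Matrix.toLin'.injective
      ext1 i
      ext j
      simp only [LinearMap.comp_apply]
      rw [Matrix.toLin'_apply, hpow, hc, map_smul, LinearEquiv.symm_apply_apply]
      simp [Pi.single_apply]
  let m : SU n F q := mkSU M hdetM hP
  refine ⟨QuotientGroup.mk m, ?_⟩
  have hiff : ∀ k : ℕ, ((QuotientGroup.mk m : PSU n F q)) ^ k = 1 ↔ N ∣ k := by
    intro k
    rw [mk_pow_eq_one_iff hF, ← hscal]
    simp [m, coe_mkSU]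
  apply Nat.dvd_antisymm
  · exact orderOf_dvd_of_pow_eq_one ((hiff N).2 dvd_rfl)
  · exact (hiff _).1 (pow_orderOf_eq_one _)

/-- Witness given by a matrix on `F^n` with an abstract form. -/
theorem exists_order_matrix (hF : Fintype.card F = q ^ 2) {n : ℕ} {h : (Fin n → F) → (Fin n → F) → F}
    (hh : IsHerm q h) (G : Matrix (Fin n) (Fin n) F)
    (hg : ∀ x y, h (G.mulVec x) (G.mulVec y) = h x y) (hdet : G.det = 1) (N : ℕ)
    (hN : ∀ k : ℕ, (∃ c : F, G ^ k = c • (1 : Matrix (Fin n) (Fin n) F)) ↔ N ∣ k) :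
    ∃ m : PSU n F q, orderOf m = N := by
  classical
  refine exists_order hF (V := Fin n → F) (by simp) hh (Matrix.toLin' G) (fun x y => ?_) ?_ N (fun k => ?_)
  · simpa using hg x y
  · rw [LinearMap.det_toLin', hdet]
  · rw [← hN, ← Matrix.toLin'_pow]
    constructor
    · rintro ⟨c, hc⟩
      refine ⟨c, ?_⟩
      apply Matrix.toLin'.injective
      ext1 i
      ext j
      simp only [LinearMap.comp_apply]
      rw [hc]
      simp [Pi.single_apply]
    · rintro ⟨c, hc⟩
      refine ⟨c, fun x => ?_⟩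
      rw [hc, Matrix.toLin'_apply, Matrix.smul_mulVec, Matrix.one_mulVec]

/-! ### Arithmetic -/

/-- Elements of exact multiplicative order. -/
theorem exists_root_of_unity {E : Type*} [Field E] [Fintype E] {n : ℕ} (hn : n ∣ Fintype.card E - 1) :
    ∃ a : E, a ≠ 0 ∧ ∀ k : ℕ, a ^ k = 1 ↔ n ∣ k := by
  classical
  obtain ⟨g, hg⟩ := IsCyclic.exists_ofOrder_eq_natCard (α := Eˣ)
  have hcard : Nat.card Eˣ = Fintype.card E - 1 := by
    rw [Nat.card_eq_fintype_card, Fintype.card_units]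
  have hpos : 0 < Fintype.card E - 1 := by
    have := Fintype.one_lt_card (α := E)
    omega
  have hn0 : n ≠ 0 := by
    rintro rfl
    have := Nat.eq_zero_of_zero_dvd hn
    omega
  obtain ⟨t, ht⟩ := hn
  have ht0 : t ≠ 0 := by
    rintro rfl
    omega
  have hord : orderOf (g ^ t) = n := by
    rw [orderOf_pow_of_dvd ht0 (by rw [hg, hcard, ht]; exact dvd_mul_left _ _), hg, hcard, ht]
    exact Nat.mul_div_cancel _ (Nat.pos_of_ne_zero ht0)
  refine ⟨((g ^ t : Eˣ) : E), Units.ne_zero _, fun k => ?_⟩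
  rw [← hord, orderOf_dvd_iff_pow_eq_one, ← Units.val_pow_eq_pow_val, Units.val_eq_one]

/-- `n ∣ 3 j` iff `n / (3, n)` divides `j`. -/
theorem dvd_three_mul_iff (n j : ℕ) : n ∣ 3 * j ↔ n / Nat.gcd 3 n ∣ j := by
  have hd : 0 < Nat.gcd 3 n := Nat.gcd_pos_of_pos_left _ (by norm_num)
  have h1 : Nat.gcd 3 n * (n / Nat.gcd 3 n) = n := Nat.mul_div_cancel' (Nat.gcd_dvd_right _ _)
  have h2 : Nat.gcd 3 n * (3 / Nat.gcd 3 n) = 3 := Nat.mul_div_cancel' (Nat.gcd_dvd_left _ _)
  have hco : Nat.Coprime (n / Nat.gcd 3 n) (3 / Nat.gcd 3 n) :=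
    (Nat.coprime_div_gcd_div_gcd hd).symm
  constructor
  · intro h
    have h3 : Nat.gcd 3 n * (n / Nat.gcd 3 n) ∣ Nat.gcd 3 n * ((3 / Nat.gcd 3 n) * j) := by
      rw [h1, ← mul_assoc, h2]
      exact h
    have h4 := Nat.dvd_of_mul_dvd_mul_left hd h3
    exact hco.dvd_of_dvd_mul_left h4
  · rintro ⟨w, rfl⟩
    refine ⟨(3 / Nat.gcd 3 n) * w, ?_⟩
    calc 3 * (n / Nat.gcd 3 n * w) = (Nat.gcd 3 n * (3 / Nat.gcd 3 n)) * (n / Nat.gcd 3 n * w) := by rw [h2]
      _ = (Nat.gcd 3 n * (n / Nat.gcd 3 n)) * ((3 / Nat.gcd 3 n) * w) := by ring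
      _ = n * ((3 / Nat.gcd 3 n) * w) := by rw [h1]

/-- The exponent `(q²-1)/d`. -/
theorem dvd_q2_iff (hq : 2 ≤ q) (k : ℕ) :
    (q ^ 2 - 1 ∣ (q + 1) * k ∧ q ^ 2 - 1 ∣ (q - 2) * k) ↔ (q ^ 2 - 1) / Nat.gcd 3 (q + 1) ∣ k := by
  obtain ⟨r, rfl⟩ : ∃ r, q = r + 2 := ⟨q - 2, by omega⟩
  simp only [Nat.add_sub_cancel]
  have e1 : (r + 2) ^ 2 - 1 = (r + 1) * (r + 2 + 1) := by
    have : (r + 2) ^ 2 = (r + 1) * (r + 2 + 1) + 1 := by ring
    omega
  rw [e1]
  set n := r + 2 + 1 with hn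
  have hd : Nat.gcd 3 n ∣ n := Nat.gcd_dvd_right _ _
  rw [Nat.mul_div_assoc _ hd]
  have hrpos : 0 < r + 1 := by omega
  have hnpos : 0 < n := by omega
  constructor
  · rintro ⟨h1, h2⟩
    have h3 : (r + 1) ∣ k := by
      have : n * (r + 1) ∣ n * k := by rwa [mul_comm n (r + 1)]
      exact Nat.dvd_of_mul_dvd_mul_left hnpos this
    obtain ⟨j, rfl⟩ := h3
    refine mul_dvd_mul_left _ ?_
    rw [← dvd_three_mul_iff]
    have h4 : (r + 1) * n ∣ (r + 1) * (r * j) := by
      rw [show (r + 1) * (r * j) = r * ((r + 1) * j) by ring]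
      exact h2
    have h5 : n ∣ r * j := Nat.dvd_of_mul_dvd_mul_left hrpos h4
    have h6 : r * j + 3 * j = n * j := by rw [hn]; ring
    have h7 : n ∣ r * j + 3 * j := by rw [h6]; exact dvd_mul_right _ _
    exact (Nat.dvd_add_right h5).1 h7
  · rintro ⟨j, rfl⟩
    constructor
    · rw [hn]
      refine ⟨(n / Nat.gcd 3 n) * j, ?_⟩
      ring
    · have hdr : Nat.gcd 3 n ∣ r := by
        have h3 : Nat.gcd 3 n ∣ 3 := Nat.gcd_dvd_left _ _
        have h4 : r + 3 = n := by omega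
        rw [← h4] at hd
        have : Nat.gcd 3 n ∣ r + 3 := by rwa [h4] at hd ⊢
        exact (Nat.dvd_add_left h3).1 this
      obtain ⟨w, hw⟩ := hdr
      have h1 : Nat.gcd 3 n * (n / Nat.gcd 3 n) = n := Nat.mul_div_cancel' hd
      refine ⟨w * j, ?_⟩
      calc r * ((r + 1) * (n / Nat.gcd 3 n) * j)
          = (r + 1) * ((Nat.gcd 3 n * w) * (n / Nat.gcd 3 n)) * j := by
            nth_rewrite 1 [hw]
            ring
        _ = (r + 1) * ((Nat.gcd 3 n * (n / Nat.gcd 3 n)) * w) * j := by ring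
        _ = (r + 1) * n * (w * j) := by rw [h1]; ring

/-! ### The three elementary witnesses -/

/-- The standard form as an `IsHerm`. -/
theorem isHerm_hermForm (hF : Fintype.card F = q ^ 2) (n : ℕ) : IsHerm q (hermForm n F q) where
  add_left := hermForm_add_left n
  smul_left := hermForm_smul_left n
  herm := fun x y => (hermForm_pow_q hF n x y).symm
  nondeg := fun x hx => hermForm_nondegenerate_left hF n x hx

/-- Diagonal matrices: scalar powers. -/
theorem diag_pow_scalar_iff (d : Fin 3 → F) (k : ℕ) :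
    (∃ c : F, (Matrix.diagonal d) ^ k = c • (1 : Matrix (Fin 3) (Fin 3) F)) ↔
      d 0 ^ k = d 1 ^ k ∧ d 0 ^ k = d 2 ^ k := by
  rw [Matrix.diagonal_pow]
  constructor
  · rintro ⟨c, hc⟩
    have h0 := congrFun (congrFun hc 0) 0
    have h1 := congrFun (congrFun hc 1) 1
    have h2 := congrFun (congrFun hc 2) 2
    simp at h0 h1 h2
    exact ⟨h0.trans h1.symm, h0.trans h2.symm⟩
  · rintro ⟨h1, h2⟩
    refine ⟨d 0 ^ k, ?_⟩
    ext i j
    by_cases hij : i = j
    · subst hij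
      fin_cases i <;> simp [← h1, ← h2]
    · simp [hij, Matrix.diagonal_apply_ne]

/-- The element of order `q + 1`. -/
theorem exists_order_succ (hF : Fintype.card F = q ^ 2) : ∃ m : PSU 3 F q, orderOf m = q + 1 := by
  classical
  have hq := two_le_q hF
  have hdv : q + 1 ∣ Fintype.card F - 1 := by
    rw [hF]
    refine ⟨q - 1, ?_⟩
    obtain ⟨r, rfl⟩ : ∃ r, q = r + 1 := ⟨q - 1, by omega⟩
    simp only [Nat.add_sub_cancel]
    have : (r + 1) ^ 2 = (r + 1 + 1) * r + 1 := by ring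
    omega
  obtain ⟨a, ha0, ha⟩ := exists_root_of_unity hdv
  have ha1 : a ^ (q + 1) = 1 := (ha _).2 dvd_rfl
  let d : Fin 3 → F := ![a, a⁻¹, 1]
  refine exists_order_matrix hF (isHerm_hermForm hF 3) (Matrix.diagonal d) ?_ ?_ _ ?_
  · intro x y
    apply preserves_diagonal
    intro k
    fin_cases k
    · simpa [d] using ha1
    · simp [d, ha1]
    · simp [d]
  · simp [Matrix.det_diagonal, Fin.prod_univ_three, d, ha0]
  · intro k
    rw [diag_pow_scalar_iff, ← ha]
    simp only [d, Matrix.cons_val_zero, Matrix.cons_val_one, Matrix.cons_val, one_pow, inv_pow]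
    constructor
    · rintro ⟨-, h⟩
      exact h
    · intro h
      exact ⟨by rw [h, inv_one], h⟩

/-- The hermitian form with Gram matrix `[[0,1,0],[1,0,0],[0,0,1]]`. -/
def hJ (q : ℕ) (u v : Fin 3 → F) : F := u 0 * v 1 ^ q + u 1 * v 0 ^ q + u 2 * v 2 ^ q

theorem isHerm_hJ (hF : Fintype.card F = q ^ 2) : IsHerm q (hJ (F := F) q) where
  add_left := fun x y z => by
    simp only [hJ, Pi.add_apply]
    ring
  smul_left := fun c x y => by
    simp only [hJ, Pi.smul_apply, smul_eq_mul]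
    ring
  herm := fun x y => by
    simp only [hJ]
    rw [pow_q_add hF, pow_q_add hF, mul_pow, mul_pow, mul_pow, pow_q_pow_q hF, pow_q_pow_q hF, pow_q_pow_q hF]
    ring
  nondeg := fun x hx => by
    have hone : (1 : F) ^ q = 1 := one_pow q
    have h0 := hx ![0, 1, 0]
    have h1 := hx ![1, 0, 0]
    have h2 := hx ![0, 0, 1]
    have hz : (0 : F) ^ q = 0 := zero_pow_q hF
    simp [hJ, hz] at h0 h1 h2
    ext i
    fin_cases i
    · exact h0
    · exact h1
    · exact h2

/-- The element of order `(q²-1)/d`. -/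
theorem exists_order_q2 (hF : Fintype.card F = q ^ 2) :
    ∃ m : PSU 3 F q, orderOf m = (q ^ 2 - 1) / Nat.gcd 3 (q + 1) := by
  classical
  have hq := two_le_q hF
  obtain ⟨b, hb0, hb⟩ := exists_root_of_unity (E := F) (n := Fintype.card F - 1) dvd_rfl
  rw [hF] at hb
  have hbq : (b ^ q) ^ q = b := pow_q_pow_q hF b
  have hb1 : b ^ (q ^ 2 - 1) = 1 := (hb _).2 dvd_rfl
  have hq0 : b ^ q ≠ 0 := pow_ne_zero _ hb0
  have hB : (b ^ (q - 1)) ^ (q + 1) = 1 := by
    rw [← pow_mul, ← hb1]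
    congr 1
    obtain ⟨r, rfl⟩ : ∃ r, q = r + 1 := ⟨q - 1, by omega⟩
    simp only [Nat.add_sub_cancel]
    have : (r + 1) ^ 2 = r * (r + 1 + 1) + 1 := by ring
    omega
  have hB2 : b ^ (q - 1) * b = b ^ q := by
    rw [← pow_succ]
    congr 1
    omega
  let d : Fin 3 → F := ![b, (b ^ q)⁻¹, b ^ (q - 1)]
  refine exists_order_matrix hF (isHerm_hJ hF) (Matrix.diagonal d) ?_ ?_ _ ?_
  · intro x y
    simp only [hJ, Matrix.mulVec_diagonal, d, Matrix.cons_val_zero, Matrix.cons_val_one, Matrix.cons_val]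
    rw [mul_pow, mul_pow, mul_pow, inv_pow, hbq]
    have h1 : b ^ (q - 1) * (b ^ (q - 1)) ^ q = 1 := by
      rw [← hB, pow_succ]
      ring
    have h2 : b * b⁻¹ = 1 := mul_inv_cancel₀ hb0
    have h3 : (b ^ q)⁻¹ * b ^ q = 1 := inv_mul_cancel₀ hq0
    linear_combination (x 0 * y 1 ^ q) * h2 + (x 1 * y 0 ^ q) * h3 + (x 2 * y 2 ^ q) * h1
  · simp only [Matrix.det_diagonal, Fin.prod_univ_three, d, Matrix.cons_val_zero, Matrix.cons_val_one,
      Matrix.cons_val]
    field_simp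
    linear_combination hB2
  · intro k
    rw [diag_pow_scalar_iff, ← dvd_q2_iff hq, ← hb, ← hb]
    simp only [d, Matrix.cons_val_zero, Matrix.cons_val_one, Matrix.cons_val, inv_pow]
    have hk0 : b ^ k ≠ 0 := pow_ne_zero _ hb0
    have e1 : b ^ k = ((b ^ q) ^ k)⁻¹ ↔ b ^ ((q + 1) * k) = 1 := by
      rw [show (q + 1) * k = q * k + k by ring, pow_add, pow_mul]
      have hqk : (b ^ q) ^ k ≠ 0 := pow_ne_zero _ hq0
      constructor
      · intro h
        rw [h]
        field_simp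
      · intro h
        field_simp
        linear_combination h
    have e2 : b ^ k = (b ^ (q - 1)) ^ k ↔ b ^ ((q - 2) * k) = 1 := by
      have hexp : (q - 1) * k = (q - 2) * k + k := by
        have : q - 1 = (q - 2) + 1 := by omega
        rw [this]
        ring
      rw [← pow_mul, hexp, pow_add]
      constructor
      · intro h
        have : b ^ ((q - 2) * k) * b ^ k = 1 * b ^ k := by rw [← h, one_mul]
        exact mul_right_cancel₀ hk0 this
      · intro h
        rw [h, one_mul]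
    rw [e1, e2]

/-- The element of order `p(q+1)/d`. -/
theorem exists_order_p {p : ℕ} [Fact p.Prime] [CharP F p] (hF : Fintype.card F = q ^ 2) :
    ∃ m : PSU 3 F q, orderOf m = p * (q + 1) / Nat.gcd 3 (q + 1) := by
  classical
  have hq := two_le_q hF
  have hpp : p.Prime := Fact.out
  have hdv : q + 1 ∣ Fintype.card F - 1 := by
    rw [hF]
    refine ⟨q - 1, ?_⟩
    obtain ⟨r, rfl⟩ : ∃ r, q = r + 1 := ⟨q - 1, by omega⟩
    simp only [Nat.add_sub_cancel]
    have : (r + 1) ^ 2 = (r + 1 + 1) * r + 1 := by ring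
    omega
  obtain ⟨a, ha0, ha⟩ := exists_root_of_unity hdv
  have ha1 : a ^ (q + 1) = 1 := (ha _).2 dvd_rfl
  have haq : a * a ^ q = 1 := by
    rw [← ha1, pow_succ]
    ring
  obtain ⟨τ, hτ0, hτ⟩ : ∃ τ : F, τ ≠ 0 ∧ τ + τ ^ q = 0 := by
    have hsig : ∃ w : F, w ^ q ≠ w := by
      by_contra hc
      push Not at hc
      apply sigma_ne_id hF
      ext x
      exact hc x
    obtain ⟨w, hw⟩ := hsig
    refine ⟨w - w ^ q, sub_ne_zero.2 hw.symm, ?_⟩
    rw [pow_q_sub hF, pow_q_pow_q hF]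
    ring
  let G : Matrix (Fin 3) (Fin 3) F := !![a, a * τ, 0; 0, a, 0; 0, 0, (a ^ 2)⁻¹]
  have hGpow : ∀ k : ℕ, G ^ k = !![a ^ k, (k : F) * a ^ k * τ, 0; 0, a ^ k, 0; 0, 0, ((a ^ 2)⁻¹) ^ k] := by
    intro k
    induction k with
    | zero =>
      ext i j
      fin_cases i <;> fin_cases j <;> simp
    | succ k ih =>
      rw [pow_succ, ih]
      ext i j
      fin_cases i <;> fin_cases j <;> simp [G, Matrix.mul_apply, Fin.sum_univ_three, pow_succ] <;> ring
  have hmain : ∀ k : ℕ, (∃ c : F, G ^ k = c • (1 : Matrix (Fin 3) (Fin 3) F)) ↔ p ∣ k ∧ q + 1 ∣ 3 * k := by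
    intro k
    have hak : a ^ k ≠ 0 := pow_ne_zero _ ha0
    have e : a ^ k = ((a ^ 2)⁻¹) ^ k ↔ a ^ (3 * k) = 1 := by
      have h1 : a ^ (3 * k) = a ^ k * (a ^ 2) ^ k := by
        rw [← pow_mul, ← pow_add]
        congr 1
        ring
      have h2 : (a ^ 2) ^ k ≠ 0 := pow_ne_zero _ (pow_ne_zero _ ha0)
      rw [h1, inv_pow]
      constructor
      · intro h
        rw [h]
        field_simp
      · intro h
        field_simp
        linear_combination h
    rw [hGpow, ← ha, ← e, ← CharP.cast_eq_zero_iff F p]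
    constructor
    · rintro ⟨c, hc⟩
      have h00 := congrFun (congrFun hc 0) 0
      have h01 := congrFun (congrFun hc 0) 1
      have h22 := congrFun (congrFun hc 2) 2
      simp at h00 h01 h22
      refine ⟨?_, ?_⟩
      · rcases h01 with (h | h) | h
        · exact h
        · exact absurd h.1 ha0
        · exact absurd h hτ0
      · rw [h00, ← h22]
        simp
    · rintro ⟨h1, h2⟩
      refine ⟨a ^ k, ?_⟩
      ext i j
      fin_cases i <;> fin_cases j <;> simp [h1, ← h2]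
  refine exists_order_matrix hF (isHerm_hJ hF) G ?_ ?_ _ ?_
  · intro x y
    have hx0 : G.mulVec x 0 = a * x 0 + a * τ * x 1 := by
      simp [G, Matrix.mulVec, dotProduct, Fin.sum_univ_three]
    have hx1 : G.mulVec x 1 = a * x 1 := by
      simp [G, Matrix.mulVec, dotProduct, Fin.sum_univ_three]
    have hx2 : G.mulVec x 2 = (a ^ 2)⁻¹ * x 2 := by
      simp [G, Matrix.mulVec, dotProduct, Fin.sum_univ_three]
    have hy0 : G.mulVec y 0 = a * y 0 + a * τ * y 1 := by
      simp [G, Matrix.mulVec, dotProduct, Fin.sum_univ_three]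
    have hy1 : G.mulVec y 1 = a * y 1 := by
      simp [G, Matrix.mulVec, dotProduct, Fin.sum_univ_three]
    have hy2 : G.mulVec y 2 = (a ^ 2)⁻¹ * y 2 := by
      simp [G, Matrix.mulVec, dotProduct, Fin.sum_univ_three]
    simp only [hJ]
    have e1 : (a * y 1) ^ q = a ^ q * y 1 ^ q := mul_pow _ _ _
    have e2 : (a * y 0 + a * τ * y 1) ^ q = a ^ q * y 0 ^ q + a ^ q * τ ^ q * y 1 ^ q := by
      rw [pow_q_add hF, mul_pow, mul_pow, mul_pow]
    have e3 : ((a ^ 2)⁻¹ * y 2) ^ q = ((a ^ q) ^ 2)⁻¹ * y 2 ^ q := by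
      rw [mul_pow, inv_pow, ← pow_mul, mul_comm 2 q, pow_mul]
    rw [hx0, hx1, hx2, hy0, hy1, hy2, e1, e2, e3]
    have h2 : (a ^ 2)⁻¹ * ((a ^ q) ^ 2)⁻¹ = 1 := by
      rw [← mul_inv, ← mul_pow, haq]
      simp
    linear_combination (x 0 * y 1 ^ q + τ * x 1 * y 1 ^ q + x 1 * (y 0 ^ q + τ ^ q * y 1 ^ q)) * haq +
      (x 2 * y 2 ^ q) * h2 + (x 1 * y 1 ^ q) * hτ
  · simp [G, Matrix.det_fin_three]
    field_simp
  · intro k
    rw [hmain, dvd_three_mul_iff]
    have hcop : Nat.Coprime p ((q + 1) / Nat.gcd 3 (q + 1)) := by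
      have hFp : CharP F p := inferInstance
      obtain ⟨p', m, hp', hc, hqk⟩ := exists_char_pow hF
      have hpe : p' = p := CharP.eq F hc hFp
      rw [hpe] at hqk
      have hm : m ≠ 0 := by
        rintro rfl
        simp at hqk
        omega
      have h1 : Nat.Coprime p (q + 1) := by
        rw [hqk, Nat.Prime.coprime_iff_not_dvd hpp]
        intro hd
        have h2 : p ∣ p ^ m := dvd_pow_self _ hm
        have h3 := (Nat.dvd_add_right h2).1 hd
        exact hpp.one_lt.ne' (Nat.dvd_one.1 h3)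
      exact Nat.Coprime.coprime_dvd_right (Nat.div_dvd_of_dvd (Nat.gcd_dvd_right _ _)) h1
    rw [Nat.mul_div_assoc _ (Nat.gcd_dvd_right 3 (q + 1))]
    constructor
    · rintro ⟨h1, h2⟩
      exact hcop.mul_dvd_of_dvd_of_dvd h1 h2
    · intro h
      exact ⟨(dvd_mul_right _ _).trans h, (dvd_mul_left _ _).trans h⟩

end Cfsg.Agent.Lib.Classical.Herm.SU3Witness
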