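import Mathlib
import Cfsg.Agent.Lib.Classical.Herm.SU3Sylow
import Cfsg.Prelude.Def_LieRecognition

/-!
# A coordinate model for the Sylow `2`-subgroups of `SU₃(2ⁿ)`

`IsSz q A B` says that `x ↦ (A x, B x)` identifies the group `S` with the set of pairs `(a, b)` of
elements of `F` (`|F| = q²`, characteristic `2`) with `b + b^q = a^(q+1)`, under the multiplication
`(a, b) (c, d) = (a + c, b + d + c a^q)`.
-/

set_option autoImplicit false
set_option linter.unusedSectionVars false
set_option linter.unusedSimpArgs false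
set_option linter.unusedVariables false
set_option linter.style.haveILetI false

open scoped Matrix commutatorElement
open Cfsg
open Cfsg.Agent.Lib.Classical.Herm.Basic Cfsg.Agent.Lib.Classical.Herm.Form
open Cfsg.Agent.Lib.Classical.Herm.GU Cfsg.Agent.Lib.Classical.Herm.SU
open Cfsg.Agent.Lib.Classical.Herm.Tv Cfsg.Agent.Lib.Classical.Herm.Comm
open Cfsg.Agent.Lib.Classical.Herm.Subfield
open Cfsg.Agent.Lib.Classical.Herm.Unip Cfsg.Agent.Lib.Classical.Herm.SU3Sylow

namespace Cfsg.Agent.Lib.Classical.Herm.SzModel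

variable {F : Type*} [Field F] [Fintype F] {q : ℕ}

/-- The coordinates of the Sylow `2`-subgroup of `SU₃(q)`, `q` even. -/
structure IsSz (q : ℕ) {S : Type*} [Group S] (A B : S → F) : Prop where
  inj : ∀ x y, A x = A y → B x = B y → x = y
  con : ∀ x, B x + B x ^ q = A x ^ (q + 1)
  surj : ∀ a b, b + b ^ q = a ^ (q + 1) → ∃ x, A x = a ∧ B x = b
  A_mul : ∀ x y, A (x * y) = A x + A y
  B_mul : ∀ x y, B (x * y) = B x + B y + A y * A x ^ q

section Abstract

variable [CharP F 2] {S : Type*} [Group S] {A B : S → F} (h : IsSz q A B)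
  (hF : Fintype.card F = q ^ 2)

theorem add_self' (a : F) : a + a = 0 := CharTwo.add_self_eq_zero a

theorem two_F : (2 : F) = 0 := CharTwo.two_eq_zero

include h

theorem IsSz.A_one : A 1 = 0 := by
  have := h.A_mul 1 1
  rw [mul_one] at this
  simpa using this

theorem IsSz.B_one (hq : q ≠ 0) : B 1 = 0 := by
  have := h.B_mul 1 1
  rw [mul_one, h.A_one, zero_pow hq, mul_zero, add_zero] at this
  simpa using this

theorem IsSz.eq_one_iff (hq : q ≠ 0) {x : S} : x = 1 ↔ A x = 0 ∧ B x = 0 := by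
  constructor
  · rintro rfl
    exact ⟨h.A_one, h.B_one hq⟩
  · rintro ⟨h1, h2⟩
    exact h.inj _ _ (by rw [h1, h.A_one]) (by rw [h2, h.B_one hq])

theorem IsSz.A_inv (x : S) : A x⁻¹ = A x := by
  have h1 := h.A_mul x⁻¹ x
  rw [inv_mul_cancel, h.A_one] at h1
  have h2 : (2 : F) = 0 := two_F
  linear_combination -h1 - A x * h2

theorem IsSz.B_inv (hq : q ≠ 0) (x : S) : B x⁻¹ = B x + A x ^ (q + 1) := by
  have h1 := h.B_mul x⁻¹ x
  rw [inv_mul_cancel, h.B_one hq, h.A_inv] at h1
  have h2 : (2 : F) = 0 := two_F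
  rw [pow_succ]
  linear_combination -h1 - B x * h2 - A x ^ q * A x * h2

theorem IsSz.A_sq (x : S) : A (x * x) = 0 := by
  rw [h.A_mul, add_self']

theorem IsSz.B_sq (x : S) : B (x * x) = A x ^ (q + 1) := by
  rw [h.B_mul, add_self', zero_add, pow_succ, mul_comm]

theorem IsSz.A_pow_succ_eq_zero (hq : q ≠ 0) {x : S} (hx : x * x = 1) : A x = 0 := by
  have h1 := h.B_sq x
  rw [hx, h.B_one hq] at h1
  exact pow_eq_zero_iff (by omega) |>.mp h1.symm

theorem IsSz.sq_eq_one_iff (hq : q ≠ 0) {x : S} : x * x = 1 ↔ A x = 0 := by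
  constructor
  · exact h.A_pow_succ_eq_zero hq
  · intro h1
    rw [h.eq_one_iff hq, h.A_sq, h.B_sq, h1]
    simp

theorem IsSz.comm_iff {x y : S} : x * y = y * x ↔ A y * A x ^ q = A x * A y ^ q := by
  constructor
  · intro h1
    have h2 := congrArg B h1
    rw [h.B_mul, h.B_mul] at h2
    linear_combination h2
  · intro h1
    apply h.inj
    · rw [h.A_mul, h.A_mul, add_comm]
    · rw [h.B_mul, h.B_mul, h1]
      ring

theorem IsSz.fixed_B {x : S} (hx : A x = 0) (hq : q ≠ 0) : B x ^ q = B x := by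
  have h1 := h.con x
  rw [hx, zero_pow (by omega)] at h1
  have h2 : (2 : F) = 0 := two_F
  linear_combination h1 - B x * h2

include hF

theorem IsSz.q_ne_zero_of : q ≠ 0 := by
  have := two_le_q hF
  omega

theorem IsSz.exists_of_fixed {b : F} (hb : b ^ q = b) : ∃ x, A x = 0 ∧ B x = b := by
  have hq := two_le_q hF
  refine h.surj 0 b ?_
  rw [zero_pow (by omega), hb, add_self']

theorem IsSz.exists_A (a : F) : ∃ x, A x = a := by
  obtain ⟨d, hd⟩ := exists_trace_eq hF (norm_pow_q hF a)
  obtain ⟨x, hx, -⟩ := h.surj a d hd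
  exact ⟨x, hx⟩

theorem IsSz.mem_center_iff {x : S} : x ∈ Subgroup.center S ↔ A x = 0 := by
  rw [Subgroup.mem_center_iff]
  constructor
  · intro hc
    obtain ⟨y, hy⟩ := h.exists_A hF 1
    obtain ⟨t, ht⟩ := exists_not_fixed hF
    obtain ⟨z, hz⟩ := h.exists_A hF t
    have h1 := (h.comm_iff).1 (hc y)
    rw [hy, one_pow, mul_one, one_mul] at h1
    have h2 := (h.comm_iff).1 (hc z)
    rw [hz] at h2
    have h3 : A x * (t ^ q - t) = 0 := by
      linear_combination h2 - t * h1
    rcases mul_eq_zero.mp h3 with h4 | h4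
    · exact h4
    · exact absurd (sub_eq_zero.mp h4) ht
  · intro hx y
    symm
    rw [h.comm_iff, hx, zero_pow (two_le_q hF |> fun h => by omega), mul_zero, zero_mul]


theorem IsSz.A_comm (x y : S) : A ⁅x, y⁆ = 0 := by
  rw [commutatorElement_def, h.A_mul, h.A_mul, h.A_mul, h.A_inv, h.A_inv]
  have h2 : (2 : F) = 0 := two_F
  linear_combination (A x + A y) * h2

theorem IsSz.B_comm (x y : S) : B ⁅x, y⁆ = A y * A x ^ q + A x * A y ^ q := by
  have hq := two_le_q hF
  have h0 : ⁅x, y⁆ * (y * x) = x * y := by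
    rw [commutatorElement_def]
    group
  have h1 := congrArg B h0
  rw [h.B_mul, h.A_comm hF, zero_pow (by omega), mul_zero, add_zero, h.B_mul, h.B_mul] at h1
  have h2 : (2 : F) = 0 := two_F
  linear_combination h1 - (A x * A y ^ q) * h2

theorem IsSz.center_eq_commutator : Subgroup.center S = commutator S := by
  have hq := two_le_q hF
  apply le_antisymm
  · intro z hz
    have hz0 := (h.mem_center_iff hF).1 hz
    have hb := h.fixed_B hz0 (by omega)
    obtain ⟨d, hd⟩ := exists_trace_eq hF hb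
    obtain ⟨x, hx⟩ := h.exists_A hF 1
    obtain ⟨y, hy⟩ := h.exists_A hF d
    have hzc : z = ⁅x, y⁆ := by
      apply h.inj
      · rw [hz0, h.A_comm hF]
      · rw [h.B_comm hF, hx, hy, one_pow, mul_one, one_mul, hd]
    rw [hzc, commutator_def]
    exact Subgroup.commutator_mem_commutator (Subgroup.mem_top _) (Subgroup.mem_top _)
  · rw [commutator_def, Subgroup.commutator_le]
    intro x _ y _
    rw [h.mem_center_iff hF]
    exact h.A_comm hF x y

/-- The group embeds in `F × F`. -/
theorem IsSz.finite : Finite S := by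
  apply Finite.of_injective (fun x => (A x, B x))
  intro x y hxy
  exact h.inj x y (congrArg Prod.fst hxy) (congrArg Prod.snd hxy)

theorem IsSz.isPGroup : IsPGroup 2 S := by
  have hq := two_le_q hF
  intro x
  refine ⟨2, ?_⟩
  have h1 : (x * x) * (x * x) = 1 := (h.sq_eq_one_iff (by omega)).2 (h.A_sq x)
  rw [show (2 : ℕ) ^ 2 = 4 by norm_num, show x ^ 4 = (x * x) * (x * x) by simp only [pow_succ, pow_zero, one_mul, mul_assoc]]
  exact h1

/-- The centre is identified with the fixed field. -/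
noncomputable def IsSz.centerEquiv : Subgroup.center S ≃ {b : F // b ^ q = b} :=
  Equiv.ofBijective
    (fun z => ⟨B z.1, h.fixed_B ((h.mem_center_iff hF).1 z.2) (two_le_q hF |> fun h => by omega)⟩)
    (by
      constructor
      · intro x y hxy
        apply Subtype.ext
        apply h.inj
        · rw [(h.mem_center_iff hF).1 x.2, (h.mem_center_iff hF).1 y.2]
        · exact congrArg Subtype.val hxy
      · rintro ⟨b, hb⟩
        obtain ⟨x, hx, hx'⟩ := h.exists_of_fixed hF hb
        exact ⟨⟨x, (h.mem_center_iff hF).2 hx⟩, Subtype.ext hx'⟩)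

theorem IsSz.card_center : Nat.card (Subgroup.center S) = q := by
  rw [Nat.card_congr (h.centerEquiv hF), card_fixed hF]

/-- The first coordinate as a homomorphism. -/
def IsSz.Ahom : S →* Multiplicative F where
  toFun x := Multiplicative.ofAdd (A x)
  map_one' := by rw [h.A_one]; rfl
  map_mul' x y := by rw [h.A_mul]; rfl

theorem IsSz.ker_Ahom : (h.Ahom).ker = Subgroup.center S := by
  ext x
  rw [MonoidHom.mem_ker, h.mem_center_iff hF]
  rfl

theorem IsSz.Ahom_surj : Function.Surjective h.Ahom := by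
  intro a
  obtain ⟨x, hx⟩ := h.exists_A hF (Multiplicative.toAdd a)
  exact ⟨x, by show Multiplicative.ofAdd (A x) = a; rw [hx]; rfl⟩

theorem IsSz.card_quotient : Nat.card (S ⧸ Subgroup.center S) = q ^ 2 := by
  have h1 : S ⧸ h.Ahom.ker ≃* Multiplicative F :=
    QuotientGroup.quotientKerEquivOfSurjective _ (h.Ahom_surj hF)
  rw [← h.ker_Ahom hF, Nat.card_congr h1.toEquiv]
  show Nat.card F = _
  rw [Nat.card_eq_fintype_card, hF]

theorem IsSz.card : Nat.card S = q ^ 3 := by
  have h1 := Subgroup.card_eq_card_quotient_mul_card_subgroup (Subgroup.center S)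
  rw [h.card_quotient hF, h.card_center hF] at h1
  rw [h1]
  ring

theorem IsSz.quot_sq (x : S ⧸ Subgroup.center S) : x ^ 2 = 1 := by
  induction x using QuotientGroup.induction_on with
  | H x =>
    rw [← QuotientGroup.mk_pow, QuotientGroup.eq_one_iff, pow_two, h.mem_center_iff hF]
    exact h.A_sq x

theorem IsSz.mul_self_of_center {z : S} (hz : z ∈ Subgroup.center S) : z * z = 1 :=
  (h.sq_eq_one_iff (two_le_q hF |> fun h => by omega)).2 ((h.mem_center_iff hF).1 hz)

theorem IsSz.center_eq_closure :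
    Subgroup.center S = Subgroup.closure {x : S | orderOf x = 2} := by
  have hq := two_le_q hF
  apply le_antisymm
  · intro z hz
    by_cases hz1 : z = 1
    · rw [hz1]
      exact Subgroup.one_mem _
    · apply Subgroup.subset_closure
      apply orderOf_eq_prime (by rw [pow_two]; exact h.mul_self_of_center hF hz) hz1
  · rw [Subgroup.closure_le]
    intro x hx
    have h1 : x ^ 2 = 1 := by
      have hx' : orderOf x = 2 := hx
      rw [← hx']
      exact pow_orderOf_eq_one x
    rw [pow_two] at h1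
    rw [SetLike.mem_coe, h.mem_center_iff hF]
    exact (h.sq_eq_one_iff (by omega)).1 h1

omit hF h in
/-- Transport along an isomorphism. -/
theorem IsSz.comp {S' : Type*} [Group S'] (h : IsSz q A B) (e : S' ≃* S) :
    IsSz q (fun x => A (e x)) (fun x => B (e x)) where
  inj x y h1 h2 := e.injective (h.inj _ _ h1 h2)
  con x := h.con (e x)
  surj a b hb := by
    obtain ⟨x, hx, hx'⟩ := h.surj a b hb
    exact ⟨e.symm x, by simpa using hx, by simpa using hx'⟩
  A_mul x y := by simp only [map_mul, h.A_mul]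
  B_mul x y := by simp only [map_mul, h.B_mul]

omit hF in
/-- Two models are canonically isomorphic. -/
theorem IsSz.exists_equiv {S' : Type*} [Group S'] {A' B' : S' → F} (h' : IsSz q A' B') :
    ∃ φ : S ≃* S', ∀ x, A' (φ x) = A x ∧ B' (φ x) = B x := by
  have h1 : ∀ x : S, ∃ y : S', A' y = A x ∧ B' y = B x := fun x => h'.surj _ _ (h.con x)
  have h2 : ∀ y : S', ∃ x : S, A x = A' y ∧ B x = B' y := fun y => h.surj _ _ (h'.con y)
  choose f hf using h1
  choose g hg using h2
  refine ⟨{ toFun := f, invFun := g, left_inv := ?_, right_inv := ?_, map_mul' := ?_ }, hf⟩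
  · intro x
    apply h.inj
    · rw [(hg _).1, (hf _).1]
    · rw [(hg _).2, (hf _).2]
  · intro y
    apply h'.inj
    · rw [(hf _).1, (hg _).1]
    · rw [(hf _).2, (hg _).2]
  · intro x y
    apply h'.inj
    · rw [h'.A_mul, (hf _).1, (hf _).1, (hf _).1, h.A_mul]
    · rw [h'.B_mul, (hf _).1, (hf _).1, (hf _).2, (hf _).2, (hf _).2, h.B_mul]

end Abstract

section Model

variable [CharP F 2]

local notation "⟪" x ", " y "⟫" => hermForm _ _ q x y

variable (hF : Fintype.card F = q ^ 2) {e f w : Fin 3 → F} (ht : IsTriple q e f w)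
include hF ht

theorem act_f {g : SU 3 F q} (hg : g ∈ Re q e) :
    act g f = ⟪act g f, f⟫ • e + f + ⟪act g f, w⟫ • w := by
  have h1 := ht.decomp hF (act g f)
  rw [form_act_fixed hg.1, ht.hfe hF, one_smul] at h1
  exact h1

theorem act_w {g : SU 3 F q} (hg : g ∈ Re q e) : act g w = w + ⟪act g f, w⟫ ^ q • e := by
  have hfe := ht.hfe hF
  have hew := ht.hew hF
  have hfw := ht.hfw hF
  obtain ⟨c, hc⟩ := hg.2 w ht.hwe
  have h2 := h_act g w f
  rw [hc, ht.hwf] at h2
  rw [act_f hF ht hg] at h2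
  set a := ⟪act g f, w⟫ with ha
  set b := ⟪act g f, f⟫ with hb
  simp only [hermForm_add_left, hermForm_add_right hF, hermForm_smul_left, hermForm_smul_right,
    ht.he, hew, ht.hwe, ht.hww, ht.hef, ht.hwf] at h2
  have h3 : c = a ^ q := by
    have h4 : (2 : F) = 0 := two_F
    linear_combination h2 - a ^ q * h4 
  rw [hc, h3]

theorem isSz_Re : IsSz q (fun g : Re q e => ⟪act g.1 f, w⟫) (fun g : Re q e => ⟪act g.1 f, f⟫) := by
  have hfe := ht.hfe hF
  have hew := ht.hew hF
  have hfw := ht.hfw hF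
  have hq := two_le_q hF
  refine ⟨?_, ?_, ?_, ?_, ?_⟩
  · rintro ⟨x, hx⟩ ⟨y, hy⟩ h1 h2
    apply Subtype.ext
    apply ext_act
    intro z
    dsimp only at h1 h2
    have h3 : act x f = act y f := by
      rw [act_f hF ht hx, act_f hF ht hy, h1, h2]
    have h4 : act x w = act y w := by
      rw [act_w hF ht hx, act_w hF ht hy, h1]
    conv_lhs => rw [ht.decomp hF z]
    conv_rhs => rw [ht.decomp hF z]
    simp only [act_add, act_smul, hx.1, hy.1, h3, h4]
  · rintro ⟨x, hx⟩
    dsimp only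
    have h1 := h_act x f f
    rw [act_f hF ht hx, ht.hf] at h1
    set a := ⟪act x f, w⟫ with ha
    set b := ⟪act x f, f⟫ with hb
    simp only [hermForm_add_left, hermForm_add_right hF, hermForm_smul_left, hermForm_smul_right,
      ht.he, hew, ht.hwe, ht.hww, ht.hef, ht.hwf, hfe, hfw, ht.hf] at h1
    have h4 : (2 : F) = 0 := two_F
    rw [pow_succ]
    linear_combination h1 - a * a ^ q * h4
  · intro a b hb
    have hwe' : ⟪a • w, e⟫ = 0 := by
      rw [hermForm_smul_left, ht.hwe, mul_zero]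
    have hβ : b + b ^ q + ⟪a • w, a • w⟫ = 0 := by
      rw [hermForm_smul_left, hermForm_smul_right, ht.hww, hb, pow_succ]
      have h4 : (2 : F) = 0 := two_F
      linear_combination a ^ q * a * h4
    have hmem := siegel_mem_Re hF ht.he hwe' hβ
    have hact : act (siegel hF ht.he hwe' hβ) f = f + ((1:F) • (a • w) - (a ^ q * 0) • e + (b * 1) • e) := by
      rw [act_siegel, hfe, hermForm_smul_right, hfw]
    refine ⟨⟨_, hmem⟩, ?_, ?_⟩
    · dsimp only
      rw [hact]
      simp only [hermForm_add_left, hermForm_sub_left, hermForm_smul_left, ht.hww, hew, hfw]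
      ring
    · dsimp only
      rw [hact]
      simp only [hermForm_add_left, hermForm_sub_left, hermForm_smul_left, ht.hwf, ht.hef, ht.hf]
      ring
  · rintro ⟨x, hx⟩ ⟨y, hy⟩
    show ⟪act (x * y) f, w⟫ = ⟪act x f, w⟫ + ⟪act y f, w⟫
    have hxf := act_f hF ht hx
    have hxw := act_w hF ht hx
    have hyf := act_f hF ht hy
    set a := ⟪act x f, w⟫ with ha
    set b := ⟪act x f, f⟫ with hb
    set c := ⟪act y f, w⟫ with hc
    set d := ⟪act y f, f⟫ with hd
    rw [act_mul, hyf, act_add, act_add, act_smul, act_smul, hx.1, hxw, hxf]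
    simp only [hermForm_add_left, hermForm_smul_left, hew, hfw, ht.hww]
    ring
  · rintro ⟨x, hx⟩ ⟨y, hy⟩
    show ⟪act (x * y) f, f⟫ = ⟪act x f, f⟫ + ⟪act y f, f⟫ + ⟪act y f, w⟫ * ⟪act x f, w⟫ ^ q
    have hxf := act_f hF ht hx
    have hxw := act_w hF ht hx
    have hyf := act_f hF ht hy
    set a := ⟪act x f, w⟫ with ha
    set b := ⟪act x f, f⟫ with hb
    set c := ⟪act y f, w⟫ with hc
    set d := ⟪act y f, f⟫ with hd
    rw [act_mul, hyf, act_add, act_add, act_smul, act_smul, hx.1, hxw, hxf]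
    simp only [hermForm_add_left, hermForm_smul_left, ht.hef, ht.hf, ht.hwf]
    ring

end Model

section Transport

theorem charP_two {n : ℕ} (hn : 1 ≤ n) (hF : Fintype.card F = (2 ^ n) ^ 2) : CharP F 2 := by
  obtain ⟨p, k, hp, hc, hk⟩ := exists_char_pow hF
  have h1 : p ∣ 2 ^ n := by
    rw [hk]
    have hk0 : k ≠ 0 := by
      rintro rfl
      have : 2 ≤ 2 ^ n := by
        calc 2 = 2 ^ 1 := rfl
          _ ≤ 2 ^ n := Nat.pow_le_pow_right (by norm_num) hn
      rw [hk] at this
      simp at this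
    exact dvd_pow_self p hk0
  have h2 : p = 2 := (Nat.prime_dvd_prime_iff_eq hp Nat.prime_two).1 (hp.dvd_of_dvd_pow h1)
  rw [← h2]
  exact hc

variable [CharP F 2]

theorem exists_model_SU (hF : Fintype.card F = q ^ 2) (h2 : 2 ∣ q) (U : Sylow 2 (SU 3 F q)) :
    ∃ A B : U → F, IsSz q A B := by
  obtain ⟨e, he0, he, hU⟩ := exists_fixed_iso 2 h2 hF (by norm_num) (U : Subgroup (SU 3 F q)) U.isPGroup'
  have hUe := sylow_eq_Re hF he he0 U hU
  obtain ⟨f, w, ht⟩ := exists_triple hF he he0
  have hm := isSz_Re hF ht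
  exact ⟨_, _, hm.comp (MulEquiv.subgroupCongr hUe)⟩

theorem sylow_inf_center (hF : Fintype.card F = q ^ 2) (U : Sylow 2 (SU 3 F q)) {z : SU 3 F q}
    (hzU : z ∈ (U : Subgroup (SU 3 F q))) (hzc : z ∈ Subgroup.center (SU 3 F q)) : z = 1 := by
  have hfin : Finite (SU 3 F q) := inferInstance
  obtain ⟨k, hk⟩ := U.isPGroup' ⟨z, hzU⟩
  have h1 : z ^ 2 ^ k = 1 := by
    have := congrArg Subtype.val hk
    simpa using this
  have h4 : orderOf z ∣ 2 ^ k := orderOf_dvd_of_pow_eq_one h1
  have h5 : orderOf z ∣ Nat.gcd 3 (q + 1) := by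
    rw [← card_center_SU hF (by norm_num)]
    exact Subgroup.orderOf_dvd_natCard _ hzc
  have h6 : orderOf z ∣ 3 := h5.trans (Nat.gcd_dvd_left _ _)
  have h7 : Nat.Coprime (2 ^ k) 3 := Nat.Coprime.pow_left k (by norm_num)
  have h8 : orderOf z ∣ 1 := by
    have := Nat.dvd_gcd h4 h6
    rwa [h7] at this
  exact orderOf_eq_one_iff.mp (Nat.dvd_one.mp h8)

/-- A Sylow subgroup of `PSU₃` is the isomorphic image of one of `SU₃`. -/
theorem exists_sylow_equiv (hF : Fintype.card F = q ^ 2) (S : Sylow 2 (PSU 3 F q)) :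
    ∃ U : Sylow 2 (SU 3 F q), Nonempty (U ≃* S) := by
  have hπ : Function.Surjective (QuotientGroup.mk' (Subgroup.center (SU 3 F q))) :=
    QuotientGroup.mk'_surjective _
  obtain ⟨U, hU⟩ := Sylow.mapSurjective_surjective hπ 2 S
  refine ⟨U, ?_⟩
  have hS : (S : Subgroup (PSU 3 F q)) = (U : Subgroup (SU 3 F q)).map (QuotientGroup.mk' _) := by
    rw [← hU]
    rfl
  let φ : U →* PSU 3 F q := (QuotientGroup.mk' (Subgroup.center (SU 3 F q))).comp (U : Subgroup (SU 3 F q)).subtype
  have hinj : Function.Injective φ := by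
    rw [injective_iff_map_eq_one]
    rintro ⟨z, hz⟩ h1
    have h2 : z ∈ Subgroup.center (SU 3 F q) := by
      have : (QuotientGroup.mk' (Subgroup.center (SU 3 F q))) z = 1 := h1
      exact (QuotientGroup.eq_one_iff z).mp this
    exact Subtype.ext (sylow_inf_center hF U hz h2)
  have hr : φ.range = (S : Subgroup (PSU 3 F q)) := by
    rw [hS, MonoidHom.range_comp, Subgroup.range_subtype]
  exact ⟨(MonoidHom.ofInjective hinj).trans (MulEquiv.subgroupCongr hr)⟩

theorem exists_model_PSU (hF : Fintype.card F = q ^ 2) (h2 : 2 ∣ q) (S : Sylow 2 (PSU 3 F q)) :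
    ∃ A B : S → F, IsSz q A B := by
  obtain ⟨U, ⟨e⟩⟩ := exists_sylow_equiv hF S
  obtain ⟨A, B, hm⟩ := exists_model_SU hF h2 U
  exact ⟨_, _, hm.comp e.symm⟩

end Transport

/-- The scalars over the fixed field as a subgroup of automorphisms. -/
def scalAut (q : ℕ) {S : Type*} [Group S] (A B : S → F) : Subgroup (MulAut S) where
  carrier := {α | ∃ lam : F, lam ≠ 0 ∧ lam ^ q = lam ∧ ∀ x, A (α x) = lam * A x ∧ B (α x) = lam ^ 2 * B x}
  mul_mem' := by
    rintro a b ⟨l, hl, hl', hla⟩ ⟨m, hm, hm', hlb⟩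
    refine ⟨l * m, mul_ne_zero hl hm, by rw [mul_pow, hl', hm'], fun x => ?_⟩
    rw [MulAut.mul_apply, (hla _).1, (hla _).2, (hlb _).1, (hlb _).2]
    constructor <;> ring
  one_mem' := ⟨1, one_ne_zero, one_pow _, fun x => by simp⟩
  inv_mem' := by
    rintro a ⟨l, hl, hl', hla⟩
    refine ⟨l⁻¹, inv_ne_zero hl, by rw [inv_pow, hl'], fun x => ?_⟩
    have h1 := hla (a⁻¹ x)
    have h2 : a (a⁻¹ x) = x := by simp
    rw [h2] at h1
    constructor
    · rw [h1.1]
      field_simp
    · rw [h1.2]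
      field_simp


section Twist

variable [CharP F 2] {S : Type*} [Group S] {A B : S → F} (h : IsSz q A B)
  (hF : Fintype.card F = q ^ 2)
include h hF

/-- Twisting the model by an element of `ΓL₁`. -/
theorem IsSz.twist {lam : F} (hlam : lam ≠ 0) (τ : F ≃+* F) :
    IsSz q (fun x => lam * τ (A x)) (fun x => lam ^ (q + 1) * τ (B x)) := by
  have hq := two_le_q hF
  have hlam' : lam ^ (q + 1) ≠ 0 := pow_ne_zero _ hlam
  refine ⟨?_, ?_, ?_, ?_, ?_⟩
  · intro x y h1 h2
    apply h.inj
    · exact τ.injective (mul_left_cancel₀ hlam h1)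
    · exact τ.injective (mul_left_cancel₀ hlam' h2)
  · intro x
    rw [mul_pow, norm_pow_q hF, ← map_pow, mul_pow, ← map_pow, ← mul_add, ← map_add, h.con]
  · intro a b hb
    let a' := τ.symm (lam⁻¹ * a)
    let b' := τ.symm ((lam ^ (q + 1))⁻¹ * b)
    have h1 : b' + b' ^ q = a' ^ (q + 1) := by
      apply τ.injective
      simp only [map_add, map_pow, a', b', RingEquiv.apply_symm_apply]
      rw [mul_pow, inv_pow, norm_pow_q hF, mul_pow, inv_pow, ← mul_add, hb]
    obtain ⟨x, hx, hx'⟩ := h.surj a' b' h1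
    refine ⟨x, ?_, ?_⟩
    · simp only [hx, a', RingEquiv.apply_symm_apply]
      rw [mul_inv_cancel_left₀ hlam]
    · simp only [hx', b', RingEquiv.apply_symm_apply]
      rw [mul_inv_cancel_left₀ hlam']
  · intro x y
    simp only [h.A_mul, map_add]
    ring
  · intro x y
    simp only [h.B_mul, map_add, map_mul, map_pow, mul_pow]
    ring

/-- Shearing the model by an additive map into the fixed field. -/
theorem IsSz.shear (φ : F →+ F) (hφ : ∀ a, φ a ^ q = φ a) :
    IsSz q A (fun x => B x + φ (A x)) := by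
  refine ⟨?_, ?_, ?_, h.A_mul, ?_⟩
  · intro x y h1 h2
    apply h.inj _ _ h1
    rw [h1] at h2
    exact add_right_cancel h2
  · intro x
    rw [pow_q_add hF, hφ, add_add_add_comm, add_self', add_zero, h.con]
  · intro a b hb
    have h1 : (b + φ a) + (b + φ a) ^ q = a ^ (q + 1) := by
      rw [pow_q_add hF, hφ, add_add_add_comm, add_self', add_zero, hb]
    obtain ⟨x, hx, hx'⟩ := h.surj a _ h1
    refine ⟨x, hx, ?_⟩
    simp only [hx, hx', add_assoc, add_self', add_zero]
  · intro x y
    simp only [h.A_mul, h.B_mul, map_add]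
    ring

theorem IsSz.exists_gam {lam : F} (hlam : lam ≠ 0) (τ : F ≃+* F) :
    ∃ γ : S ≃* S, ∀ x, A (γ x) = lam * τ (A x) ∧ B (γ x) = lam ^ (q + 1) * τ (B x) :=
  (h.twist hF hlam τ).exists_equiv h

theorem IsSz.exists_shear (φ : F →+ F) (hφ : ∀ a, φ a ^ q = φ a) :
    ∃ γ : S ≃* S, ∀ x, A (γ x) = A x ∧ B (γ x) = B x + φ (A x) :=
  (h.shear hF φ hφ).exists_equiv h

theorem IsSz.isCyclic_scal : IsCyclic (scalAut q A B) := by
  have hfin := h.finite hF
  have hfin2 : Finite (MulAut S) := inferInstance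
  obtain ⟨x₁, hx₁⟩ := h.exists_A hF 1
  let f : scalAut q A B →* F :=
    { toFun := fun α => A (α.1 x₁)
      map_one' := by simp [hx₁]
      map_mul' := by
        rintro ⟨a, l, hl, hl', hla⟩ ⟨b, m, hm, hm', hlb⟩
        show A (a (b x₁)) = A (a x₁) * A (b x₁)
        rw [(hla _).1, (hla _).1, (hlb _).1, hx₁]
        ring }
  apply isCyclic_of_injective_ringHom f
  rintro ⟨a, l, hl, hl', hla⟩ ⟨b, m, hm, hm', hlb⟩ hab
  have h1 : l = m := by
    have h2 : A (a x₁) = A (b x₁) := hab
    rw [(hla _).1, (hlb _).1, hx₁, mul_one, mul_one] at h2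
    exact h2
  apply Subtype.ext
  ext x
  apply h.inj
  · rw [(hla _).1, (hlb _).1, h1]
  · rw [(hla _).2, (hlb _).2, h1]

theorem IsSz.involution_iff {x : S} : x ≠ 1 ∧ x * x = 1 ↔ A x = 0 ∧ B x ≠ 0 := by
  have hq := two_le_q hF
  rw [h.sq_eq_one_iff (by omega)]
  constructor
  · rintro ⟨h1, h2⟩
    refine ⟨h2, fun h3 => h1 ?_⟩
    exact (h.eq_one_iff (by omega)).2 ⟨h2, h3⟩
  · rintro ⟨h1, h2⟩
    refine ⟨fun h3 => h2 ?_, h1⟩
    rw [h3]
    exact h.B_one (by omega)

theorem IsSz.exists_nonfixed_pair : ∃ x y : S, x * y ≠ y * x := by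
  obtain ⟨t, ht⟩ := exists_not_fixed hF
  obtain ⟨x, hx⟩ := h.exists_A hF 1
  obtain ⟨y, hy⟩ := h.exists_A hF t
  refine ⟨x, y, fun h1 => ht ?_⟩
  have h2 := (h.comm_iff).1 h1
  rw [hx, hy, one_pow, mul_one, one_mul] at h2
  exact h2.symm

theorem IsSz.isSuzuki (hq : 4 ≤ q) (hq2 : Even q) : IsSuzukiTwoGroup S := by
  have hfin := h.finite hF
  have hq0 : q ≠ 0 := by omega
  refine ⟨hfin, h.isPGroup hF, h.exists_nonfixed_pair hF, ?_, ?_⟩
  · -- two involutions
    have hcard := card_fixed hF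
    have hex : ∃ t : {x : F // x ^ q = x}, t.1 ≠ 0 ∧ t.1 ≠ 1 := by
      by_contra hcon
      push Not at hcon
      classical
      have h1 : Nat.card {x : F // x ^ q = x} ≤ 2 := by
        have : Function.Injective (fun t : {x : F // x ^ q = x} =>
            (if t.1 = 0 then 0 else 1 : Fin 2)) := by
          intro a b hab
          dsimp only at hab
          apply Subtype.ext
          by_cases ha : a.1 = 0 <;> by_cases hb : b.1 = 0
          · rw [ha, hb]
          · rw [if_pos ha, if_neg hb] at hab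
            exact absurd hab (by decide)
          · rw [if_neg ha, if_pos hb] at hab
            exact absurd hab (by decide)
          · rw [hcon a ha, hcon b hb]
        have h2 := Nat.card_le_card_of_injective _ this
        simpa using h2
      omega
    obtain ⟨⟨t, ht⟩, ht0, ht1⟩ := hex
    obtain ⟨x, hx, hx'⟩ := h.exists_of_fixed hF (b := 1) (one_pow q)
    obtain ⟨y, hy, hy'⟩ := h.exists_of_fixed hF ht
    have hx1 := (h.involution_iff hF).2 ⟨hx, by rw [hx']; exact one_ne_zero⟩
    have hy1 := (h.involution_iff hF).2 ⟨hy, by rw [hy']; exact ht0⟩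
    refine ⟨x, y, ?_, hx1.1, hx1.2, hy1.1, hy1.2⟩
    rintro rfl
    exact ht1 (hy'.symm.trans hx')
  · refine ⟨scalAut q A B, h.isCyclic_scal hF, ?_⟩
    intro x y hx hxx hy hyy
    obtain ⟨hx0, hxb⟩ := (h.involution_iff hF).1 ⟨hx, hxx⟩
    obtain ⟨hy0, hyb⟩ := (h.involution_iff hF).1 ⟨hy, hyy⟩
    have hbx := h.fixed_B hx0 hq0
    have hby := h.fixed_B hy0 hq0
    set t := B y / B x with ht
    have ht0 : t ≠ 0 := div_ne_zero hyb hxb
    have htq : t ^ q = t := by rw [ht, div_pow, hbx, hby]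
    obtain ⟨r, hr⟩ := hq2
    have hr0 : r ≠ 0 := by omega
    set lam := t ^ r with hlamdef
    have hl0 : lam ≠ 0 := pow_ne_zero _ ht0
    have hlq : lam ^ q = lam := by
      rw [hlamdef, ← pow_mul, mul_comm, pow_mul, htq]
    have hl2 : lam ^ 2 = t := by
      rw [hlamdef, ← pow_mul]
      have : r * 2 = q := by omega
      rw [this, htq]
    obtain ⟨γ, hγ⟩ := h.exists_gam hF hl0 (RingEquiv.refl F)
    have hl3 : lam ^ (q + 1) = lam ^ 2 := by
      rw [pow_succ, hlq, pow_two]
    have hmem : γ ∈ scalAut q A B := by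
      refine ⟨lam, hl0, hlq, fun z => ?_⟩
      have := hγ z
      rw [hl3] at this
      simpa using this
    refine ⟨⟨γ, hmem⟩, ?_, ?_⟩
    · show γ x = y
      have h1 := hγ x
      apply h.inj
      · rw [h1.1, hx0, hy0]
        simp
      · rw [h1.2, hl3, hl2, ht]
        simp only [RingEquiv.refl_apply]
        field_simp
    · rintro ⟨k, l, hl, hl', hla⟩ hk
      have hk' : k x = y := hk
      have h1 := (hla x).2
      rw [hk'] at h1
      have h2 : l ^ 2 = lam ^ 2 := by
        rw [hl2, ht, h1]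
        field_simp
      have h3 : l = lam := by
        have h4 : (l - lam) ^ 2 = 0 := by
          have h5 : (2 : F) = 0 := two_F
          linear_combination h2 + (lam ^ 2 - l * lam) * h5
        exact sub_eq_zero.mp (pow_eq_zero_iff (by norm_num) |>.mp h4)
      apply Subtype.ext
      ext z
      apply h.inj
      · rw [(hla z).1, (hγ z).1, h3]
        simp
      · rw [(hla z).2, (hγ z).2, h3, hl3]
        simp

end Twist

end Cfsg.Agent.Lib.Classical.Herm.SzModel
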