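import Mathlib
import Cfsg.Agent.Lib.Classical.Herm.SzModel
import Cfsg.Agent.Lib.Classical.Herm.AutStruct
import Cfsg.Agent.Lib.Classical.Herm.PSLGraphField

/-!
# Automorphisms of the Sylow `2`-subgroups of `SU₃(2ⁿ)`

Every automorphism acts on the first coordinate as an element of `ΓL₁(F)`.
-/

set_option autoImplicit false
set_option linter.unusedSectionVars false
set_option linter.unusedSimpArgs false
set_option linter.unusedVariables false
set_option linter.style.haveILetI false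

open Cfsg
open Cfsg.Agent.Lib.Classical.Herm.Basic
open Cfsg.Agent.Lib.Classical.Herm.Tv
open Cfsg.Agent.Lib.Classical.Herm.Unip
open Cfsg.Agent.Lib.Classical.Herm.SzModel
open Cfsg.Agent.Lib.Classical.Herm.SU3Sylow

namespace Cfsg.Agent.Lib.Classical.Herm.SzAut

variable {F : Type*} [Field F] [Fintype F] {q : ℕ} [CharP F 2]

section Semi

variable (hF : Fintype.card F = q ^ 2)
include hF

theorem norm_add' (a c : F) :
    (a + c) ^ (q + 1) = a ^ (q + 1) + c ^ (q + 1) + (a * c ^ q + c * a ^ q) := by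
  rw [pow_succ, pow_q_add hF, pow_succ, pow_succ]
  ring

theorem polar_fixed (a c : F) : (a * c ^ q + c * a ^ q) ^ q = a * c ^ q + c * a ^ q := by
  rw [pow_q_add hF, mul_pow, mul_pow, pow_q_pow_q hF, pow_q_pow_q hF]
  ring

theorem ratio_fixed {a c : F} (ha : a ≠ 0) (h : a * c ^ q + c * a ^ q = 0) : (c / a) ^ q = c / a := by
  have hq := two_le_q hF
  have haq : a ^ q ≠ 0 := pow_ne_zero _ ha
  rw [div_pow, div_eq_div_iff haq ha]
  have h2 : (2 : F) = 0 := two_F
  linear_combination h - c * a ^ q * h2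

theorem eq_of_fixed_indep {r s w : F} (hr : r ^ q = r) (hs : s ^ q = s) (hw : w ^ q ≠ w)
    (h : r + s * w = 0) : r = 0 ∧ s = 0 := by
  have h1 : (r + s * w) ^ q = 0 := by
    rw [h]
    exact zero_pow_q hF
  rw [pow_q_add hF, mul_pow, hr, hs] at h1
  have h2 : s * (w ^ q - w) = 0 := by linear_combination h1 - h
  have hs0 : s = 0 := by
    rcases mul_eq_zero.mp h2 with h3 | h3
    · exact h3
    · exact absurd (sub_eq_zero.mp h3) hw
  refine ⟨?_, hs0⟩
  rw [hs0, zero_mul, add_zero] at h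
  exact h

end Semi

/-- A semisimilarity of the norm form of `F` over the fixed field. -/
structure IsSemi (q : ℕ) (f : F →+ F) (g : F → F) : Prop where
  finj : Function.Injective f
  gadd : ∀ b d, b ^ q = b → d ^ q = d → g (b + d) = g b + g d
  ginj : ∀ b, b ^ q = b → g b = 0 → b = 0
  gnorm : ∀ a, f a ^ (q + 1) = g (a ^ (q + 1))

section IsSemi

variable (hF : Fintype.card F = q ^ 2) {f : F →+ F} {g : F → F} (hs : IsSemi q f g)
include hF hs

theorem IsSemi.g_zero : g 0 = 0 := by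
  have h := hs.gnorm 0
  rw [map_zero, zero_pow (by omega)] at h
  exact h.symm

theorem IsSemi.polar (a c : F) :
    g (a * c ^ q + c * a ^ q) = f a * f c ^ q + f c * f a ^ q := by
  have h1 := hs.gnorm (a + c)
  rw [map_add, norm_add' hF, norm_add' hF,
    hs.gadd _ _ (by rw [pow_q_add hF, norm_pow_q hF, norm_pow_q hF]) (polar_fixed hF a c),
    hs.gadd _ _ (norm_pow_q hF a) (norm_pow_q hF c), ← hs.gnorm, ← hs.gnorm] at h1
  exact (add_left_cancel h1).symm

theorem IsSemi.ratio {u t : F} (hu : u ≠ 0) (ht : t ^ q = t) :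
    (f (t * u) / f u) ^ q = f (t * u) / f u := by
  have hfu : f u ≠ 0 := fun h0 => hu (hs.finj (by rw [h0, map_zero]))
  apply ratio_fixed hF hfu
  rw [← hs.polar hF]
  have h0 : u * (t * u) ^ q + t * u * u ^ q = 0 := by
    rw [mul_pow, ht]
    have h2 : (2 : F) = 0 := two_F
    linear_combination (t * u * u ^ q) * h2
  rw [h0, hs.g_zero hF]

variable (h1 : f 1 = 1)
include h1

theorem IsSemi.g_one_of : g 1 = 1 := by
  have h := hs.gnorm 1
  rw [h1, one_pow] at h
  exact h.symm

theorem IsSemi.nonfixed {u : F} (hu : u ^ q ≠ u) : f u ^ q ≠ f u := by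
  intro hw
  have h2 : g (1 * u ^ q + u * 1 ^ q) = 0 := by
    rw [hs.polar hF, h1, one_pow, one_mul, mul_one, hw, add_self']
  have h3 := hs.ginj _ (polar_fixed hF 1 u) h2
  rw [one_pow, one_mul, mul_one] at h3
  have h4 : (2 : F) = 0 := two_F
  exact hu (by linear_combination h3 - u * h4)

theorem IsSemi.f_fixed {t : F} (ht : t ^ q = t) : f t ^ q = f t := by
  have h := hs.ratio hF (u := 1) one_ne_zero ht
  rwa [mul_one, h1, div_one] at h

theorem IsSemi.mul_nonfixed {t u : F} (ht : t ^ q = t) (hu : u ^ q ≠ u) : f (t * u) = f t * f u := by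
  have hq := two_le_q hF
  have hu0 : u ≠ 0 := by
    rintro rfl
    exact hu (zero_pow_q hF)
  have h1u : 1 + u ≠ 0 := by
    intro h0
    have h5 : u = 1 := by
      have h4 : (2 : F) = 0 := two_F
      linear_combination h0 - h4
    rw [h5, one_pow] at hu
    exact hu rfl
  have hw := hs.nonfixed hF h1 hu
  have hw0 : f u ≠ 0 := fun h0 => hu0 (hs.finj (by rw [h0, map_zero]))
  have hw1 : 1 + f u ≠ 0 := by
    intro h0
    have := hs.finj (a₁ := 1 + u) (a₂ := 0) (by rw [map_add, h1, map_zero, h0])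
    exact h1u this
  have hm := hs.ratio hF hu0 ht
  have hm' := hs.ratio hF h1u ht
  have hft := hs.f_fixed hF h1 ht
  rw [map_add, h1] at hm'
  set m := f (t * u) / f u with hmd
  set m' := f (t * (1 + u)) / (1 + f u) with hm'd
  have e1 : f (t * u) = m * f u := by rw [hmd]; field_simp
  have e2 : f (t * (1 + u)) = m' * (1 + f u) := by rw [hm'd]; field_simp
  have e3 : f (t * (1 + u)) = f t + f (t * u) := by
    rw [mul_add, mul_one, map_add]
  have e4 : (m' + f t) + (m' + m) * f u = 0 := by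
    have h2 : (2 : F) = 0 := two_F
    linear_combination e2.symm.trans e3 + e1 + (f t + m * f u) * h2
  have hf1 : (m' + f t) ^ q = m' + f t := by rw [pow_q_add hF, hm', hft]
  have hf2 : (m' + m) ^ q = m' + m := by rw [pow_q_add hF, hm', hm]
  obtain ⟨h5, h6⟩ := eq_of_fixed_indep hF hf1 hf2 hw e4
  have h7 : m = f t := by
    linear_combination h6 - h5
  rw [e1, h7]

theorem IsSemi.mul_of_fixed {t u : F} (ht : t ^ q = t) : f (t * u) = f t * f u := by
  by_cases hu : u ^ q = u
  · by_cases hu0 : u = 0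
    · rw [hu0, mul_zero, map_zero, mul_zero]
    obtain ⟨θ, hθ⟩ := exists_not_fixed hF
    have hfθ : f θ ≠ 0 := by
      intro h0
      have h2 := hs.nonfixed hF h1 hθ
      rw [h0, zero_pow_q hF] at h2
      exact h2 rfl
    have huθ : (u * θ) ^ q ≠ u * θ := by
      intro h0
      rw [mul_pow, hu] at h0
      exact hθ (mul_left_cancel₀ hu0 h0)
    have h2 := hs.mul_nonfixed hF h1 ht huθ
    have h3 := hs.mul_nonfixed hF h1 (t := t * u) (by rw [mul_pow, ht, hu]) hθ
    have h4 := hs.mul_nonfixed hF h1 hu hθ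
    rw [← mul_assoc, h3, h4, ← mul_assoc] at h2
    exact mul_right_cancel₀ hfθ h2
  · exact hs.mul_nonfixed hF h1 ht hu

theorem IsSemi.g_eq {t : F} (ht : t ^ q = t) : g t = f t := by
  -- `t` is a square of a fixed element
  obtain ⟨r, hr⟩ : ∃ r : F, r ^ 2 = t := by
    obtain ⟨r, hr⟩ := Finite.surjective_of_injective (frobenius_inj F 2) t
    exact ⟨r, hr⟩
  have hrq : r ^ q = r := by
    have h5 : (r ^ q - r) ^ 2 = 0 := by
      have e : (r ^ q) ^ 2 = t := by rw [← pow_mul, mul_comm, pow_mul, hr, ht]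
      have h2 : (2 : F) = 0 := two_F
      linear_combination e + hr + (t - r ^ q * r) * h2
    exact sub_eq_zero.mp (pow_eq_zero_iff (by norm_num) |>.mp h5)
  have h2 := hs.gnorm r
  have h3 : r ^ (q + 1) = t := by rw [pow_succ, hrq, ← pow_two, hr]
  rw [h3] at h2
  rw [← h2, pow_succ, hs.f_fixed hF h1 hrq, ← hr, pow_two, hs.mul_of_fixed hF h1 hrq]

theorem IsSemi.f_pow_q (a : F) : f (a ^ q) = f a ^ q := by
  have h2 := hs.polar hF a 1
  rw [one_pow, mul_one, one_mul, h1, one_pow, mul_one, one_mul, hs.g_eq hF h1 (by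
    rw [pow_q_add hF, pow_q_pow_q hF, add_comm]), map_add] at h2
  exact add_left_cancel h2

theorem IsSemi.f_norm (a : F) : f (a ^ (q + 1)) = f a ^ (q + 1) := by
  rw [hs.gnorm, hs.g_eq hF h1 (norm_pow_q hF a)]

theorem IsSemi.map_mul' (a c : F) : f (a * c) = f a * f c := by
  obtain ⟨θ, hθ⟩ := exists_not_fixed hF
  have hsep : θ + θ ^ q ≠ 0 := by
    intro h0
    have h2 : (2 : F) = 0 := two_F
    exact hθ (by linear_combination h0 - θ * h2)
  have hsepq : (θ + θ ^ q) ^ q = θ + θ ^ q := by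
    rw [pow_q_add hF, pow_q_pow_q hF, add_comm]
  -- decomposition
  have hdec : ∀ x : F, ∃ s v : F, s ^ q = s ∧ v ^ q = v ∧ x = s + v * θ := by
    intro x
    obtain ⟨v, hv⟩ : ∃ v, v = (x + x ^ q) / (θ + θ ^ q) := ⟨_, rfl⟩
    have e0 : v * (θ + θ ^ q) = x + x ^ q := by
      rw [hv, div_mul_cancel₀ _ hsep]
    have hvq : v ^ q = v := by
      rw [hv, div_pow, hsepq, pow_q_add hF, pow_q_pow_q hF, add_comm (x ^ q)]
    have h2 : (2 : F) = 0 := two_F
    refine ⟨x + v * θ, v, ?_, hvq, ?_⟩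
    · rw [pow_q_add hF, mul_pow, hvq]
      linear_combination e0 + (x ^ q - v * θ) * h2
    · linear_combination (-(v * θ)) * h2
  -- key identity for θ
  have hθ2 : θ * θ = (θ + θ ^ q) * θ + θ ^ (q + 1) := by
    have h2 : (2 : F) = 0 := two_F
    rw [pow_succ]
    linear_combination (-(θ ^ q * θ)) * h2
  have hfθ2 : f θ * f θ = f (θ + θ ^ q) * f θ + f (θ ^ (q + 1)) := by
    rw [map_add, hs.f_pow_q hF h1, hs.f_norm hF h1, pow_succ]
    have h2 : (2 : F) = 0 := two_F
    linear_combination (-(f θ ^ q * f θ)) * h2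
  have hfix := fun {t u : F} (ht : t ^ q = t) => hs.mul_of_fixed hF h1 (t := t) (u := u) ht
  have hTfix : (θ + θ ^ q) ^ q = θ + θ ^ q := hsepq
  have hDfix : (θ ^ (q + 1)) ^ q = θ ^ (q + 1) := norm_pow_q hF θ
  -- multiplicativity against θ
  have hmulθ : ∀ x : F, f (θ * x) = f θ * f x := by
    intro x
    obtain ⟨s, v, hsq, hvq, rfl⟩ := hdec x
    have e1 : θ * (s + v * θ) = (s + v * (θ + θ ^ q)) * θ + v * θ ^ (q + 1) := by
      linear_combination v * hθ2
    have hsv : (s + v * (θ + θ ^ q)) ^ q = s + v * (θ + θ ^ q) := by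
      rw [pow_q_add hF, mul_pow, hsq, hvq, hTfix]
    have e2 : f ((s + v * (θ + θ ^ q)) * θ + v * θ ^ (q + 1)) =
        (f s + f v * f (θ + θ ^ q)) * f θ + f v * f (θ ^ (q + 1)) := by
      rw [map_add, hfix hsv, hfix hvq, map_add, hfix hvq]
    have e3 : f (s + v * θ) = f s + f v * f θ := by
      rw [map_add, hfix hvq]
    rw [e1, e2, e3]
    linear_combination (-(f v)) * hfθ2
  obtain ⟨s, v, hsq, hvq, rfl⟩ := hdec c
  have e1 : a * (s + v * θ) = s * a + v * (θ * a) := by ring
  rw [e1, map_add, hfix hsq, hfix hvq, hmulθ, map_add, hfix hvq]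
  ring

theorem IsSemi.exists_ringEquiv :
    ∃ τ : F ≃+* F, (∀ a, f a = τ a) ∧ ∀ b, b ^ q = b → g b = τ b := by
  let r : F →+* F :=
    { toFun := f
      map_one' := h1
      map_mul' := hs.map_mul' hF h1
      map_zero' := map_zero f
      map_add' := map_add f }
  have hr : Function.Bijective r := Finite.injective_iff_bijective.mp hs.finj
  refine ⟨RingEquiv.ofBijective r hr, fun a => rfl, fun b hb => ?_⟩
  exact hs.g_eq hF h1 hb

omit h1

theorem IsSemi.normalize :
    ∃ lam : F, lam ≠ 0 ∧ ∃ τ : F ≃+* F, (∀ a, f a = lam * τ a) ∧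
      ∀ b, b ^ q = b → g b = lam ^ (q + 1) * τ b := by
  have hq := two_le_q hF
  set lam := f 1 with hlam
  have hl0 : lam ≠ 0 := fun h0 => one_ne_zero (hs.finj (by rw [← hlam, h0, map_zero]))
  have hl1 : lam ^ (q + 1) ≠ 0 := pow_ne_zero _ hl0
  let f1 : F →+ F := (AddMonoidHom.mulLeft lam⁻¹).comp f
  let g1 : F → F := fun b => (lam ^ (q + 1))⁻¹ * g b
  have hf1 : ∀ a, f1 a = lam⁻¹ * f a := fun a => rfl
  have hs1 : IsSemi q f1 g1 := by
    refine ⟨?_, ?_, ?_, ?_⟩
    · intro a c hac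
      rw [hf1, hf1] at hac
      exact hs.finj (mul_left_cancel₀ (inv_ne_zero hl0) hac)
    · intro b d hb hd
      simp only [g1]
      rw [hs.gadd b d hb hd]
      ring
    · intro b hb h0
      simp only [g1] at h0
      rcases mul_eq_zero.mp h0 with h2 | h2
      · exact absurd h2 (inv_ne_zero hl1)
      · exact hs.ginj b hb h2
    · intro a
      simp only [g1]
      rw [hf1, mul_pow, inv_pow, hs.gnorm a]
  have h11 : f1 1 = 1 := by
    rw [hf1, ← hlam, inv_mul_cancel₀ hl0]
  obtain ⟨τ, hτ, hτ'⟩ := hs1.exists_ringEquiv hF h11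
  refine ⟨lam, hl0, τ, fun a => ?_, fun b hb => ?_⟩
  · rw [← hτ, hf1, mul_inv_cancel_left₀ hl0]
  · rw [← hτ' b hb]
    simp only [g1]
    rw [mul_inv_cancel_left₀ hl1]

end IsSemi

section Main

variable {S : Type*} [Group S] {A B : S → F} (h : IsSz q A B) (hF : Fintype.card F = q ^ 2)
  (α : S ≃* S)
include h hF

theorem A_center_map {z : S} (hz : A z = 0) : A (α z) = 0 := by
  rw [← h.mem_center_iff hF, Subgroup.mem_center_iff]
  intro g
  have h1 := ((h.mem_center_iff hF).2 hz)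
  rw [Subgroup.mem_center_iff] at h1
  have h2 := h1 (α.symm g)
  have h3 := congrArg α h2
  simpa using h3

theorem A_congr {x y : S} (hxy : A x = A y) : A (α x) = A (α y) := by
  have h1 : A (x⁻¹ * y) = 0 := by
    rw [h.A_mul, h.A_inv, hxy, add_self']
  have h2 := A_center_map h hF α h1
  rw [map_mul, map_inv, h.A_mul, h.A_inv] at h2
  have h4 : (2 : F) = 0 := two_F
  linear_combination h2 - A (α y) * h4

theorem exists_gammaL :
    ∃ lam : F, lam ≠ 0 ∧ ∃ τ : F ≃+* F, (∀ x, A (α x) = lam * τ (A x)) ∧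
      ∀ z, A z = 0 → B (α z) = lam ^ (q + 1) * τ (B z) := by
  have hq := two_le_q hF
  have hq0 : q ≠ 0 := by omega
  choose X hX using h.exists_A hF
  have hZ : ∀ b : F, ∃ z : S, A z = 0 ∧ (b ^ q = b → B z = b) := by
    intro b
    by_cases hb : b ^ q = b
    · obtain ⟨z, hz, hz'⟩ := h.exists_of_fixed hF hb
      exact ⟨z, hz, fun _ => hz'⟩
    · exact ⟨1, h.A_one, fun h1 => absurd h1 hb⟩
  choose Z hZ hZ' using hZ
  let f : F →+ F := AddMonoidHom.mk' (fun a => A (α (X a))) (by
    intro a c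
    rw [← h.A_mul, ← map_mul]
    apply A_congr h hF
    rw [h.A_mul, hX, hX, hX])
  have hf : ∀ x, f (A x) = A (α x) := by
    intro x
    show A (α (X (A x))) = A (α x)
    apply A_congr h hF
    rw [hX]
  let g : F → F := fun b => B (α (Z b))
  have hg : ∀ z, A z = 0 → g (B z) = B (α z) := by
    intro z hz
    show B (α (Z (B z))) = B (α z)
    congr 2
    apply h.inj
    · rw [hZ, hz]
    · rw [hZ' _ (h.fixed_B hz hq0)]
  have hs : IsSemi q f g := by
    refine ⟨?_, ?_, ?_, ?_⟩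
    · intro a c hac
      obtain ⟨x, rfl⟩ := h.exists_A hF a
      obtain ⟨y, rfl⟩ := h.exists_A hF c
      rw [hf, hf] at hac
      have h1 := A_congr h hF α.symm hac
      simpa using h1
    · intro b d hb hd
      have h1 : A (Z b * Z d) = 0 := by rw [h.A_mul, hZ, hZ, add_zero]
      have h2 : B (Z b * Z d) = b + d := by
        rw [h.B_mul, hZ' b hb, hZ' d hd, hZ d, zero_mul, add_zero]
      have h3 := hg _ h1
      rw [h2, map_mul, h.B_mul, A_center_map h hF α (hZ d), zero_mul, add_zero] at h3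
      exact h3
    · intro b hb h0
      have h1 : α (Z b) = 1 := (h.eq_one_iff hq0).2 ⟨A_center_map h hF α (hZ b), h0⟩
      have h2 : Z b = 1 := by simpa using h1
      have h3 := hZ' b hb
      rw [h2, h.B_one hq0] at h3
      exact h3.symm
    · intro a
      have h1 := hg _ (h.A_sq (X a))
      rw [h.B_sq, hX, map_mul, h.B_sq] at h1
      rw [h1, ← hf, hX]
  obtain ⟨lam, hl, τ, hτ, hτ'⟩ := hs.normalize hF
  refine ⟨lam, hl, τ, fun x => ?_, fun z hz => ?_⟩
  · rw [← hf, hτ]
  · rw [← hg z hz, hτ' _ (h.fixed_B hz hq0)]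

end Main

end Cfsg.Agent.Lib.Classical.Herm.SzAut
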