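import Mathlib
import Cfsg.Agent.Lib.Classical.Herm.SzAut

/-!
# Consequences of the `ΓL₁` description of automorphisms
-/

set_option autoImplicit false
set_option linter.unusedSectionVars false
set_option linter.unusedSimpArgs false
set_option linter.unusedVariables false
set_option linter.style.haveILetI false

open Cfsg
open Cfsg.Agent.Lib.Classical.Herm.Basic
open Cfsg.Agent.Lib.Classical.Herm.Tv
open Cfsg.Agent.Lib.Classical.Herm.Unip
open Cfsg.Agent.Lib.Classical.Herm.SzModel
open Cfsg.Agent.Lib.Classical.Herm.SzAut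
open Cfsg.Agent.Lib.Classical.Herm.SU3Sylow
open Cfsg.Agent.Lib.Classical.Herm.PSLGraphField

namespace Cfsg.Agent.Lib.Classical.Herm.SzAutGroup

variable {F : Type*} [Field F] [Fintype F] {q : ℕ} [CharP F 2]

/-- A ring automorphism of `F` of order at most two fixes the subfield of order `√|F|`. -/
theorem ringAut_fix {n : ℕ} (hn : 1 ≤ n) (hF : Fintype.card F = (2 ^ n) ^ 2) (τ : F ≃+* F)
    (hτ : ∀ a, τ (τ a) = a) {b : F} (hb : b ^ 2 ^ n = b) : τ b = b := by
  by_cases h1 : τ = 1
  · rw [h1]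
    rfl
  have h2 : τ ^ 2 = 1 := by
    ext a
    exact hτ a
  have hF' : Fintype.card F = 2 ^ (2 * n) := by rw [hF, ← pow_mul, mul_comm]
  obtain ⟨-, hF₀, hσ⟩ := involution_eq hF' (by omega) τ h1 h2
  rw [hσ, sigE_apply]
  have h3 : 2 * n / 2 = n := by omega
  rw [h3]
  exact hb

variable {S : Type*} [Group S] {A B : S → F} (h : IsSz q A B) (hF : Fintype.card F = q ^ 2)
include h hF

theorem A_conj (x y : S) : A (y * x * y⁻¹) = A x := by
  rw [h.A_mul, h.A_mul, h.A_inv]
  have h4 : (2 : F) = 0 := two_F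
  linear_combination A y * h4

/-- An automorphism whose square is inner fixes the centre pointwise. -/
theorem fix_center_of_sq_inner {n : ℕ} (hn : 1 ≤ n) (hq : q = 2 ^ n) (α : S ≃* S) (y : S)
    (hα : ∀ x, α (α x) = y * x * y⁻¹) {z : S} (hz : A z = 0) : α z = z := by
  subst hq
  have hq2 := two_le_q hF
  have hq0 : 2 ^ n ≠ 0 := by omega
  obtain ⟨lam, hl, τ, hτ, hτ'⟩ := exists_gammaL h hF α
  obtain ⟨x₁, hx₁⟩ := h.exists_A hF 1
  have h1 : ∀ x, lam * (τ lam * τ (τ (A x))) = A x := by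
    intro x
    have h2 := hτ (α x)
    rw [hα, A_conj h hF, hτ, map_mul] at h2
    exact h2.symm
  have h2 : lam * τ lam = 1 := by
    have h3 := h1 x₁
    rw [hx₁, map_one, map_one, mul_one] at h3
    exact h3
  have h3 : ∀ a, τ (τ a) = a := by
    intro a
    obtain ⟨x, rfl⟩ := h.exists_A hF a
    have h4 := h1 x
    rw [← mul_assoc, h2, one_mul] at h4
    exact h4
  have hfix : ∀ {b : F}, b ^ 2 ^ n = b → τ b = b := fun hb => ringAut_fix hn hF τ h3 hb
  set N := lam ^ (2 ^ n + 1) with hN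
  have hNfix : N ^ 2 ^ n = N := norm_pow_q hF lam
  have hN1 : N = 1 := by
    obtain ⟨w, hw, hw'⟩ := h.exists_of_fixed hF (b := 1) (one_pow _)
    have hc : y * w * y⁻¹ = w := by
      have h5 := (h.mem_center_iff hF).2 hw
      rw [Subgroup.mem_center_iff] at h5
      rw [h5 y, mul_inv_cancel_right]
    have h6 : α (α w) = w := by rw [hα, hc]
    have h7 := hτ' (α w) (A_center_map h hF α hw)
    rw [h6, hτ' w hw, hw', map_mul, hfix hNfix, map_one, map_one, mul_one] at h7
    have h8 : (N - 1) ^ 2 = 0 := by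
      have h9 : (2 : F) = 0 := two_F
      linear_combination -h7 + (1 - N) * h9
    exact sub_eq_zero.mp (pow_eq_zero_iff (by norm_num) |>.mp h8)
  apply h.inj
  · rw [A_center_map h hF α hz, hz]
  · rw [hτ' z hz, hN1, one_mul, hfix (h.fixed_B hz hq0)]

/-- In the case `q = 4`, the automorphism group has no subgroup `S₃`. -/
theorem no_s3 (hq : q = 4) (s t : S ≃* S) (hs : ∀ x, s (s x) = x) (ht : ∀ x, t (t (t x)) = x)
    (ht1 : ∃ x, t x ≠ x) (hst : ∀ x, t (s (t x)) = s x) : False := by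
  subst hq
  have hF4 : Fintype.card F = 2 ^ 4 := by rw [hF]; norm_num
  obtain ⟨lam, hl, τ, hτ, hτ'⟩ := exists_gammaL h hF t
  obtain ⟨mu, hm, σ, hσ, hσ'⟩ := exists_gammaL h hF s
  obtain ⟨x₁, hx₁⟩ := h.exists_A hF 1
  have hcard : Nat.card (F ≃+* F) = 4 := Cfsg.Agent.Lib.Classical.Herm.AutStruct.card_ringAut 2 4 hF4
  have h1 : ∀ x, lam * (τ lam * (τ (τ lam) * τ (τ (τ (A x))))) = A x := by
    intro x
    have h2 := hτ (t (t x))
    rw [ht, hτ, hτ, map_mul, map_mul, map_mul] at h2
    exact h2.symm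
  have h2 : lam * (τ lam * τ (τ lam)) = 1 := by
    have h3 := h1 x₁
    rw [hx₁, map_one, map_one, map_one, mul_one] at h3
    exact h3
  have h3 : ∀ a, τ (τ (τ a)) = a := by
    intro a
    obtain ⟨x, rfl⟩ := h.exists_A hF a
    have h4 := h1 x
    rw [← mul_assoc, ← mul_assoc, mul_assoc lam, h2, one_mul] at h4
    exact h4
  have h4 : τ = 1 := by
    have h5 : τ ^ 4 = 1 := by
      rw [← hcard]
      exact pow_card_eq_one'
    have h6 : τ ^ 3 = 1 := by
      ext a
      exact h3 a
    have h7 : τ ^ 4 = τ ^ 3 * τ := pow_succ τ 3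
    rw [h5, h6, one_mul] at h7
    exact h7.symm
  have hτ1 : ∀ a, τ a = a := fun a => by rw [h4]; rfl
  simp only [hτ1] at hτ hτ' h2
  -- `lam ^ 3 = 1`
  by_cases hl1 : lam = 1
  · -- the kernel has exponent two
    subst hl1
    simp only [one_mul, one_pow] at hτ hτ'
    have hZ : ∀ z, A z = 0 → t z = z := by
      intro z hz
      apply h.inj
      · rw [hτ, hz]
      · rw [hτ' z hz]
    have hsq : ∀ x, t (t x) = x := by
      intro x
      have h5 : A (x⁻¹ * t x) = 0 := by
        rw [h.A_mul, h.A_inv, hτ, add_self']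
      have h6 := hZ _ h5
      have h7 : t x = x * (x⁻¹ * t x) := by group
      have h8 : x⁻¹ * t x * (x⁻¹ * t x) = 1 := (h.sq_eq_one_iff (by norm_num)).2 h5
      set u := x⁻¹ * t x with hu
      rw [h7, map_mul, h6, h7, mul_assoc, h8, mul_one] 
    obtain ⟨x, hx⟩ := ht1
    apply hx
    have h9 := ht x
    rw [hsq] at h9
    exact h9
  · have hσ2 : ∀ x, mu * (σ mu * σ (σ (A x))) = A x := by
      intro x
      have h5 := hσ (s x)
      rw [hs, hσ, map_mul] at h5
      exact h5.symm
    have hσ3 : mu * σ mu = 1 := by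
      have h5 := hσ2 x₁
      rw [hx₁, map_one, map_one, mul_one] at h5
      exact h5
    have hσ4 : ∀ a, σ (σ a) = a := by
      intro a
      obtain ⟨x, rfl⟩ := h.exists_A hF a
      have h5 := hσ2 x
      rw [← mul_assoc, hσ3, one_mul] at h5
      exact h5
    have hlfix : lam ^ 2 ^ 2 = lam := by
      have h5 : lam ^ 3 = 1 := by
        linear_combination h2
      calc lam ^ 2 ^ 2 = lam ^ 3 * lam := by ring
        _ = lam := by rw [h5, one_mul]
    have hF' : Fintype.card F = (2 ^ 2) ^ 2 := by rw [hF]; norm_num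
    have hσl : σ lam = lam := ringAut_fix (n := 2) (by norm_num) hF' σ hσ4 hlfix
    have h5 := congrArg A (hst x₁)
    rw [hτ, hσ, hτ, hx₁, map_mul, hσl, hσ, hx₁] at h5
    simp only [map_one, mul_one] at h5
    have h6 : mu * (lam ^ 2 - 1) = 0 := by linear_combination h5
    have h7 : lam ^ 2 = 1 := by
      rcases mul_eq_zero.mp h6 with h8 | h8
      · exact absurd h8 hm
      · exact sub_eq_zero.mp h8
    have h8 : (lam - 1) ^ 2 = 0 := by
      have h9 : (2 : F) = 0 := two_F
      linear_combination h7 - lam * h9 + h9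
    exact hl1 (sub_eq_zero.mp (pow_eq_zero_iff (by norm_num) |>.mp h8))

end Cfsg.Agent.Lib.Classical.Herm.SzAutGroup
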